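import Groth.Agent.LeadTorus.Char0Main
import Groth.Agent.H19Fin.MaxTorus
import Groth.Agent.H20Borel.Centre

/-!
# Maximal tori of smooth affine groups over an arbitrary field
-/

set_option autoImplicit false
set_option linter.style.haveILetI false
set_option backward.isDefEq.respectTransparency false
set_option maxHeartbeats 1000000
set_option synthInstance.maxHeartbeats 200000

universe u

open CategoryTheory CategoryTheory.Limits MonoidalCategory CartesianMonoidalCategory MonObj AlgebraicGeometry
open Groth.Agent.H27Witt H20Mu H20Conj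

noncomputable section

namespace Groth.Agent.LeadTorus

variable (k : Type u) [Field k]

/-- A smooth connected affine group over a field has a maximal torus. -/
theorem exists_maximalTorus_connected (G : Over (Spec (CommRingCat.of k))) [GrpObj G] [IsAffine G.left] [Smooth G.hom]
    [ConnectedSpace G.left] : HasMax G := by
  rcases finite_or_infinite k with hf | hi
  · obtain ⟨T, gT, iT, hT, -⟩ := H19Fin.exists_maximalTorus (k := k) G
    exact ⟨T, gT, iT, hT⟩
  · obtain ⟨p, hp⟩ := CharP.exists k
    haveI := hp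
    rcases CharP.char_is_prime_or_zero k p with hpp | rfl
    · haveI : Fact p.Prime := ⟨hpp⟩
      exact exists_maximalTorus_infinite_charP k p G
    · haveI : CharZero k := CharP.charP_to_charZero k
      exact exists_maximalTorus_charZero k G

variable {k}

theorem surjective_zMap (K : Type u) [Field K] [Algebra k K] : Surjective (zMap k K) :=
  ⟨fun x => ⟨IsLocalRing.closedPoint K, Subsingleton.elim (α := PrimeSpectrum k) _ _⟩⟩

/-- A torus mapping to a group lands in the identity component. -/
theorem exists_lift_torus {L G T' : Over (Spec (CommRingCat.of k))} [GrpObj L] [GrpObj G] [GrpObj T'] (j : L ⟶ G)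
    [IsMonHom j] [IsOpenImmersion j.left] [IsClosedImmersion j.left] (hT' : Red.IsTorus T') (b : T' ⟶ G) [IsMonHom b] :
    ∃ b' : T' ⟶ L, IsMonHom b' ∧ b' ≫ j = b := by
  haveI := connectedSpace_of_torus hT'
  haveI : Mono j := Over.mono_of_mono_left _
  obtain ⟨b', hb'⟩ := exists_lift_idComp j
    ⟨(1 : 𝟙_ (Over (Spec (CommRingCat.of k))) ⟶ L).left _, by
      rw [← Scheme.Hom.comp_apply, ← Over.comp_left, MonObj.one_comp]⟩ b
  refine ⟨b', H21Diag.isMonHom_of_mul _ fun {X} a a' => ?_, hb'⟩
  rw [← cancel_mono j, MonObj.mul_comp (a ≫ b') (a' ≫ b') j]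
  simp only [Category.assoc, hb']
  exact MonObj.mul_comp a a' b

/-- A maximal torus of an open and closed subgroup is one of the group. -/
theorem isMaximalTorus_of_openClosed {L G T : Over (Spec (CommRingCat.of k))} [GrpObj L] [GrpObj G] [GrpObj T]
    (j : L ⟶ G) [IsMonHom j] [IsOpenImmersion j.left] [IsClosedImmersion j.left] [IsAffine G.left] [Smooth G.hom]
    [Smooth L.hom] (t : T ⟶ L) (ht : Red.IsMaximalTorus t) : Red.IsMaximalTorus (t ≫ j) := by
  obtain ⟨htm, htmono, hT, -⟩ := id ht
  haveI := htm; haveI := htmono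
  haveI : Mono j := Over.mono_of_mono_left _
  haveI : IsAffine L.left := isAffine_of_isAffineHom j.left
  let K := AlgebraicClosure k
  let z := zMap k K
  let F := Over.pullback z
  haveI := (Over.mapPullbackAdj z).isRightAdjoint
  refine H21Diag.isMaximalTorus_of_bc (t ≫ j) hT z (surjective_zMap K) (isMaximalTorus_of_isMaxTorus ?_)
  haveI := H21Diag.isMonHom_map z (t ≫ j)
  haveI := H21Diag.isMonHom_map z j
  haveI : Mono (F.map (t ≫ j)) := inferInstance
  haveI : IsOpenImmersion (F.map j).left := MorphismProperty.overPullbackMap (P := @IsOpenImmersion) _ _ ‹_›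
  haveI : IsClosedImmersion (F.map j).left := MorphismProperty.overPullbackMap (P := @IsClosedImmersion) _ _ ‹_›
  have hTK : AGF.IsMaxTorus (F.map t) :=
    H20Conj.isMaxTorus_of_isMaximalTorus (H21Diag.isMaximalTorus_bc inferInstance inferInstance t z ht)
  refine ⟨inferInstance, inferInstance, H21Diag.isTorus_bc hT z, fun T' _ b _ _ f hT' hf => ?_⟩
  obtain ⟨b', hb'm, hb'⟩ := exists_lift_torus (F.map j) hT' b
  haveI := hb'm
  haveI : Mono b' := mono_of_mono_fac hb'
  exact hTK.2.2.2 T' b' f hT' (by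
    rw [← cancel_mono (F.map j), Category.assoc, hb', hf, Functor.map_comp])

/-- **A smooth affine group over a field has a maximal torus.** -/
theorem exists_maximalTorus_affine (k : Type u) [Field k] (G : Over (Spec (CommRingCat.of k))) [GrpObj G]
    [IsAffine G.left] [Smooth G.hom] : HasMax G := by
  haveI : QuasiCompact G.hom := inferInstance
  obtain ⟨L, gL, j, hj, hjc, hjo, hLc, hLs, -, -⟩ := H19Chev.exists_smooth_idComp G
  letI := gL; haveI := hj; haveI := hjc; haveI := hjo; haveI := hLc; haveI := hLs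
  haveI : IsAffine L.left := isAffine_of_isAffineHom j.left
  obtain ⟨T, gT, t, ht⟩ := exists_maximalTorus_connected k L
  letI := gT
  exact ⟨T, gT, t ≫ j, isMaximalTorus_of_openClosed j t ht⟩

/-- A subtorus maximal over the base field is maximal over the algebraic closure. -/
theorem isMaximalTorus_of_isMaxTorus_field (G : Over (Spec (CommRingCat.of k))) [GrpObj G] [IsAffine G.left]
    [Smooth G.hom] {T : Over (Spec (CommRingCat.of k))} [GrpObj T] {iT : T ⟶ G} (hmax : AGF.IsMaxTorus iT) :
    Red.IsMaximalTorus iT := by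
  obtain ⟨hiT, hiTm, hT, hm⟩ := id hmax
  haveI := hiT; haveI := hiTm
  obtain ⟨C, gC, c, hc, hcc, hCs⟩ := S5247.result T G (H21Diag.isMultTypeFT_of_isTorus hT) inferInstance inferInstance iT
  letI := gC; haveI := hc.1; haveI := hc.2.1; haveI := hcc; haveI := hCs
  haveI : QuasiCompact C.hom := by rw [← Over.w c]; infer_instance
  obtain ⟨L, gL, j, hj, hjc, hjo, hLc, hLs, -, hj1⟩ := H19Chev.exists_smooth_idComp C
  letI := gL; haveI := hj; haveI := hjc; haveI := hjo; haveI := hLc; haveI := hLs
  haveI : IsAffine C.left := isAffine_of_isAffineHom c.left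
  haveI : IsAffine L.left := isAffine_of_isAffineHom j.left
  haveI : Mono j := Over.mono_of_mono_left _
  obtain ⟨tC, htC⟩ := (hc.2.2 T iT).2 fun X' x h => by
    rw [← MonObj.mul_comp, ← MonObj.mul_comp, H21Diag.mult_comm (H21Diag.isMultTypeFT_of_isTorus hT) (x : X' ⟶ T) h]
  haveI : IsMonHom tC := H20Borel.isMonHom_of_comp_mono tC c (by rw [htC]; exact hiT)
  obtain ⟨tL, htLm, htL⟩ := exists_lift_torus j hT tC
  haveI := htLm
  have htLG : tL ≫ j ≫ c = iT := by rw [← Category.assoc, htL, htC]
  have hcentral : ∀ (X : Over (Spec (CommRingCat.of k))) (x : X ⟶ T) (g : X ⟶ L),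
      (x ≫ tL) * g = g * (x ≫ tL) := fun X x g => by
    rw [← cancel_mono (j ≫ c), MonObj.mul_comp, MonObj.mul_comp, Category.assoc, htLG]
    have h := (hc.2.2 X (g ≫ j ≫ c)).1 ⟨g ≫ j, Category.assoc _ _ _⟩ X (𝟙 X) x
    rw [Category.id_comp] at h
    exact h.symm
  obtain ⟨S, gS, s, hs⟩ := exists_maximalTorus_connected k L
  letI := gS
  obtain ⟨hsm, hsmono, hS, -⟩ := id hs
  haveI := hsm; haveI := hsmono
  haveI : IsClosedImmersion s.left := H21Diag.isClosedImmersion_of_mono
    (H21Diag.isDiagLoc_of_isMultTypeFT (H21Diag.isMultTypeFT_of_isTorus hS)) inferInstance s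
  let K := AlgebraicClosure k
  let z := zMap k K
  let F := Over.pullback z
  haveI := (Over.mapPullbackAdj z).isRightAdjoint
  haveI : IsAffine (Red.bc z L).left := H20Borel.isAffine_bc z L
  haveI : Smooth (Red.bc z L).hom := H20Borel.smooth_bc z L
  haveI : ConnectedSpace (Red.bc z L).left := H20Borel.connected_bc z L
  haveI := H21Diag.isMonHom_map z tL
  obtain ⟨w, hw⟩ := centralInMaxTorus K (Red.bc z L) (Red.bc z S) (F.map s)
    (H20Conj.isMaxTorus_of_isMaximalTorus (H21Diag.isMaximalTorus_bc hLs inferInstance s z hs)) (Red.bc z T)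
    (H21Diag.isMultTypeFT_bc (H21Diag.isMultTypeFT_of_isTorus hT) z) (F.map tL) (bc_central z tL hcentral)
  obtain ⟨w', hw'⟩ := H20Borel.exists_factor_of_bc z s tL w hw
  haveI : Mono (s ≫ j ≫ c) := mono_comp _ _
  haveI : IsIso w' := hm S (s ≫ j ≫ c) w' hS (by rw [← Category.assoc, hw', htLG])
  haveI : Mono tL := mono_of_mono_fac htLG
  have htmax : Red.IsMaximalTorus tL :=
    isMaximalTorus_of_factor s hs tL hT (inv w') (by rw [IsIso.inv_comp_eq, hw'])
  refine H21Diag.isMaximalTorus_of_bc iT hT z (surjective_zMap K) (isMaximalTorus_of_isMaxTorus ?_)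
  haveI := H21Diag.isMonHom_map z iT
  haveI := H21Diag.isMonHom_map z (j ≫ c)
  haveI : Mono (j ≫ c) := mono_comp _ _
  haveI : Mono (F.map iT) := inferInstance
  have hTK : AGF.IsMaxTorus (F.map tL) :=
    H20Conj.isMaxTorus_of_isMaximalTorus (H21Diag.isMaximalTorus_bc hLs inferInstance tL z htmax)
  refine ⟨inferInstance, inferInstance, H21Diag.isTorus_bc hT z, fun T' _ b _ _ f hT' hf => ?_⟩
  obtain ⟨g', hg'⟩ := exists_factor_centralizer_bc z iT c hc b fun X' x h => by
    rw [show F.map iT = f ≫ b from hf.symm, ← Category.assoc h, ← MonObj.mul_comp, ← MonObj.mul_comp,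
      H21Diag.mult_comm (H21Diag.isMultTypeFT_of_isTorus hT') x (h ≫ f)]
  haveI : ConnectedSpace T'.left := connectedSpace_of_torus hT'
  obtain ⟨g'', hg''⟩ := exists_lift_open j g' (PreconnectedSpace.isPreconnected_univ (α := T'.left)) (by
    obtain ⟨p, hp⟩ := map_one_comp z c b g' hg'
    exact ⟨p, hp ▸ hj1⟩)
  have hb' : H21Diag.bcEquiv z L T' g'' ≫ F.map (j ≫ c) = b := by
    rw [show H21Diag.bcEquiv z L T' g'' ≫ F.map (j ≫ c) = H21Diag.bcEquiv z G T' (g'' ≫ j ≫ c) from
      ((Over.mapPullbackAdj z).homEquiv_naturality_right g'' (j ≫ c)).symm, ← Category.assoc, hg'', hg',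
      Equiv.apply_symm_apply]
  haveI : Mono (H21Diag.bcEquiv z L T' g'') := mono_of_mono_fac hb'
  haveI : Mono (F.map (j ≫ c)) := inferInstance
  haveI : IsMonHom (H21Diag.bcEquiv z L T' g'') :=
    H20Borel.isMonHom_of_comp_mono _ (F.map (j ≫ c)) (by rw [hb']; infer_instance)
  exact hTK.2.2.2 T' (H21Diag.bcEquiv z L T' g'') f hT' (by
    rw [← cancel_mono (F.map (j ≫ c)), Category.assoc, hb', hf, ← Functor.map_comp, htLG])

/-- A geometrically maximal torus is maximal over the base field. -/
theorem isMaxTorus_of_isMaximalTorus_field (G : Over (Spec (CommRingCat.of k))) [GrpObj G] [IsAffine G.left]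
    [Smooth G.hom] {T : Over (Spec (CommRingCat.of k))} [GrpObj T] {iT : T ⟶ G} (h : Red.IsMaximalTorus iT) :
    AGF.IsMaxTorus iT := by
  obtain ⟨hiT, hiTm, hT, -⟩ := id h
  refine ⟨hiT, hiTm, hT, fun T' _ j _ _ f hT' hf => ?_⟩
  let z := zMap k (AlgebraicClosure k)
  haveI := (Over.mapPullbackAdj z).isRightAdjoint
  haveI := H21Diag.isMonHom_map z j
  have hK : AGF.IsMaxTorus ((Over.pullback z).map iT) :=
    H20Conj.isMaxTorus_of_isMaximalTorus (H21Diag.isMaximalTorus_bc inferInstance inferInstance iT z h)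
  haveI : IsIso ((Over.pullback z).map f) :=
    hK.2.2.2 (Red.bc z T') ((Over.pullback z).map j) ((Over.pullback z).map f) (H21Diag.isTorus_bc hT' z)
      (by rw [← Functor.map_comp, hf])
  exact H21Diag.isIso_of_isIso_bc z f

/-- Maximality over the base field and geometric maximality agree. -/
theorem isMaxTorus_iff (G : Over (Spec (CommRingCat.of k))) [GrpObj G] [IsAffine G.left]
    [Smooth G.hom] {T : Over (Spec (CommRingCat.of k))} [GrpObj T] (iT : T ⟶ G) :
    AGF.IsMaxTorus iT ↔ Red.IsMaximalTorus iT :=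
  ⟨isMaximalTorus_of_isMaxTorus_field G, isMaxTorus_of_isMaximalTorus_field G⟩

/-- Maximality of a torus is invariant under extension of the field. -/
theorem isMaxTorus_iff_bc (K : Type u) [Field K] [Algebra k K] (G : Over (Spec (CommRingCat.of k))) [GrpObj G]
    [IsAffine G.left] [Smooth G.hom] {T : Over (Spec (CommRingCat.of k))} [GrpObj T] (iT : T ⟶ G) [IsMonHom iT]
    [Mono iT] (hT : Red.IsTorus T) :
    AGF.IsMaxTorus iT ↔ AGF.IsMaxTorus ((Over.pullback (zMap k K)).map iT) := by
  haveI : IsAffine (Red.bc (zMap k K) G).left := H20Borel.isAffine_bc _ G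
  haveI : Smooth (Red.bc (zMap k K) G).hom := H20Borel.smooth_bc _ G
  rw [isMaxTorus_iff G iT]
  exact ⟨fun h => isMaxTorus_of_isMaximalTorus_field _
      (H21Diag.isMaximalTorus_bc inferInstance inferInstance iT _ h),
    fun h => H21Diag.isMaximalTorus_of_bc iT hT _ (surjective_zMap K) (isMaximalTorus_of_isMaxTorus_field _ h)⟩

end Groth.Agent.LeadTorus
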