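import Groth.Agent.LeadTorus.Assemble
import Groth.Agent.H19Chev.IdComp
import Groth.Agent.H19Chev.Complement
import Groth.Agent.H20Borel.DiagRep
import Groth.Agent.S5247
import Mathlib.RingTheory.KrullDimension.NonZeroDivisors

/-!
# A non-central subgroup of multiplicative type reduces the dimension
-/

set_option autoImplicit false
set_option linter.style.haveILetI false
set_option backward.isDefEq.respectTransparency false
set_option synthInstance.maxHeartbeats 400000
set_option maxHeartbeats 1000000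

universe u

open CategoryTheory CategoryTheory.Limits MonoidalCategory CartesianMonoidalCategory MonObj GrpObj AlgebraicGeometry

noncomputable section

namespace Groth.Agent.LeadTorus

/-- Central homomorphisms from groups of multiplicative type factor through all maximal tori. -/
def CentralInMaxTorus (K : Type u) [Field K] : Prop :=
  ∀ (G : Over (Spec (CommRingCat.of K))) [GrpObj G] [IsAffine G.left] [Smooth G.hom] [ConnectedSpace G.left]
    (T : Over (Spec (CommRingCat.of K))) [GrpObj T] (iT : T ⟶ G) (_ : AGF.IsMaxTorus iT)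
    (H : Over (Spec (CommRingCat.of K))) [GrpObj H] (_ : SGA3x.IsMultTypeFT H) (u : H ⟶ G) [IsMonHom u],
    (∀ (X : Over (Spec (CommRingCat.of K))) (x : X ⟶ H) (g : X ⟶ G), (x ≫ u) * g = g * (x ≫ u)) →
      ∃ w : H ⟶ T, w ≫ iT = u

/-- A proper closed subscheme of an integral affine scheme of finite type has smaller dimension. -/
theorem dim_add_one_le {R A : Type u} [CommRing R] [CommRing A] [IsDomain A] (φ : A →+* R)
    (hφ : Function.Surjective φ) (hne : ¬ Function.Injective φ) : ringKrullDim R + 1 ≤ ringKrullDim A := by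
  obtain ⟨r, hr, hr0⟩ : ∃ r, φ r = 0 ∧ r ≠ 0 := by
    by_contra h
    push Not at h
    exact hne ((injective_iff_map_eq_zero φ).2 h)
  refine le_trans (add_le_add ?_ le_rfl)
    (ringKrullDim_quotient_succ_le_of_nonZeroDivisor (mem_nonZeroDivisors_of_ne_zero hr0))
  exact ringKrullDim_le_of_surjective (Ideal.Quotient.lift (Ideal.span {r}) φ fun x hx => by
      obtain ⟨y, rfl⟩ := Ideal.mem_span_singleton'.1 hx
      rw [map_mul, hr, mul_zero])
    fun y => by
      obtain ⟨x, rfl⟩ := hφ y
      exact ⟨Ideal.Quotient.mk _ x, rfl⟩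

/-- A proper closed subscheme of an integral affine scheme has smaller dimension. -/
theorem topologicalKrullDim_add_one_le {Y X : Scheme.{u}} (j : Y ⟶ X) [IsClosedImmersion j] [IsAffine X]
    [IsIntegral X] (hne : ¬ IsIso j) : topologicalKrullDim ↥Y + 1 ≤ topologicalKrullDim ↥X := by
  haveI : IsAffine Y := isAffine_of_isAffineHom j
  haveI : IsDomain Γ(X, ⊤) := inferInstance
  have hs : Function.Surjective j.appTop := (IsClosedImmersion.isAffine_surjective_of_isAffine j).2
  have hd : ∀ Z : Scheme.{u}, IsAffine Z → topologicalKrullDim ↥Z = ringKrullDim Γ(Z, ⊤) := fun Z hZ => by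
    rw [IsHomeomorph.topologicalKrullDim_eq _ (Z.isoSpec.hom.homeomorph.isHomeomorph)]
    exact PrimeSpectrum.topologicalKrullDim_eq_ringKrullDim _
  rw [hd Y inferInstance, hd X inferInstance]
  refine dim_add_one_le j.appTop.hom hs fun hinj => hne ?_
  haveI : IsIso j.appTop := (ConcreteCategory.isIso_iff_bijective _).mpr ⟨hinj, hs⟩
  exact (MorphismProperty.isomorphisms Scheme).arrow_mk_iso_iff (arrowIsoSpecΓOfIsAffine j) |>.mpr
    (inferInstanceAs (IsIso (Spec.map j.appTop)))

/-- A connected scheme through the identity lands in the identity component. -/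
theorem exists_lift_open {k : Type u} [Field k] {L G X : Over (Spec (CommRingCat.of k))} (j : L ⟶ G)
    [IsOpenImmersion j.left] [IsClosedImmersion j.left] (f : X ⟶ G) (hX : _root_.IsPreconnected (Set.univ : Set X.left))
    (hne : ∃ x : X.left, f.left x ∈ Set.range j.left) : ∃ f' : X ⟶ L, f' ≫ j = f := by
  have hr : IsClopen (Set.range j.left) := ⟨j.left.isClosedEmbedding.isClosed_range, j.left.isOpenEmbedding.isOpen_range⟩
  have hsub : Set.range f.left ⊆ Set.range j.left := by
    rw [← Set.image_univ]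
    refine (hX.image _ f.left.continuous.continuousOn).subset_isClopen hr ?_
    obtain ⟨x, hx⟩ := hne
    exact ⟨f.left x, ⟨x, trivial, rfl⟩, hx⟩
  exact ⟨Over.homMk (IsOpenImmersion.lift j.left f.left hsub)
      (by rw [← Over.w j, ← Category.assoc, IsOpenImmersion.lift_fac, Over.w f]),
    Over.OverMorphism.ext (IsOpenImmersion.lift_fac _ _ _)⟩

/-- A homomorphism from a connected group lands in the identity component. -/
theorem exists_lift_idComp {k : Type u} [Field k] {L G X : Over (Spec (CommRingCat.of k))} [GrpObj G] [GrpObj X]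
    (j : L ⟶ G) [IsOpenImmersion j.left] [IsClosedImmersion j.left]
    (h1 : Groth.Agent.H25AbCube.Stab.pnt (1 : 𝟙_ (Over (Spec (CommRingCat.of k))) ⟶ G) ∈ Set.range j.left)
    (f : X ⟶ G) [IsMonHom f] [ConnectedSpace X.left] : ∃ f' : X ⟶ L, f' ≫ j = f := by
  refine exists_lift_open j f PreconnectedSpace.isPreconnected_univ
    ⟨Groth.Agent.H25AbCube.Stab.pnt (1 : 𝟙_ (Over (Spec (CommRingCat.of k))) ⟶ X), ?_⟩
  show f.left ((1 : 𝟙_ (Over (Spec (CommRingCat.of k))) ⟶ X).left _) ∈ _
  rw [← Scheme.Hom.comp_apply, ← Over.comp_left, MonObj.one_comp]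
  exact h1

/-- The points commuting with a base changed homomorphism factor through the centralizer. -/
theorem exists_factor_centralizer_bc {A S : Scheme.{u}} (z : A ⟶ S) {G H C : Over S} [GrpObj G] [GrpObj H] [GrpObj C]
    (v : H ⟶ G) (c : C ⟶ G) (hc : Red.IsCentralizerOf v c) {X : Over A} (g : X ⟶ Red.bc z G)
    (hcomm : ∀ (X' : Over A) (x : X' ⟶ X) (h : X' ⟶ Red.bc z H),
      (x ≫ g) * (h ≫ (Over.pullback z).map v) = (h ≫ (Over.pullback z).map v) * (x ≫ g)) :
    ∃ g' : (Over.map z).obj X ⟶ C, g' ≫ c = (H21Diag.bcEquiv z G X).symm g := by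
  refine (hc.2.2 _ _).2 fun X' x h => ?_
  let X'' : Over A := Over.mk (x.left ≫ X.hom)
  let i : X' ≅ (Over.map z).obj X'' := Over.isoMk (Iso.refl _) (by
    change 𝟙 _ ≫ (x.left ≫ X.hom) ≫ z = X'.hom
    rw [Category.id_comp, Category.assoc]
    exact Over.w x)
  let x'' : X'' ⟶ X := Over.homMk x.left rfl
  have hx : x = i.hom ≫ (Over.map z).map x'' := Over.OverMorphism.ext (Category.id_comp _).symm
  have h1 := congrArg (fun m => i.hom ≫ (H21Diag.bcEquiv z G X'').symm m)
    (hcomm X'' x'' (H21Diag.bcEquiv z H X'' (i.inv ≫ h)))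
  have hh : (H21Diag.bcEquiv z G X'').symm (H21Diag.bcEquiv z H X'' (i.inv ≫ h) ≫ (Over.pullback z).map v) =
      (i.inv ≫ h) ≫ v := by
    rw [Equiv.symm_apply_eq]
    exact ((Over.mapPullbackAdj z).homEquiv_naturality_right (i.inv ≫ h) v).symm
  have hg : (H21Diag.bcEquiv z G X'').symm (x'' ≫ g) = (Over.map z).map x'' ≫ (H21Diag.bcEquiv z G X).symm g :=
    (Over.mapPullbackAdj z).homEquiv_naturality_left_symm x'' g
  simp only [H21Diag.bcEquiv_symm_mul, MonObj.comp_mul, hh, hg] at h1
  simp only [← Category.assoc, ← hx, Iso.hom_inv_id, Category.id_comp] at h1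
  exact h1

/-- The identity of the base changed group lies over the identity. -/
theorem map_one_comp {k K : Type u} [Field k] [Field K] (z : Spec (CommRingCat.of K) ⟶ Spec (CommRingCat.of k))
    {C G : Over (Spec (CommRingCat.of k))} [GrpObj C] [GrpObj G] (c : C ⟶ G) [IsMonHom c] [Mono c]
    {X : Over (Spec (CommRingCat.of K))} [GrpObj X] (b : X ⟶ Red.bc z G) [IsMonHom b]
    (g' : (Over.map z).obj X ⟶ C) (hg' : g' ≫ c = (H21Diag.bcEquiv z G X).symm b) :
    ∃ p : X.left, Groth.Agent.H25AbCube.Stab.pnt (1 : 𝟙_ (Over (Spec (CommRingCat.of k))) ⟶ C) = g'.left p := by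
  let W := (Over.map z).obj (𝟙_ (Over (Spec (CommRingCat.of K))))
  let e : W ⟶ (Over.map z).obj X := (Over.map z).map (1 : 𝟙_ (Over (Spec (CommRingCat.of K))) ⟶ X)
  have he : e ≫ g' = (1 : W ⟶ C) := by
    rw [← cancel_mono c, Category.assoc, hg', MonObj.one_comp]
    refine ((Over.mapPullbackAdj z).homEquiv_naturality_left_symm _ b).symm.trans ?_
    rw [MonObj.one_comp]
    have h := H21Diag.bcEquiv_symm_mul z G (𝟙_ (Over (Spec (CommRingCat.of K)))) 1 1
    rw [_root_.one_mul] at h
    exact mul_eq_left.mp h.symm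
  refine ⟨(1 : 𝟙_ (Over (Spec (CommRingCat.of K))) ⟶ X).left (IsLocalRing.closedPoint K), ?_⟩
  have h1 := congrArg (fun m : W ⟶ C => m.left (IsLocalRing.closedPoint K)) he
  have h2 : (1 : W ⟶ C) = toUnit W ≫ (1 : 𝟙_ (Over (Spec (CommRingCat.of k))) ⟶ C) := (MonObj.comp_one _).symm
  rw [h2] at h1
  refine Eq.trans ?_ h1.symm
  change (1 : 𝟙_ (Over (Spec (CommRingCat.of k))) ⟶ C).left _ = (1 : 𝟙_ (Over (Spec (CommRingCat.of k))) ⟶ C).left _
  exact congrArg _ (Subsingleton.elim (α := PrimeSpectrum k) _ _)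

variable (k : Type u) [Field k]

/-- A non-central homomorphism from a connected group of multiplicative type reduces the problem to a smaller group. -/
theorem exists_of_noncentral (hP : CentralInMaxTorus (AlgebraicClosure k))
    (G : Over (Spec (CommRingCat.of k))) [GrpObj G] [IsAffine G.left] [Smooth G.hom] [ConnectedSpace G.left]
    (IH : ∀ (Z : Over (Spec (CommRingCat.of k))) [GrpObj Z] [IsAffine Z.left] [Smooth Z.hom] [ConnectedSpace Z.left],
      topologicalKrullDim ↥Z.left + 1 ≤ topologicalKrullDim ↥G.left →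
        ∃ (T : Over (Spec (CommRingCat.of k))) (_ : GrpObj T) (iT : T ⟶ Z), Red.IsMaximalTorus iT)
    (H : Over (Spec (CommRingCat.of k))) [GrpObj H] (hH : SGA3x.IsMultTypeFT H) [ConnectedSpace H.left]
    (v : H ⟶ G) [IsMonHom v]
    (hnc : ¬ ∀ (X : Over (Spec (CommRingCat.of k))) (x : X ⟶ H) (g : X ⟶ G), (x ≫ v) * g = g * (x ≫ v)) :
    ∃ (T : Over (Spec (CommRingCat.of k))) (_ : GrpObj T) (iT : T ⟶ G), Red.IsMaximalTorus iT := by
  obtain ⟨C, gC, c, hc, hcc, hCs⟩ := S5247.result H G hH inferInstance inferInstance v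
  letI := gC; haveI := hc.1; haveI := hc.2.1; haveI := hcc; haveI := hCs
  haveI : QuasiCompact C.hom := by rw [← Over.w c]; infer_instance
  obtain ⟨L, gL, j, hj, hjc, hjo, hLc, hLs, -, hj1⟩ := H19Chev.exists_smooth_idComp C
  letI := gL; haveI := hj; haveI := hjc; haveI := hjo; haveI := hLc; haveI := hLs
  haveI : IsClosedImmersion (j ≫ c).left := by rw [Over.comp_left]; infer_instance
  haveI : IsAffine L.left := isAffine_of_isAffineHom (j ≫ c).left
  haveI : Mono (j ≫ c) := Over.mono_of_mono_left _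
  haveI : GeometricallyIntegral G.hom := H19Chev.geometricallyIntegral_grp G
  haveI : IsIntegral G.left := GeometricallyIntegral.isIntegral_of_subsingleton G.hom
  have hlt : topologicalKrullDim ↥L.left + 1 ≤ topologicalKrullDim ↥G.left := by
    refine topologicalKrullDim_add_one_le (j ≫ c).left fun hiso => hnc fun X x g => ?_
    haveI : IsIso (j ≫ c) := by
      haveI : IsIso ((Over.forget _).map (j ≫ c)) := hiso
      exact isIso_of_reflects_iso (j ≫ c) (Over.forget _)
    have h := (hc.2.2 X g).1 ⟨g ≫ inv (j ≫ c) ≫ j, by rw [Category.assoc, Category.assoc, IsIso.inv_hom_id, Category.comp_id]⟩ X (𝟙 X) x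
    rw [Category.id_comp] at h
    exact h.symm
  obtain ⟨T, gT, t, ht⟩ := IH L hlt
  letI := gT
  obtain ⟨htm, htmono, hTT, -⟩ := id ht
  haveI := htm; haveI := htmono
  haveI : Mono (t ≫ j ≫ c) := mono_comp _ _
  refine ⟨T, gT, t ≫ j ≫ c, H21Diag.isMaximalTorus_of_bc (t ≫ j ≫ c) hTT
    (Spec.map (CommRingCat.ofHom (algebraMap k (AlgebraicClosure k))))
    ⟨fun x => ⟨IsLocalRing.closedPoint _, Subsingleton.elim (α := PrimeSpectrum k) _ _⟩⟩
    (isMaximalTorus_of_isMaxTorus ?_)⟩
  let K := AlgebraicClosure k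
  let z := Spec.map (CommRingCat.ofHom (algebraMap k K))
  let F := Over.pullback z
  haveI := (Over.mapPullbackAdj z).isRightAdjoint
  haveI := H21Diag.isMonHom_map z (t ≫ j ≫ c)
  haveI := H21Diag.isMonHom_map z (j ≫ c)
  haveI := H21Diag.isMonHom_map z t
  haveI := H21Diag.isMonHom_map z v
  haveI : Mono (F.map (t ≫ j ≫ c)) := inferInstance
  haveI : Mono (F.map (j ≫ c)) := inferInstance
  refine ⟨inferInstance, inferInstance, H21Diag.isTorus_bc hTT z, fun T' _ b _ _ f hT' hf => ?_⟩
  haveI : Smooth (Red.bc z L).hom := MorphismProperty.pullback_snd (P := @Smooth) _ _ inferInstance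
  haveI : IsAffine (Red.bc z L).left := inferInstanceAs (IsAffine (pullback L.hom z))
  haveI : ConnectedSpace (Red.bc z L).left := by
    haveI : GeometricallyIntegral L.hom := H19Chev.geometricallyIntegral_grp L
    haveI : IsIntegral (Red.bc z L).left := GeometricallyIntegral.geometrically_isIntegral (f := L.hom) z _ _ (IsPullback.of_hasPullback _ _)
    infer_instance
  have hTK : AGF.IsMaxTorus (F.map t) :=
    H20Conj.isMaxTorus_of_isMaximalTorus (H21Diag.isMaximalTorus_bc hLs inferInstance t z ht)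
  -- the group of multiplicative type lies in the maximal torus
  have hvC : ∃ v' : H ⟶ C, v' ≫ c = v := (hc.2.2 H v).2 fun X' x h => by
    rw [← MonObj.mul_comp, ← MonObj.mul_comp, H21Diag.mult_comm hH (x : X' ⟶ H) h]
  obtain ⟨v', hv'⟩ := hvC
  haveI : IsMonHom v' := H21Diag.isMonHom_of_mul _ fun {X} a b => by
    rw [← cancel_mono c, MonObj.mul_comp (a ≫ v') (b ≫ v') c]
    simp only [Category.assoc, hv']
    exact MonObj.mul_comp a b v
  obtain ⟨v'', hv''⟩ := exists_lift_idComp j hj1 v'
  haveI : Mono j := Over.mono_of_mono_left _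
  haveI : IsMonHom v'' := H21Diag.isMonHom_of_mul _ fun {X} a b => by
    rw [← cancel_mono j, MonObj.mul_comp (a ≫ v'') (b ≫ v'') j]
    simp only [Category.assoc, hv'']
    exact MonObj.mul_comp a b v'
  haveI := H21Diag.isMonHom_map z v''
  have hvcent : ∀ (X : Over (Spec (CommRingCat.of K))) (x : X ⟶ Red.bc z H) (g : X ⟶ Red.bc z L),
      (x ≫ F.map v'') * g = g * (x ≫ F.map v'') := fun X x g => by
    apply (H21Diag.bcEquiv z L X).symm.injective
    rw [H21Diag.bcEquiv_symm_mul, H21Diag.bcEquiv_symm_mul,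
      show (H21Diag.bcEquiv z L X).symm (x ≫ F.map v'') = (H21Diag.bcEquiv z H X).symm x ≫ v'' from
        (Over.mapPullbackAdj z).homEquiv_naturality_right_symm x v'']
    set x₀ := (H21Diag.bcEquiv z H X).symm x
    set g₀ := (H21Diag.bcEquiv z L X).symm g
    rw [← cancel_mono (j ≫ c), MonObj.mul_comp, MonObj.mul_comp]
    have h := (hc.2.2 _ (g₀ ≫ j ≫ c)).1 ⟨g₀ ≫ j, Category.assoc _ _ _⟩ _ (𝟙 _) x₀
    rw [Category.id_comp] at h
    rw [Category.assoc x₀ v'', show v'' ≫ j ≫ c = v by rw [← Category.assoc, hv'', hv']]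
    exact h.symm
  obtain ⟨w, hw⟩ := hP (Red.bc z L) (Red.bc z T) (F.map t) hTK (Red.bc z H) (H21Diag.isMultTypeFT_bc hH z)
    (F.map v'') hvcent
  have hb : ∃ b' : T' ⟶ Red.bc z L, b' ≫ F.map (j ≫ c) = b := by
    obtain ⟨g', hg'⟩ := exists_factor_centralizer_bc z v c hc b fun X' x h => by
      have hvf : F.map v = w ≫ f ≫ b := by
        rw [hf, ← hv', ← hv'']
        simp only [F, Functor.map_comp, Category.assoc]
        rw [← Category.assoc w, hw]
      rw [hvf, ← Category.assoc w, ← Category.assoc h, ← MonObj.mul_comp, ← MonObj.mul_comp,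
        H21Diag.mult_comm (H21Diag.isMultTypeFT_of_isTorus hT') x (h ≫ w ≫ f)]
    haveI : ConnectedSpace T'.left := (H20Borel.torus_props T' hT').2.2
    obtain ⟨g'', hg''⟩ := exists_lift_open j g' (PreconnectedSpace.isPreconnected_univ (α := T'.left)) (by
      obtain ⟨p, hp⟩ := map_one_comp z c b g' hg'
      exact ⟨p, hp ▸ hj1⟩)
    refine ⟨H21Diag.bcEquiv z L T' g'', ?_⟩
    rw [show H21Diag.bcEquiv z L T' g'' ≫ F.map (j ≫ c) = H21Diag.bcEquiv z G T' (g'' ≫ j ≫ c) from
      ((Over.mapPullbackAdj z).homEquiv_naturality_right g'' (j ≫ c)).symm, ← Category.assoc, hg'', hg',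
      Equiv.apply_symm_apply]
  obtain ⟨b', hb'⟩ := hb
  haveI : Mono b' := mono_of_mono_fac hb'
  haveI : IsMonHom b' := H21Diag.isMonHom_of_mul _ fun {X} a a' => by
    rw [← cancel_mono (F.map (j ≫ c)), MonObj.mul_comp (a ≫ b') (a' ≫ b') (F.map (j ≫ c))]
    simp only [Category.assoc, hb']
    exact MonObj.mul_comp a a' b
  exact hTK.2.2.2 T' b' f hT' (by
    rw [← cancel_mono (F.map (j ≫ c)), Category.assoc, hb', hf, Functor.map_comp])

end Groth.Agent.LeadTorus
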