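import Groth.Agent.LeadTorus.AnyGroup
import Groth.Agent.LeadTorus.NonCentral
import Groth.Agent.H18PBC.AbCover.Basic
import Groth.Agent.H19Chev.QuasiComplement
import Groth.Agent.H19Fin.MaxTorus
import Groth.Agent.H21Diag.CentralFactor
import Groth.Agent.H21Diag.MaxTorusBc
import Groth.Agent.H21Diag.MaxTorus
import Groth.Agent.H21Diag.IntegrateLoc
import Groth.Agent.H21Mono.MultTypeFG
import Groth.Agent.H7Flat.ThickeningHom
import Groth.Agent.H24FSch.Descend
import Groth.Agent.H19Grp.ArtinHom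
import Groth.Agent.H19Grp.QuasiFiniteHom
import Groth.Agent.H19SemiAb.Quot
import Groth.Agent.H20Conj.Image
import Groth.Agent.S2979
import Groth.Agent.S2973
import Groth.Agent.S3006

/-!
# Maximal tori of smooth groups over artinian local rings
-/

set_option autoImplicit false
set_option linter.style.haveILetI false
set_option linter.unusedSectionVars false
set_option backward.isDefEq.respectTransparency false
set_option maxHeartbeats 4000000
set_option synthInstance.maxHeartbeats 400000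

universe u

open CategoryTheory CategoryTheory.Limits MonoidalCategory CartesianMonoidalCategory MonObj AlgebraicGeometry
open Groth.Agent.H27Witt H20Mu H20Conj

noncomputable section

namespace Groth.Agent.LeadTorus

/-- A torus commuting with a maximal one lies in it, in any algebraic group over an algebraically closed field. -/
theorem exists_factor_of_max_comm {K : Type u} [Field K] [IsAlgClosed K] {G T R : Over (Sk K)} [GrpObj G] [GrpObj T]
    [GrpObj R] [LocallyOfFiniteType G.hom] (i : T ⟶ G) [IsMonHom i] (hT : Red.IsTorus T)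
    (hmax : ∀ (T' : Over (Sk K)) [GrpObj T'] (b : T' ⟶ G) [IsMonHom b] [Mono b] (f : T ⟶ T'),
      Red.IsTorus T' → f ≫ b = i → IsIso f)
    (u : R ⟶ G) [IsMonHom u] (hR : Red.IsTorus R)
    (hcomm : ∀ (X : Over (Sk K)) (t : X ⟶ T) (r : X ⟶ R), (t ≫ i) * (r ≫ u) = (r ≫ u) * (t ≫ i)) :
    ∃ w : R ⟶ T, w ≫ i = u := by
  haveI : IsSeparated G.hom := H19Grp.AffineQuotient.isSeparated_of_grp G
  obtain ⟨hTa, hTs, hTc, hTcm⟩ := H19SemiAb.torus_props T hT
  obtain ⟨hRa, hRs, hRc, hRcm⟩ := H19SemiAb.torus_props R hR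
  haveI := hTa; haveI := hTs; haveI := hTc; haveI := hTcm
  haveI := hRa; haveI := hRs; haveI := hRc; haveI := hRcm
  let L : Over (Sk K) := T ⊗ R
  haveI : Smooth L.hom := H19Grp.PointsDense.smooth_tensor T R
  haveI : IsAffineHom T.hom := inferInstance
  haveI : IsAffineHom R.hom := inferInstance
  haveI : IsAffine L.left :=
    have : IsAffineHom (pullback.fst T.hom R.hom) := MorphismProperty.pullback_fst (P := @IsAffineHom) _ _ inferInstance
    isAffine_of_isAffineHom (pullback.fst T.hom R.hom)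
  haveI : ConnectedSpace L.left := H18PBC.AbCover.connectedSpace_tensor T R
  haveI : IsCommMonObj L := H19SemiAb.isCommMonObj_of_comm fun X a b => by
    refine CartesianMonoidalCategory.hom_ext _ _ ?_ ?_
    · rw [MonObj.mul_comp, MonObj.mul_comp, H21Rank1.isTorus_comm hT]
    · rw [MonObj.mul_comp, MonObj.mul_comp, H21Rank1.isTorus_comm hR]
  haveI : IsMonHom (lift (𝟙 T) (1 : T ⟶ R)) := inferInstance
  haveI : Surjective (snd T R).left := by
    haveI : Surjective T.hom := ⟨fun x => ⟨Classical.arbitrary T.left, Subsingleton.elim (α := PrimeSpectrum K) _ _⟩⟩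
    exact MorphismProperty.pullback_snd (P := @Surjective) T.hom R.hom inferInstance
  haveI : Flat (snd T R).left := MorphismProperty.pullback_snd (P := @Flat) T.hom R.hom inferInstance
  have hk : AlgGrp.IsKernel (lift (𝟙 T) (1 : T ⟶ R)) (snd T R) := by
    refine ⟨⟨by rw [lift_snd, Hom.one_def]⟩, ⟨PullbackCone.IsLimit.mk _
      (fun s => s.fst ≫ fst T R) (fun s => ?_) (fun s => toUnit_unique _ _) (fun s m h1 _ => ?_)⟩⟩
    · refine CartesianMonoidalCategory.hom_ext _ _ ?_ ?_
      · simp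
      · rw [Category.assoc, lift_snd, MonObj.comp_one, s.condition, Hom.one_def, toUnit_unique s.snd (toUnit _)]
    · rw [← h1, Category.assoc, lift_fst, Category.comp_id]
  have hL : Red.IsTorus L := H19SemiAb.isTorus_of_extension L T R (lift (𝟙 T) (1 : T ⟶ R)) (snd T R) hk hT hR
  let m : L ⟶ G := (i ⊗ₘ u) ≫ μ[G]
  haveI : IsMonHom m := H19Chev.isMonHom_mul_map i u hcomm
  obtain ⟨n, ⟨e⟩⟩ := H21Diag.exists_DS_iso_algClosed L hL
  let f₀ : Red.DS (Sk K) (Fin n → ℤ) ⟶ G := e.inv.hom.hom ≫ m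
  haveI : IsMonHom e.inv.hom.hom := inferInstance
  haveI : IsMonHom f₀ := inferInstanceAs (IsMonHom (e.inv.hom.hom ≫ m))
  obtain ⟨Q, gQ, j, hj, hjm, hQ, q, hq⟩ := H20Conj.exists_image_torus f₀
  letI := gQ; haveI := hj; haveI := hjm
  have hm : m = (e.hom.hom.hom ≫ q) ≫ j := by
    rw [Category.assoc, hq]
    show m = e.hom.hom.hom ≫ e.inv.hom.hom ≫ m
    rw [← Category.assoc, show e.hom.hom.hom ≫ e.inv.hom.hom = 𝟙 _ from
      congrArg (fun w => w.hom.hom) e.hom_inv_id]
    exact (Category.id_comp m).symm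
  have h1 : lift (𝟙 T) (1 : T ⟶ R) ≫ m = i := by
    rw [show lift (𝟙 T) (1 : T ⟶ R) ≫ m = ((𝟙 T) ≫ i) * ((1 : T ⟶ R) ≫ u) by
      simp only [m, Hom.mul_def, ← Category.assoc, lift_map], MonObj.one_comp, _root_.mul_one, Category.id_comp]
  have h2 : lift (1 : R ⟶ T) (𝟙 R) ≫ m = u := by
    rw [show lift (1 : R ⟶ T) (𝟙 R) ≫ m = ((1 : R ⟶ T) ≫ i) * ((𝟙 R) ≫ u) by
      simp only [m, Hom.mul_def, ← Category.assoc, lift_map], MonObj.one_comp, _root_.one_mul, Category.id_comp]
  let a : T ⟶ Q := lift (𝟙 T) (1 : T ⟶ R) ≫ e.hom.hom.hom ≫ q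
  let b : R ⟶ Q := lift (1 : R ⟶ T) (𝟙 R) ≫ e.hom.hom.hom ≫ q
  have ha : a ≫ j = i := by
    rw [hm] at h1
    simpa only [a, Category.assoc] using h1
  have hb : b ≫ j = u := by
    rw [hm] at h2
    simpa only [b, Category.assoc] using h2
  haveI : IsIso a := hmax Q j a hQ ha
  refine ⟨b ≫ inv a, ?_⟩
  calc (b ≫ inv a) ≫ i = (b ≫ inv a) ≫ a ≫ j := congrArg ((b ≫ inv a) ≫ ·) ha.symm
    _ = b ≫ j := by rw [Category.assoc, IsIso.inv_hom_id_assoc]
    _ = u := hb

variable {A : Type u} [CommRing A] [IsArtinianRing A] [IsLocalRing A]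

local notation "SA" => Spec (CommRingCat.of A)

/-- Smooth groups over artinian local rings are separated. -/
theorem isSeparated_artinian (G : Over SA) [GrpObj G] [LocallyOfFiniteType G.hom] : IsSeparated G.hom := by
  let m := IsLocalRing.maximalIdeal A
  letI : Field (A ⧸ m) := Ideal.Quotient.field m
  let q : Spec (CommRingCat.of (A ⧸ m)) ⟶ SA := Spec.map (CommRingCat.ofHom (Ideal.Quotient.mk m))
  haveI : IsClosedImmersion q := IsClosedImmersion.spec_of_surjective _ Ideal.Quotient.mk_surjective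
  haveI : Surjective q := H19Grp.ArtinHom.surjective_residue (A := A)
  letI : GrpObj (Red.bc q G) := inferInstance
  haveI : IsSeparated (pullback.snd G.hom q) := H19Grp.AffineQuotient.isSeparated_of_grp (Red.bc q G)
  haveI : IsClosedImmersion (pullback.fst G.hom q) := MorphismProperty.pullback_fst (P := @IsClosedImmersion) _ _ ‹_›
  haveI : Surjective (pullback.fst G.hom q) := MorphismProperty.pullback_fst (P := @Surjective) _ _ ‹_›
  exact H24FSch.isSeparated_of_thickening (f₀ := pullback.snd G.hom q) (iY := q) (iX := pullback.fst G.hom q)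
    pullback.condition.symm

/-- A maximal torus of the special fibre lifts. -/
theorem exists_maximalTorus_artinian (G : Over SA) [GrpObj G] [Smooth G.hom] [QuasiCompact G.hom] :
    ∃ (T : Over SA) (_ : GrpObj T) (i : T ⟶ G), Red.IsMaximalTorus i := by
  let J := IsLocalRing.maximalIdeal A
  letI : Field (A ⧸ J) := Ideal.Quotient.field J
  have hJ : IsNilpotent J := by
    rw [show J = Ideal.jacobson (⊥ : Ideal A) from (IsLocalRing.jacobson_eq_maximalIdeal ⊥ bot_ne_top).symm]
    exact IsArtinianRing.isNilpotent_jacobson_bot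
  let q : Spec (CommRingCat.of (A ⧸ J)) ⟶ SA := Spec.map (CommRingCat.ofHom (Ideal.Quotient.mk J))
  haveI : IsClosedImmersion q := IsClosedImmersion.spec_of_surjective _ Ideal.Quotient.mk_surjective
  haveI : Surjective q := H19Grp.ArtinHom.surjective_residue (A := A)
  haveI := (Over.mapPullbackAdj q).isRightAdjoint
  haveI hGs : Smooth G.hom := inferInstance
  haveI : Smooth (Red.bc q G).hom := MorphismProperty.pullback_snd (P := @Smooth) _ _ hGs
  haveI : QuasiCompact (Red.bc q G).hom := MorphismProperty.pullback_snd (P := @QuasiCompact) _ _ inferInstance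
  haveI : LocallyOfFiniteType (Red.bc q G).hom := inferInstance
  haveI : IsSeparated (Red.bc q G).hom := H19Grp.AffineQuotient.isSeparated_of_grp _
  obtain ⟨H₀, gH₀, j₀, hj₀⟩ := exists_maximalTorus_smooth (k := A ⧸ J) (Red.bc q G)
  letI := gH₀
  obtain ⟨hj₀h, hj₀m, hH₀, -⟩ := id hj₀
  haveI := hj₀h; haveI := hj₀m
  have hft₀ : SGA3x.IsMultTypeFT H₀ := H21Diag.isMultTypeFT_of_isTorus hH₀
  haveI : IsAffineHom H₀.hom := H21Diag.isAffineHom_of_multTypeFT hft₀
  haveI : LocallyOfFiniteType H₀.hom := H21Diag.lft_of_multTypeFT hft₀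
  haveI : QuasiCompact j₀.left := by
    haveI : QuasiCompact (j₀.left ≫ (Red.bc q G).hom) := by rw [Over.w j₀]; infer_instance
    exact QuasiCompact.of_comp j₀.left (Red.bc q G).hom
  haveI : IsClosedImmersion j₀.left := H19Grp.QuasiFiniteHom.isClosedImmersion_of_mono j₀
  obtain ⟨A₀, _, _, ⟨e₀⟩, -, hfp⟩ := Groth.Agent.H21Hom.exists_model H₀
  haveI := hfp (Groth.Agent.H21Diag.lfp_of_multTypeFT hft₀)
  have hm₀ := Groth.Agent.H21Hom.isMultType_of_specGrp (Groth.Agent.H21Hom.isMultTypeFT_of_iso hft₀ e₀)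
  have hJ' : ∀ x ∈ J, IsNilpotent x := fun x hx => by
    obtain ⟨n, hn⟩ := hJ
    exact ⟨n, (Ideal.mem_bot).mp (by rw [← Ideal.zero_eq_bot, ← hn]; exact Ideal.pow_mem_pow hx n)⟩
  obtain ⟨B, _, _, hB, ⟨eB⟩⟩ :=
    Groth.Agent.S2979.result A J hJ' A₀ (Groth.Agent.S2973.result _ A₀ inferInstance hm₀)
  have hftB : Algebra.FiniteType A B := Groth.Agent.H21Mono.finiteType_of_tensor_quot hJ B
    (Algebra.FiniteType.equiv (inferInstance : Algebra.FiniteType (A ⧸ J) A₀) (AlgEquivClass.toAlgEquiv eB.symm))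
  let H := Groth.Agent.H21Hom.specGrp A B
  have hH : SGA3x.IsMultTypeFT H :=
    Groth.Agent.H21Hom.isMultTypeFT_specGrp hftB (Groth.Agent.H21Mono.isMultType_of_isQuasiIsotrivial hB)
  have hHd := Groth.Agent.H21Diag.isDiagLoc_of_isMultTypeFT hH
  obtain ⟨b⟩ := Groth.Agent.H21Hom.nonempty_bc_specGrp (R := A) B (A ⧸ J)
  obtain ⟨c⟩ := Groth.Agent.H21Hom.nonempty_iso_of_bialgEquiv eB.symm
  let Φ : Grp.mk (Red.bc q H) ≅ Grp.mk H₀ := b ≪≫ c ≪≫ e₀.symm
  let φ : Red.bc q H ≅ H₀ := (Grp.forget _).mapIso Φ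
  haveI : IsMonHom φ.hom := inferInstanceAs (IsMonHom Φ.hom.hom.hom)
  obtain ⟨φ₀, hmul, hφ₀⟩ := Groth.Agent.H21Mono.exists_pairing q (H := H) (G := G) (φ.hom ≫ j₀)
  obtain ⟨f, hf, hff⟩ := Groth.Agent.H21Diag.exists_hom_lift_smooth_loc hGs hHd J hJ φ₀ hmul
  haveI := hf
  have hmap := hφ₀ f hff
  haveI : LocallyOfFiniteType H.hom := H21Diag.lft_of_multTypeFT hH
  haveI : LocallyOfFiniteType (f.left ≫ G.hom) := by rw [Over.w f]; infer_instance
  haveI : LocallyOfFiniteType f.left := locallyOfFiniteType_of_comp f.left G.hom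
  haveI : IsImmersion ((Over.pullback q).map f).left := by
    rw [hmap, Over.comp_left]
    haveI : IsIso φ.hom.left := inferInstanceAs (IsIso ((Over.forget _).map φ.hom))
    infer_instance
  haveI : IsClosedImmersion (pullback.fst G.hom q) := MorphismProperty.pullback_fst (P := @IsClosedImmersion) _ _ ‹_›
  haveI : Surjective (pullback.fst G.hom q) := MorphismProperty.pullback_fst (P := @Surjective) _ _ ‹_›
  haveI : IsImmersion f.left :=
    (Groth.Agent.H7Flat.isImmersion_iff_of_thickening _ (pullback.fst G.hom q) _ f.left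
      (Groth.Agent.H21Mono.sqBC q f).flip).1 ‹_›
  haveI : Mono f := Over.mono_of_mono_left f
  obtain ⟨T, gT, t, n, g, g', ht, htc, hT, hn, hpos, hg, hg'⟩ := H21Diag.exists_maxTorus hH
  letI := gT; haveI := ht; haveI := htc
  haveI : Mono t := Over.mono_of_mono_left t
  haveI := H21Diag.isMonHom_map q t
  let tq : Red.bc q T ⟶ Red.bc q H := (Over.pullback q).map t
  haveI : IsClosedImmersion tq.left := MorphismProperty.overPullbackMap (P := @IsClosedImmersion) _ _ htc
  haveI : Mono tq := Over.mono_of_mono_left _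
  let s₀ : SA := IsLocalRing.closedPoint A
  have hv : ∀ x, n (q.base x) = n s₀ := fun x => congrArg n (Subsingleton.elim (α := PrimeSpectrum A) _ _)
  have hHq : Red.IsTorus (Red.bc q H) := by
    haveI : IsMonHom φ.symm.hom := inferInstanceAs (IsMonHom Φ.inv.hom.hom)
    exact H19Fin.isTorus_of_iso φ hH₀
  obtain ⟨w, hw⟩ := H21Diag.factor_torus (G := Red.bc q H) (n := fun _ => n s₀) (IsLocallyConstant.const _)
    (fun _ => hpos s₀) (f := (Over.pullback q).map g) (fun k X x hx => by
      by_cases hX : IsEmpty X.left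
      · exact Over.OverMorphism.ext (Scheme.Cover.hom_ext X.left.affineCover _ _ fun a => by
          have : IsEmpty (X.left.affineCover.X a) := Function.isEmpty (X.left.affineCover.f a).base
          exact isInitialOfIsEmpty.hom_ext _ _)
      · obtain ⟨z⟩ := not_isEmpty_iff.mp hX
        rw [H21Diag.map_lcPow hg q (n s₀) hv, ← hx z, H21Diag.comp_pow, Category.comp_id])
    tq ((Over.pullback q).map g') (by rw [← Functor.map_comp, hg']) (𝟙 (Red.bc q H)) hHq
  haveI : IsIso tq := ⟨w, by rw [← cancel_mono tq, Category.assoc, hw, Category.comp_id, Category.id_comp], hw⟩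
  let ψ : Red.bc q T ≅ H₀ := asIso tq ≪≫ φ
  haveI : IsMonHom ψ.hom := inferInstanceAs (IsMonHom (tq ≫ φ.hom))
  refine ⟨T, gT, t ≫ f, H21Diag.isMaximalTorus_of_bc (t ≫ f) hT q inferInstance ?_⟩
  rw [Functor.map_comp, hmap, ← Category.assoc]
  exact H21Diag.isMaximalTorus_precomp_iso ψ (H21Diag.isTorus_bc hT q) hj₀

/-- A point of a base change commuting with a subgroup lifts to the base change of the centralizer. -/
theorem exists_lift_centralizer_bc {S S' : Scheme.{u}} (v : S' ⟶ S) {G R Z : Over S} [GrpObj G] [GrpObj R] [GrpObj Z]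
    {j : R ⟶ G} {z : Z ⟶ G} (hz : Red.IsCentralizerOf j z) {P : Over S'} (b : P ⟶ Red.bc v G)
    (h : ∀ (X : Over S') (x : X ⟶ P) (r : X ⟶ Red.bc v R),
      (x ≫ b) * (r ≫ (Over.pullback v).map j) = (r ≫ (Over.pullback v).map j) * (x ≫ b)) :
    ∃ b' : P ⟶ Red.bc v Z, b' ≫ (Over.pullback v).map z = b := by
  obtain ⟨b₀, hb₀⟩ := exists_factor_centralizer_bc v j z hz b h
  refine ⟨H21Diag.bcEquiv v Z P b₀, (H21Diag.bcEquiv v G P).symm.injective ?_⟩
  exact ((Over.mapPullbackAdj v).homEquiv_naturality_right_symm _ z).trans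
    ((congrArg (· ≫ z) ((H21Diag.bcEquiv v Z P).symm_apply_apply b₀)).trans hb₀)

/-- A subtorus lies in a maximal torus. -/
theorem exists_maximalTorus_containing (G : Over SA) [GrpObj G] [Smooth G.hom] [QuasiCompact G.hom]
    (R : Over SA) [GrpObj R] (j : R ⟶ G) [IsMonHom j] [Mono j] (hR : Red.IsTorus R) :
    ∃ (T : Over SA) (_ : GrpObj T) (i : T ⟶ G) (f : R ⟶ T), Red.IsMaximalTorus i ∧ f ≫ i = j := by
  have hRm : SGA3x.IsMultTypeFT R := H21Diag.isMultTypeFT_of_isTorus hR
  haveI : IsAffineHom R.hom := H21Diag.isAffineHom_of_multTypeFT hRm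
  haveI : LocallyOfFiniteType R.hom := H21Diag.lft_of_multTypeFT hRm
  haveI : LocallyOfFiniteType G.hom := inferInstance
  haveI : IsSeparated G.hom := isSeparated_artinian G
  haveI : QuasiCompact j.left := by
    haveI : QuasiCompact (j.left ≫ G.hom) := by rw [Over.w j]; infer_instance
    exact QuasiCompact.of_comp j.left G.hom
  haveI : Mono j.left := (Over.forget SA).map_mono j
  haveI hjc : IsClosedImmersion j.left := H19Grp.ArtinHom.isClosedImmersion_of_mono j
  obtain ⟨⟨Z, gZ, z, hz, hzc, hZs⟩, -⟩ := S3006.result SA G R j hjc hR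
  letI := gZ
  haveI := hz.1; haveI := hz.2.1; haveI := hzc; haveI := hZs
  haveI : QuasiCompact Z.hom := by rw [← Over.w z]; infer_instance
  haveI : IsSeparated Z.hom := by rw [← Over.w z]; infer_instance
  haveI : LocallyOfFinitePresentation Z.hom := inferInstance
  obtain ⟨jZ, hjZ⟩ := (hz.2.2 R j).2 fun X x h => by
    rw [← MonObj.mul_comp, ← MonObj.mul_comp, H21Rank1.isTorus_comm hR]
  haveI : IsMonHom (jZ ≫ z) := by rw [hjZ]; infer_instance
  haveI : IsMonHom jZ := H21Diag.isMonHom_of_comp_mono jZ z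
  have hcen : ∀ (X : Over SA) (x : X ⟶ R) (g : X ⟶ Z), (x ≫ jZ) * g = g * (x ≫ jZ) := fun X x g => by
    have h := (hz.2.2 X (g ≫ z)).1 ⟨g, rfl⟩ X (𝟙 X) x
    rw [← cancel_mono z, MonObj.mul_comp, MonObj.mul_comp, Category.assoc, hjZ]
    rw [Category.id_comp] at h
    exact h.symm
  obtain ⟨T, gT, t, ht⟩ := exists_maximalTorus_artinian Z
  letI := gT
  obtain ⟨htm, htmono, hT, hmax⟩ := id ht
  haveI := htm; haveI := htmono
  haveI : Smooth T.hom := S8398.smooth_of_isTorus hT
  haveI : IsAffineHom T.hom := H21Diag.isAffineHom_of_multTypeFT (H21Diag.isMultTypeFT_of_isTorus hT)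
  obtain ⟨w, hw⟩ := H21Diag.exists_factor_of_geomFibres hRm t jZ hcen fun s => by
    let v := Red.geomPt s
    haveI : LocallyOfFiniteType (Red.geomFibre s Z).hom :=
      MorphismProperty.pullback_snd (P := @LocallyOfFiniteType) _ _ inferInstance
    haveI := H21Diag.isMonHom_map v t
    haveI := H21Diag.isMonHom_map v jZ
    exact exists_factor_of_max_comm ((Over.pullback v).map t) (H21Diag.isTorus_bc hT v)
      (fun T' _ b _ _ f hT' hf => hmax s T' b f hT' hf) ((Over.pullback v).map jZ) (H21Diag.isTorus_bc hR v)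
      fun X x r => (bc_central v jZ hcen X r _).symm
  refine ⟨T, gT, t ≫ z, w, ⟨inferInstance, inferInstance, hT, fun s T' _ b _ _ f hT' hf => ?_⟩,
    by rw [← Category.assoc, hw, hjZ]⟩
  let v := Red.geomPt s
  haveI := (Over.mapPullbackAdj v).isRightAdjoint
  haveI := H21Diag.isMonHom_map v z
  have hjK : (Over.pullback v).map j = ((Over.pullback v).map w ≫ f) ≫ b := by
    rw [Category.assoc, hf, ← Functor.map_comp, ← Category.assoc, hw, hjZ]
  obtain ⟨b', hb'⟩ := exists_lift_centralizer_bc v hz b fun X x r => by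
    rw [hjK, ← Category.assoc r, ← MonObj.mul_comp, ← MonObj.mul_comp, H21Rank1.isTorus_comm hT']
  haveI : IsMonHom (b' ≫ (Over.pullback v).map z) := by rw [hb']; infer_instance
  haveI : IsMonHom b' := H21Diag.isMonHom_of_comp_mono b' ((Over.pullback v).map z)
  haveI : Mono b' := mono_of_mono_fac hb'
  refine hmax s T' b' f hT' ?_
  rw [← cancel_mono ((Over.pullback v).map z), Category.assoc, hb', hf, Functor.map_comp]

end Groth.Agent.LeadTorus
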