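import Groth.Agent.S8247
import Groth.Agent.H21Diag.CommMaxTorus
import Groth.Agent.H21Diag.MaxTorusBc
import Groth.Agent.H20Conj.MaxConv
import Groth.Agent.H21RCentre.Main
import Groth.Agent.H21Diag.TransporterSub

/-!
# A central geometric maximal torus comes from the base
-/

set_option autoImplicit false
set_option linter.style.haveILetI false
set_option backward.isDefEq.respectTransparency false
set_option synthInstance.maxHeartbeats 400000
set_option maxHeartbeats 1000000

universe u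

open CategoryTheory CategoryTheory.Limits MonoidalCategory CartesianMonoidalCategory MonObj GrpObj AlgebraicGeometry

noncomputable section

namespace Groth.Agent.LeadTorus

theorem bcIdHom_natural {S : Scheme.{u}} {X Y : Over S} (g : X ⟶ Y) :
    (Over.pullback (𝟙 S)).map g ≫ H21Diag.bcIdHom Y = H21Diag.bcIdHom X ≫ g :=
  Over.OverMorphism.ext (by simp [H21Diag.bcIdHom])

/-- Base change back along the inverse of an isomorphism. -/
theorem exists_bcInv {A S : Scheme.{u}} (v : A ⟶ S) [IsIso v] :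
    ∃ w : S ⟶ A, IsIso w ∧ ∃ q : ∀ X : Over S, Red.bc w (Red.bc v X) ⟶ X,
      (∀ X, IsIso (q X)) ∧
      (∀ {X Y : Over S} (g : X ⟶ Y), (Over.pullback w).map ((Over.pullback v).map g) ≫ q Y = q X ≫ g) ∧
      ∀ (X : Over S) [GrpObj X], IsMonHom (q X) := by
  have e : inv v ≫ v = 𝟙 S ≫ 𝟙 S := by rw [IsIso.inv_hom_id v, Category.comp_id]
  refine ⟨inv v, inferInstance, fun X => (H21Diag.bcSq (inv v) v (𝟙 S) (𝟙 S) e X).hom ≫ H21Diag.bcIdHom _ ≫ H21Diag.bcIdHom X,
    fun X => inferInstance, fun {X Y} g => ?_, fun X _ => ?_⟩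
  · simp only [Category.assoc]
    rw [← Category.assoc, H21Diag.bcSq_natural (inv v) v (𝟙 S) (𝟙 S) e, Category.assoc]
    congr 1
    rw [← Category.assoc, bcIdHom_natural, Category.assoc, bcIdHom_natural]
  · haveI := H21Diag.isMonHom_bcSq (inv v) v (𝟙 S) (𝟙 S) e X
    infer_instance

theorem isIso_of_maxTorus_bc {A S : Scheme.{u}} (v : A ⟶ S) [IsIso v] {G T : Over S} [GrpObj G] [GrpObj T]
    {i : T ⟶ G} (h : AGF.IsMaxTorus i) (T' : Over A) [GrpObj T'] (j : T' ⟶ Red.bc v G) [IsMonHom j] [Mono j]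
    (f : Red.bc v T ⟶ T') (hT' : Red.IsTorus T') (hf : f ≫ j = (Over.pullback v).map i) : IsIso f := by
  obtain ⟨-, -, -, hmax⟩ := h
  obtain ⟨w, hwi, q, hqi, hnat, hqm⟩ := exists_bcInv v
  haveI := hwi
  haveI := hqi
  haveI := hqm G
  haveI := H21Diag.isMonHom_map w j
  haveI := (Over.mapPullbackAdj w).isRightAdjoint
  haveI : Mono ((Over.pullback w).map j) := inferInstance
  have hb : IsIso (inv (q T) ≫ (Over.pullback w).map f) :=
    hmax (Red.bc w T') ((Over.pullback w).map j ≫ q G) (inv (q T) ≫ (Over.pullback w).map f)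
      (H20Conj.isTorus_bc_of_isIso w hT') (by
        rw [Category.assoc, ← Category.assoc ((Over.pullback w).map f), ← Functor.map_comp, hf, hnat,
          IsIso.inv_hom_id_assoc])
  haveI : IsIso ((Over.pullback w).map f) :=
    @IsIso.of_isIso_comp_left _ _ _ _ _ (inv (q T)) ((Over.pullback w).map f) IsIso.inv_isIso hb
  haveI : IsIso ((Over.pullback w).map f).left := inferInstanceAs (IsIso ((Over.forget _).map ((Over.pullback w).map f)))
  have h1 : ((Over.pullback w).map f).left ≫ pullback.fst T'.hom w = pullback.fst (Red.bc v T).hom w ≫ f.left :=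
    pullback.lift_fst _ _ _
  haveI : IsIso (pullback.fst (Red.bc v T).hom w ≫ f.left) := h1 ▸ inferInstance
  haveI : IsIso f.left := IsIso.of_isIso_comp_left (pullback.fst (Red.bc v T).hom w) f.left
  haveI : IsIso ((Over.forget _).map f) := this
  exact isIso_of_reflects_iso f (Over.forget _)

/-- Over an algebraically closed field a maximal subtorus is a maximal torus. -/
theorem isMaximalTorus_of_isMaxTorus {K : Type u} [Field K] [IsAlgClosed K]
    {G T : Over (Spec (CommRingCat.of K))} [GrpObj G] [GrpObj T] {i : T ⟶ G}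
    (h : AGF.IsMaxTorus i) : Red.IsMaximalTorus i :=
  ⟨h.1, h.2.1, h.2.2.1, fun s T' _ j _ _ f hT' hf =>
    @isIso_of_maxTorus_bc _ _ (Red.geomPt s) (H20Conj.isIso_geomPt (k := K) s) G T _ _ i h T' _ j _ _ f hT' hf⟩

theorem exists_factor_universal {S : Scheme.{u}} (G : Over S) [GrpObj G] {M : Over S} [GrpObj M] (m : M ⟶ G)
    (huniv : ∀ (S' : Scheme.{u}) (f : S' ⟶ S) (H : Over S') [GrpObj H] (v : H ⟶ Red.bc f G) [IsMonHom v],
      SGA3x.IsMultTypeFT H →
      (∀ (X : Over S') (x : X ⟶ H) (g : X ⟶ Red.bc f G), (x ≫ v) * g = g * (x ≫ v)) →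
      ∃ w : H ⟶ Red.bc f M, w ≫ (Over.pullback f).map m = v)
    {R : Over S} [GrpObj R] (j : R ⟶ G) [IsMonHom j] (hR : SGA3x.IsMultTypeFT R)
    (hc : ∀ (X : Over S) (x : X ⟶ R) (g : X ⟶ G), (x ≫ j) * g = g * (x ≫ j)) :
    ∃ w : R ⟶ M, w ≫ m = j := by
  haveI : IsMonHom (inv (H21Diag.bcIdHom G)) := H21Diag.isMonHom_of_mul _ fun {X} a b => by
    rw [← cancel_mono (H21Diag.bcIdHom G), MonObj.mul_comp (a ≫ inv _) (b ≫ inv _) (H21Diag.bcIdHom G)]
    simp only [Category.assoc, IsIso.inv_hom_id, Category.comp_id]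
  obtain ⟨w, hw⟩ := huniv S (𝟙 S) R (j ≫ inv (H21Diag.bcIdHom G)) hR fun X x g => by
    rw [← cancel_mono (H21Diag.bcIdHom G), MonObj.mul_comp, MonObj.mul_comp]
    simp only [Category.assoc, IsIso.inv_hom_id, Category.comp_id]
    exact hc X x _
  refine ⟨w ≫ H21Diag.bcIdHom M, ?_⟩
  rw [Category.assoc, ← bcIdHom_natural, ← Category.assoc, hw, Category.assoc, IsIso.inv_hom_id, Category.comp_id]

/-- A torus containing a maximal torus is a maximal torus. -/
theorem isMaximalTorus_of_factor {S : Scheme.{u}} {A B G : Over S} [GrpObj A] [GrpObj B] [GrpObj G] (a : A ⟶ G)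
    (ha : Red.IsMaximalTorus a) (b : B ⟶ G) [IsMonHom b] [Mono b] (hB : Red.IsTorus B) (w : A ⟶ B) (hw : w ≫ b = a) :
    Red.IsMaximalTorus b := by
  obtain ⟨-, -, -, hmax⟩ := ha
  refine ⟨inferInstance, inferInstance, hB, fun s T' _ j _ _ f hT' hf => ?_⟩
  let F := Over.pullback (Red.geomPt s)
  haveI := (Over.mapPullbackAdj (Red.geomPt s)).isRightAdjoint
  haveI : Mono (F.map b) := inferInstance
  haveI := H21Diag.isMonHom_map (Red.geomPt s) b
  have h1 := hmax s (F.obj B) (F.map b) (F.map w) (H21Diag.isTorus_bc hB _) (by rw [← Functor.map_comp, hw])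
  haveI := h1
  have h2 := hmax s T' j (F.map w ≫ f) hT' (by rw [Category.assoc, hf, ← Functor.map_comp, hw])
  haveI := h2
  exact IsIso.of_isIso_comp_left (F.map w) f

/-- If a maximal torus over an algebraically closed extension is central, there is one over the base field. -/
theorem exists_of_central {k K : Type u} [Field k] [Field K] [Algebra k K]
    (G : Over (Spec (CommRingCat.of k))) [GrpObj G] [IsAffine G.left] [Smooth G.hom]
    {T' : Over (Spec (CommRingCat.of K))} [GrpObj T']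
    (i' : T' ⟶ Red.bc (Spec.map (CommRingCat.ofHom (algebraMap k K))) G) (hT' : Red.IsMaximalTorus i')
    (hc : ∀ (X : Over (Spec (CommRingCat.of K))) (t : X ⟶ T') (g : X ⟶ Red.bc (Spec.map (CommRingCat.ofHom (algebraMap k K))) G),
      (t ≫ i') * g = g * (t ≫ i')) :
    ∃ (T : Over (Spec (CommRingCat.of k))) (_ : GrpObj T) (iT : T ⟶ G), Red.IsMaximalTorus iT := by
  let z := Spec.map (CommRingCat.ofHom (algebraMap k K))
  haveI : IsAffineHom G.hom := inferInstance
  obtain ⟨M, gM, m, hm, hmm, hmc, hM, hMcen, huniv⟩ := H21RCentre.exists_reductiveCentre G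
  haveI := hm; haveI := hmm; haveI := hmc
  obtain ⟨T, gT, t, ⟨ht, htm, hTt, -⟩, htmax⟩ := H21Diag.exists_isMaximalTorus hM
  letI := gT; haveI := ht; haveI := htm
  haveI : IsAffine M.left := isAffine_of_isAffineHom m.left
  haveI : IsMonHom (t ≫ m) := inferInstance
  haveI : Mono (t ≫ m) := inferInstance
  haveI hci : IsClosedImmersion (t ≫ m).left := H21Diag.isClosedImmersion_of_mono (H21Diag.isDiagLoc_of_isMultTypeFT (H21Diag.isMultTypeFT_of_isTorus hTt)) inferInstance (t ≫ m)
  have hcen : ∀ (X : Over (Spec (CommRingCat.of k))) (x : X ⟶ T) (g : X ⟶ G), (x ≫ t ≫ m) * g = g * (x ≫ t ≫ m) :=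
    fun X x g => by rw [← Category.assoc]; exact hMcen X (x ≫ t) g
  obtain ⟨hi', hi'm, hT'T, hmax'⟩ := id hT'
  haveI := hi'; haveI := hi'm
  haveI : Smooth (Red.bc z G).hom := MorphismProperty.pullback_snd (P := @Smooth) _ _ inferInstance
  haveI : IsAffineHom (Red.bc z G).hom := MorphismProperty.pullback_snd (P := @IsAffineHom) _ _ inferInstance
  haveI hci' : IsClosedImmersion i'.left := H21Diag.isClosedImmersion_of_mono (H21Diag.isDiagLoc_of_isMultTypeFT (H21Diag.isMultTypeFT_of_isTorus hT'T)) inferInstance i'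
  obtain ⟨w, hw⟩ := S8247.result k K G T (t ≫ m) hci hTt hcen (fun R _ j _ hjc hR hjcen => by
    haveI : Mono j := Over.mono_of_mono_left _
    obtain ⟨w, hw⟩ := exists_factor_universal G m huniv j (H21Diag.isMultTypeFT_of_isTorus hR) hjcen
    haveI : Mono w := mono_of_mono_fac hw
    haveI : IsMonHom w := H21Diag.isMonHom_of_mul w fun {X} a b => by
      rw [← cancel_mono m, MonObj.mul_comp (a ≫ w) (b ≫ w) m]
      simp only [Category.assoc, hw]
      exact MonObj.mul_comp a b j
    obtain ⟨g, hg⟩ := htmax R w hR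
    exact ⟨g, by rw [← Category.assoc, hg, hw]⟩) T' i' hci' hT'T hc
  refine ⟨T, gT, t ≫ m, H21Diag.isMaximalTorus_of_bc (t ≫ m) hTt z ?_ ?_⟩
  · exact ⟨fun x => ⟨IsLocalRing.closedPoint K, Subsingleton.elim (α := PrimeSpectrum k) _ _⟩⟩
  · exact isMaximalTorus_of_factor i' hT' _ (H21Diag.isTorus_bc hTt z) w hw

end Groth.Agent.LeadTorus
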