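import Groth.Agent.LeadTorus.Artinian
import Groth.Agent.LeadTorus.Assemble
import Groth.Agent.H21Diag.TransporterSub
import Groth.Agent.S16611
import Groth.Prelude.Def_SGA3x

/-!
# The centralizer of a maximal torus is a Cartan subgroup
-/

set_option autoImplicit false
set_option linter.style.haveILetI false
set_option linter.unusedSectionVars false
set_option backward.isDefEq.respectTransparency false
set_option maxHeartbeats 4000000
set_option synthInstance.maxHeartbeats 400000

universe u

open CategoryTheory CategoryTheory.Limits MonoidalCategory CartesianMonoidalCategory MonObj AlgebraicGeometry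

noncomputable section

namespace Groth.Agent.LeadTorus

/-- The base change of a centralizer is the centralizer of the base change. -/
theorem isCentralizerOf_bc {S S' : Scheme.{u}} (v : S' ⟶ S) {G R Z : Over S} [GrpObj G] [GrpObj R] [GrpObj Z]
    {j : R ⟶ G} {z : Z ⟶ G} (hz : Red.IsCentralizerOf j z) :
    Red.IsCentralizerOf ((Over.pullback v).map j) ((Over.pullback v).map z) := by
  haveI := hz.1; haveI := hz.2.1
  haveI := (Over.mapPullbackAdj v).isRightAdjoint
  refine ⟨H21Diag.isMonHom_map v z, inferInstance, fun X g => ⟨?_, fun h => exists_lift_centralizer_bc v hz g h⟩⟩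
  rintro ⟨x, rfl⟩ X' y r
  apply (H21Diag.bcEquiv v G X').symm.injective
  rw [H21Diag.bcEquiv_symm_mul, H21Diag.bcEquiv_symm_mul,
    show (H21Diag.bcEquiv v G X').symm (r ≫ (Over.pullback v).map j) = (H21Diag.bcEquiv v R X').symm r ≫ j from
      (Over.mapPullbackAdj v).homEquiv_naturality_right_symm r j,
    show (H21Diag.bcEquiv v G X').symm (y ≫ x ≫ (Over.pullback v).map z) =
      (H21Diag.bcEquiv v Z X').symm (y ≫ x) ≫ z from
      (congrArg (H21Diag.bcEquiv v G X').symm (Category.assoc _ _ _).symm).trans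
        ((Over.mapPullbackAdj v).homEquiv_naturality_right_symm _ z)]
  have h := (hz.2.2 _ ((H21Diag.bcEquiv v Z X').symm (y ≫ x) ≫ z)).1 ⟨_, rfl⟩ _ (𝟙 _)
    ((H21Diag.bcEquiv v R X').symm r)
  rwa [Category.id_comp] at h

variable {S : Scheme.{u}}

/-- A homomorphism of tori which is a monomorphism and an isomorphism on geometric fibres is an isomorphism. -/
theorem isIso_of_geomFibres {T T' : Over S} [GrpObj T] [GrpObj T'] (hT : Red.IsTorus T) (hT' : Red.IsTorus T')
    (f : T ⟶ T') [IsMonHom f] [Mono f] (h : ∀ s : S, IsIso ((Over.pullback (Red.geomPt s)).map f)) : IsIso f := by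
  refine S16611.result hT hT' f fun s => ?_
  let v := Red.geomPt s
  haveI := h s
  haveI := H21Diag.isMonHom_map v f
  obtain ⟨r, ⟨e⟩⟩ := H21Diag.exists_DS_iso_algClosed (Red.geomFibre s T') (H21Diag.isTorus_bc hT' v)
  haveI : IsMonHom (asIso ((Over.pullback v).map f)).hom := ‹IsMonHom ((Over.pullback v).map f)›
  exact ⟨r, ⟨Grp.mkIso' (asIso ((Over.pullback v).map f)) ≪≫ e⟩, ⟨e⟩⟩

/-- The centralizer of a maximal torus: a Cartan subgroup with that torus as its only maximal torus. -/
theorem exists_cartan_of_maximalTorus (G : Over S) [GrpObj G] [Smooth G.hom] [IsSeparated G.hom]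
    [QuasiCompact G.hom] (T : Over S) [GrpObj T] (i : T ⟶ G) (hT : Red.IsMaximalTorus i) :
    ∃ (C : Over S) (_ : GrpObj C) (c : C ⟶ G), Red.IsCentralizerOf i c ∧ IsClosedImmersion c.left ∧ SGA3x.IsCartan c ∧
      ∃ i' : T ⟶ C, i' ≫ c = i ∧ Red.IsMaximalTorus i' ∧
        ∀ (T' : Over S) [GrpObj T'] (j : T' ⟶ C), Red.IsMaximalTorus j → ∃ φ : T' ≅ T, φ.hom ≫ i' = j := by
  obtain ⟨hi, him, hTt, hmax⟩ := id hT
  haveI := hi; haveI := him
  have hTm := H21Diag.isMultTypeFT_of_isTorus hTt
  obtain ⟨C, gC, c, hc, hcc, hCs⟩ := H21Diag.exists_centralizer (H21Diag.isDiagLoc_of_isMultTypeFT hTm) ‹Smooth G.hom› i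
  letI := gC
  haveI := hc.1; haveI := hc.2.1; haveI := hcc; haveI := hCs
  haveI : IsSeparated C.hom := by rw [← Over.w c]; infer_instance
  haveI : LocallyOfFinitePresentation C.hom := inferInstance
  obtain ⟨i', hi'⟩ := (hc.2.2 T i).2 fun X x h => by
    rw [← MonObj.mul_comp, ← MonObj.mul_comp, H21Rank1.isTorus_comm hTt]
  haveI : IsMonHom (i' ≫ c) := by rw [hi']; infer_instance
  haveI : IsMonHom i' := H21Diag.isMonHom_of_comp_mono i' c
  haveI : Mono i' := mono_of_mono_fac hi'
  have hcen : ∀ (X : Over S) (x : X ⟶ T) (g : X ⟶ C), (x ≫ i') * g = g * (x ≫ i') := fun X x g => by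
    have h := (hc.2.2 X (g ≫ c)).1 ⟨g, rfl⟩ X (𝟙 X) x
    rw [← cancel_mono c, MonObj.mul_comp, MonObj.mul_comp, Category.assoc, hi']
    rw [Category.id_comp] at h
    exact h.symm
  refine ⟨C, gC, c, hc, hcc, ⟨inferInstance, inferInstance, hCs, fun s => ?_⟩, i', hi',
    ⟨inferInstance, inferInstance, hTt, fun s T'' _ b _ _ f hT'' hf => ?_⟩, fun T' _ j hj => ?_⟩
  · let v := Red.geomPt s
    haveI := (Over.mapPullbackAdj v).isRightAdjoint
    exact ⟨H21Diag.isMonHom_map v c, inferInstance, _, inferInstance, (Over.pullback v).map i,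
      isMaximalTorus_of_isMaxTorus ⟨H21Diag.isMonHom_map v i, inferInstance, H21Diag.isTorus_bc hTt v, hmax s⟩,
      isCentralizerOf_bc v hc⟩
  · let v := Red.geomPt s
    haveI := (Over.mapPullbackAdj v).isRightAdjoint
    haveI := H21Diag.isMonHom_map v c
    exact hmax s T'' (b ≫ (Over.pullback v).map c) f hT''
      (by rw [← Category.assoc, hf, ← Functor.map_comp, hi'])
  · obtain ⟨hjm, hjmono, hT'', hjmax⟩ := id hj
    haveI := hjm; haveI := hjmono
    haveI : Smooth T'.hom := S8398.smooth_of_isTorus hT''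
    haveI : IsAffineHom T'.hom := H21Diag.isAffineHom_of_multTypeFT (H21Diag.isMultTypeFT_of_isTorus hT'')
    obtain ⟨f, hf⟩ := H21Diag.exists_factor_of_geomFibres hTm j i' hcen fun s => by
      let v := Red.geomPt s
      haveI : LocallyOfFiniteType (Red.geomFibre s C).hom :=
        MorphismProperty.pullback_snd (P := @LocallyOfFiniteType) _ _ inferInstance
      haveI := H21Diag.isMonHom_map v j
      haveI := H21Diag.isMonHom_map v i'
      exact exists_factor_of_max_comm ((Over.pullback v).map j) (H21Diag.isTorus_bc hT'' v)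
        (fun W _ b _ _ g hW hg => hjmax s W b g hW hg) ((Over.pullback v).map i') (H21Diag.isTorus_bc hTt v)
        fun X x r => (bc_central v i' hcen X r _).symm
    haveI : IsMonHom (f ≫ j) := by rw [hf]; infer_instance
    haveI : IsMonHom f := H21Diag.isMonHom_of_comp_mono f j
    haveI : Mono f := mono_of_mono_fac hf
    haveI : IsIso f := isIso_of_geomFibres hTt hT'' f fun s => by
      let v := Red.geomPt s
      haveI := (Over.mapPullbackAdj v).isRightAdjoint
      haveI := H21Diag.isMonHom_map v (j ≫ c)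
      exact hmax s (Red.bc v T') ((Over.pullback v).map (j ≫ c)) ((Over.pullback v).map f) (H21Diag.isTorus_bc hT'' v)
        (by rw [← Functor.map_comp, ← Category.assoc, hf, hi'])
    exact ⟨(asIso f).symm, by simp [← hf]⟩

end Groth.Agent.LeadTorus
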