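import Groth.Agent.LeadTorus.Identity
import Groth.Agent.H19Chev.LargestMult

/-!
# Centrality of the group cut out by an algebra of functionals
-/

set_option autoImplicit false
set_option linter.style.haveILetI false
set_option backward.isDefEq.respectTransparency false
set_option maxHeartbeats 1000000

universe u

open TensorProduct WithConv Coalgebra
open CategoryTheory MonoidalCategory CartesianMonoidalCategory MonObj GrpObj AlgebraicGeometry

noncomputable section

namespace Groth.Agent.LeadTorus

variable {k : Type u} [Field k] {A : Type u} [CommRing A] [HopfAlgebra k A]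
  {C : Type u} [CommRing C] [HopfAlgebra k C]

/-- A functional of `C` read on `A`. -/
def pullFun (φ : A →ₐc[k] C) (d : WithConv (C →ₗ[k] k)) : WithConv (A →ₗ[k] k) :=
  toConv (d.ofConv ∘ₗ (φ : A →ₗc[k] C).toLinearMap)

theorem pullFun_apply (φ : A →ₐc[k] C) (d : WithConv (C →ₗ[k] k)) (a : A) : (pullFun φ d).ofConv a = d.ofConv (φ a) :=
  rfl

/-- The functionals of a central subgroup are central. -/
theorem commute_of_central (φ : A →ₐc[k] C)
    (hc : ∀ (X : Over (Spec (CommRingCat.of k))) (x : X ⟶ H21Hom.specGrp k C) (g : X ⟶ H21Hom.specGrp k A),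
      (x ≫ H19Chev.LargestMult.specHom φ) * g = g * (x ≫ H19Chev.LargestMult.specHom φ))
    (d : WithConv (C →ₗ[k] k)) (f : WithConv (A →ₗ[k] k)) : Commute (pullFun φ d) f := by
  let a : WithConv (A →ₐ[k] C ⊗[k] A) :=
    toConv ((Algebra.TensorProduct.includeLeft : C →ₐ[k] C ⊗[k] A).comp (φ : A →ₐ[k] C))
  let b : WithConv (A →ₐ[k] C ⊗[k] A) := toConv (Algebra.TensorProduct.includeRight : A →ₐ[k] C ⊗[k] A)
  let x : (Spec (CommRingCat.of (C ⊗[k] A))).asOver (Spec (CommRingCat.of k)) ⟶ H21Hom.specGrp k C :=
    (Spec.map (CommRingCat.ofHom (Algebra.TensorProduct.includeLeft : C →ₐ[k] C ⊗[k] A).toRingHom)).asOver _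
  have hax : Spec.mapMulEquiv (R := k) (S := A) a = x ≫ H19Chev.LargestMult.specHom φ := by
    refine Over.OverMorphism.ext ?_
    show Spec.map (CommRingCat.ofHom a.ofConv.toRingHom) = x.left ≫ (H19Chev.LargestMult.specHom φ).left
    rw [H19Chev.LargestMult.specHom_left]
    show _ = Spec.map _ ≫ Spec.map _
    rw [← Spec.map_comp]
    rfl
  have hab : a * b = b * a := by
    refine (Spec.mapMulEquiv (R := k) (S := A) (T := C ⊗[k] A)).injective ?_
    rw [map_mul, map_mul, hax]
    exact hc _ x _
  refine WithConv.ofConv_injective (LinearMap.ext fun y => ?_)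
  let T : C ⊗[k] A →ₗ[k] k := LinearMap.mul' k k ∘ₗ TensorProduct.map d.ofConv f.ofConv
  have h := congrArg T (DFunLike.congr_fun (congrArg WithConv.ofConv hab) y)
  rw [AlgHom.convMul_apply, AlgHom.convMul_apply] at h
  rw [LinearMap.convMul_apply, LinearMap.convMul_apply]
  have h1 : ∀ z : A ⊗[k] A, T (Algebra.TensorProduct.lift a.ofConv b.ofConv (fun _ _ => Commute.all _ _) z) =
      LinearMap.mul' k k (TensorProduct.map (pullFun φ d).ofConv f.ofConv z) := by
    intro z
    induction z using TensorProduct.induction_on with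
    | zero => simp
    | tmul p q =>
      simp only [Algebra.TensorProduct.lift_tmul, TensorProduct.map_tmul, LinearMap.mul'_apply, pullFun_apply, a, b,
        T, LinearMap.comp_apply, AlgHom.comp_apply, Algebra.TensorProduct.includeLeft_apply,
        Algebra.TensorProduct.includeRight_apply, Algebra.TensorProduct.tmul_mul_tmul, _root_.one_mul, _root_.mul_one]
      rfl
    | add p q hp hq => simp only [map_add, hp, hq]
  have h2 : ∀ z : A ⊗[k] A, T (Algebra.TensorProduct.lift b.ofConv a.ofConv (fun _ _ => Commute.all _ _) z) =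
      LinearMap.mul' k k (TensorProduct.map f.ofConv (pullFun φ d).ofConv z) := by
    intro z
    induction z using TensorProduct.induction_on with
    | zero => simp
    | tmul p q =>
      simp only [Algebra.TensorProduct.lift_tmul, TensorProduct.map_tmul, LinearMap.mul'_apply, pullFun_apply, a, b,
        T, LinearMap.comp_apply, AlgHom.comp_apply, Algebra.TensorProduct.includeLeft_apply,
        Algebra.TensorProduct.includeRight_apply, Algebra.TensorProduct.tmul_mul_tmul, _root_.one_mul, _root_.mul_one]
      exact mul_comm _ _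
    | add p q hp hq => simp only [map_add, hp, hq]
  rw [← h1, ← h2]
  exact h

end Groth.Agent.LeadTorus
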