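import Groth.Agent.LeadTorus.Image
import Groth.Agent.H21Diag.Chev.RelSelfCentral
import Groth.Agent.H21Diag.MaxTorusBc
import Groth.Agent.H21Diag.CentralMaxTorus
import Groth.Agent.H19SemiAb.Basic

/-!
# Maximal tori and central isogenies
-/

set_option autoImplicit false
set_option linter.style.haveILetI false
set_option linter.unusedSectionVars false
set_option backward.isDefEq.respectTransparency false
set_option maxHeartbeats 2000000
set_option synthInstance.maxHeartbeats 400000

universe u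

open CategoryTheory CategoryTheory.Limits MonoidalCategory CartesianMonoidalCategory MonObj AlgebraicGeometry

noncomputable section

namespace Groth.Agent.LeadTorus

variable {k : Type u} [Field k]

/-- A maximal torus of a reductive group is the preimage of its image under a map with central kernel. -/
theorem isPullback_image {H' H K S' T : Over (Spec (CommRingCat.of k))} [GrpObj H'] [GrpObj H] [GrpObj K] [GrpObj S']
    [GrpObj T] (hH' : Red.IsReductive H') (f : H' ⟶ H) [IsMonHom f] (iK : K ⟶ H') (hK : AlgGrp.IsKernel iK f)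
    (hKc : ∀ (X : Over (Spec (CommRingCat.of k))) (x : X ⟶ K) (h : X ⟶ H'), (x ≫ iK) * h = h * (x ≫ iK))
    (j : S' ⟶ H') (hj : Red.IsMaximalTorus j) (i : T ⟶ H) [IsMonHom i] [Mono i] (v : S' ⟶ T)
    [Flat v.left] [Surjective v.left] [QuasiCompact v.left] (hv : v ≫ i = j ≫ f) : IsPullback j v f i := by
  haveI := hj.1; haveI := hj.2.1
  have hself := H21Chev.isCentralizerOf_self_of_isMaximalTorus hH' hj
  have key : ∀ (s : PullbackCone f i), ∃ l : s.pt ⟶ S', l ≫ j = s.fst := fun s => by
    refine (hself.2.2 _ s.fst).2 fun X' x h => ?_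
    let t := x ≫ s.snd
    let P := pullback t.left v.left
    let π : P ⟶ X'.left := pullback.fst t.left v.left
    haveI : Flat π := MorphismProperty.pullback_fst (P := @Flat) _ _ ‹_›
    haveI : Surjective π := MorphismProperty.pullback_fst (P := @Surjective) _ _ ‹_›
    haveI : QuasiCompact π := MorphismProperty.pullback_fst (P := @QuasiCompact) _ _ ‹_›
    let X'' : Over (Spec (CommRingCat.of k)) := Over.mk (π ≫ X'.hom)
    let π' : X'' ⟶ X' := Over.homMk π rfl
    let a : X'' ⟶ S' := Over.homMk (pullback.snd t.left v.left) (by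
      change pullback.snd _ _ ≫ S'.hom = π ≫ X'.hom
      rw [← Over.w v, ← Category.assoc, ← pullback.condition, Category.assoc, Over.w t])
    have ha : a ≫ v = π' ≫ t := Over.OverMorphism.ext pullback.condition.symm
    haveI : Epi π'.left := Flat.epi_of_flat_of_surjective π
    haveI : Epi π' := Over.epi_of_epi_left π'
    obtain ⟨c, hc⟩ := H19Grp.kernel_lift hK ((a ≫ j)⁻¹ * (π' ≫ x ≫ s.fst)) (by
      rw [MonObj.mul_comp, GrpObj.inv_comp, Category.assoc, Category.assoc, Category.assoc, s.condition, ← hv,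
        ← Category.assoc a v, ha]
      simp only [t, Category.assoc, inv_mul_cancel])
    have hx : π' ≫ x ≫ s.fst = (a ≫ j) * (c ≫ iK) := by rw [hc, mul_inv_cancel_left]
    rw [← cancel_epi π', MonObj.comp_mul, MonObj.comp_mul, hx, ← Category.assoc π' h j]
    have h1 : Commute (a ≫ j) ((π' ≫ h) ≫ j) := by
      show _ * _ = _ * _
      rw [← MonObj.mul_comp, ← MonObj.mul_comp, H21Rank1.isTorus_comm hj.2.2.1]
    exact (h1.mul_left (hKc X'' c _ : Commute (c ≫ iK) ((π' ≫ h) ≫ j))).eq
  refine ⟨⟨hv.symm⟩, ⟨PullbackCone.IsLimit.mk _ (fun s => (key s).choose) (fun s => (key s).choose_spec)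
    (fun s => ?_) (fun s m h1 _ => ?_)⟩⟩
  · rw [← cancel_mono i, Category.assoc, hv, ← Category.assoc, (key s).choose_spec, s.condition]
  · rw [← cancel_mono j, (key s).choose_spec, h1]

/-- The image of a maximal torus under a surjection, over a field. -/
theorem exists_image_field {H' H S' : Over (Spec (CommRingCat.of k))} [GrpObj H'] [GrpObj H] [GrpObj S']
    (hH' : Red.IsReductive H') (hH : Red.IsReductive H) (f : H' ⟶ H) [IsMonHom f] [Surjective f.left]
    (j : S' ⟶ H') (hj : Red.IsMaximalTorus j) :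
    ∃ (T : Over (Spec (CommRingCat.of k))) (_ : GrpObj T) (i : T ⟶ H) (v : S' ⟶ T), Red.IsMaximalTorus i ∧
      IsMonHom v ∧ v ≫ i = j ≫ f ∧ Surjective v.left ∧ Flat v.left ∧ QuasiCompact v.left := by
  haveI := hH'.1; haveI := hH'.2.1; haveI := hH.1; haveI := hH.2.1
  obtain ⟨T, gT, i, v, hi, hv, hvi, hvs, hvf⟩ := exists_image_maximalTorus f
    (fun s => MorphismProperty.overPullbackMap (P := @Surjective) _ _ inferInstance) j hj
  letI := gT
  refine ⟨T, gT, i, v, hi, hv, hvi, hvs, hvf, ?_⟩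
  haveI : IsAffineHom T.hom := H21Diag.isAffineHom_of_multTypeFT (H21Diag.isMultTypeFT_of_isTorus hi.2.2.1)
  haveI : IsAffineHom S'.hom := H21Diag.isAffineHom_of_multTypeFT (H21Diag.isMultTypeFT_of_isTorus hj.2.2.1)
  haveI : QuasiCompact (v.left ≫ T.hom) := by rw [Over.w v]; infer_instance
  exact QuasiCompact.of_comp v.left T.hom

/-- The preimage of a maximal torus under a central isogeny is a maximal torus. -/
theorem isMaximalTorus_preimage {H' H K T T' : Over (Spec (CommRingCat.of k))} [GrpObj H'] [GrpObj H] [GrpObj K]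
    [GrpObj T] [GrpObj T'] (hH' : Red.IsReductive H') (hH : Red.IsReductive H) (f : H' ⟶ H) [IsMonHom f]
    [Surjective f.left] (iK : K ⟶ H') (hK : AlgGrp.IsKernel iK f)
    (hKc : ∀ (X : Over (Spec (CommRingCat.of k))) (x : X ⟶ K) (h : X ⟶ H'), (x ≫ iK) * h = h * (x ≫ iK))
    (i : T ⟶ H) (hT : Red.IsMaximalTorus i) (i' : T' ⟶ H') [IsMonHom i'] (p : T' ⟶ T) (hsq : IsPullback i' p f i) :
    Red.IsMaximalTorus i' := by
  haveI := hH'.1; haveI := hH'.2.1; haveI := hH.1; haveI := hH.2.1
  have hH's : Smooth H'.hom := hH'.2.1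
  have hH'a : IsAffineHom H'.hom := hH'.1
  haveI : LocallyOfFiniteType H'.hom := inferInstance
  haveI : IsSeparated H'.hom := inferInstance
  obtain ⟨S', gS, j, hj⟩ := exists_maximalTorus_smooth (k := k) H'
  letI := gS
  obtain ⟨T₁, gT₁, i₁, v, hi₁, hvm, hvi, hvs, hvf, hvq⟩ := exists_image_field hH' hH f j hj
  letI := gT₁; haveI := hi₁.1; haveI := hi₁.2.1; haveI := hvs; haveI := hvf; haveI := hvq
  haveI := hT.1; haveI := hT.2.1
  have hpb := isPullback_image hH' f iK hK hKc j hj i₁ v hvi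
  haveI : Mono i' := ⟨fun a b h => hsq.hom_ext h (by
    rw [← cancel_mono i, Category.assoc, Category.assoc, ← hsq.w, ← Category.assoc, h, Category.assoc])⟩
  let z := zMap k (AlgebraicClosure k)
  let F := Over.pullback z
  haveI := (Over.mapPullbackAdj z).isRightAdjoint
  haveI : Surjective z := surjective_zMap _
  haveI := H21Diag.isMonHom_map z f
  haveI : Surjective (F.map f).left := H21Diag.surjective_bcMap z f
  haveI : Smooth (Red.bc z H).hom := MorphismProperty.pullback_snd (P := @Smooth) _ _ inferInstance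
  haveI : QuasiCompact (Red.bc z H).hom := MorphismProperty.pullback_snd (P := @QuasiCompact) _ _ inferInstance
  haveI : Smooth (Red.bc z H').hom := MorphismProperty.pullback_snd (P := @Smooth) _ _ hH's
  haveI : LocallyOfFiniteType (Red.bc z H').hom := inferInstance
  haveI : LocallyOfFiniteType (Red.bc z H).hom := inferInstance
  obtain ⟨g, φ, hφ⟩ := exists_conjBy_algClosed (Red.bc z H) (F.map i₁) (F.map i)
    (H20Conj.isMaxTorus_of_isMaximalTorus (H21Diag.isMaximalTorus_bc hH.2.1 hH.1 i₁ z hi₁))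
    (H20Conj.isMaxTorus_of_isMaximalTorus (H21Diag.isMaximalTorus_bc hH.2.1 hH.1 i z hT))
  obtain ⟨g', hg'⟩ := H19Chev.exists_pt_lift (F.map f) g
  have hjK := H20Conj.isMaxTorus_of_isMaximalTorus (H21Diag.isMaximalTorus_bc hH's hH'a j z hj)
  haveI := hjK.1; haveI := hjK.2.1
  let σ : Red.bc z H' ≅ Red.bc z H' := ⟨H20Mu.conj g'⁻¹, H20Mu.conj g',
    by
      have h := H20Mu.comp_conj_conj g'⁻¹ (𝟙 (Red.bc z H'))
      rwa [Category.id_comp, inv_inv] at h,
    by
      have h := H20Mu.comp_conj_conj g' (𝟙 (Red.bc z H'))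
      rwa [Category.id_comp] at h⟩
  have hσ : σ.hom ≫ F.map f = F.map f ≫ H20Mu.conj g⁻¹ := by
    show H20Mu.conj g'⁻¹ ≫ F.map f = _
    rw [H20Mu.comp_conj, H20Mu.conj, MonObj.mul_comp, MonObj.mul_comp, GrpObj.inv_comp, Category.id_comp,
      Category.assoc, GrpObj.inv_comp, hg']
  have hφ' : F.map i₁ ≫ H20Mu.conj g⁻¹ = φ.hom ≫ F.map i := by
    rw [← hφ, H20Mu.comp_conj, GrpObj.comp_inv, inv_inv]
  let τ : Red.bc z H ≅ Red.bc z H := ⟨H20Mu.conj g⁻¹, H20Mu.conj g,
    by
      have h := H20Mu.comp_conj_conj g⁻¹ (𝟙 (Red.bc z H))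
      rwa [Category.id_comp, inv_inv] at h,
    by
      have h := H20Mu.comp_conj_conj g (𝟙 (Red.bc z H))
      rwa [Category.id_comp] at h⟩
  have hP : IsPullback (F.map j ≫ σ.hom) (F.map v ≫ φ.hom) (F.map f) (F.map i) :=
    (hpb.map F).of_iso (Iso.refl _) σ φ τ (by simp) (by simp) hσ.symm (by simpa using hφ')
  let e := (hsq.map F).isoIsPullback _ _ hP
  have he : e.hom ≫ F.map j ≫ σ.hom = F.map i' := IsPullback.isoIsPullback_hom_fst ..
  haveI : IsMonHom σ.hom := inferInstanceAs (IsMonHom (H20Mu.conj g'⁻¹))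
  haveI : IsMonHom σ.inv := inferInstanceAs (IsMonHom (H20Mu.conj g'))
  haveI : Mono σ.hom := ⟨fun a b h => by
    have h' := congrArg (· ≫ σ.inv) h
    simpa only [Category.assoc, Iso.hom_inv_id, Category.comp_id] using h'⟩
  haveI : Mono σ.inv := ⟨fun a b h => by
    have h' := congrArg (· ≫ σ.hom) h
    simpa only [Category.assoc, Iso.inv_hom_id, Category.comp_id] using h'⟩
  haveI : Mono (F.map j ≫ σ.hom) := mono_comp' inferInstance inferInstance
  haveI := H21Diag.isMonHom_map z i'
  haveI : IsMonHom (e.hom ≫ F.map j ≫ σ.hom) := by rw [he]; infer_instance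
  haveI : IsMonHom e.hom := H21Diag.isMonHom_of_comp_mono e.hom (F.map j ≫ σ.hom)
  have hj' : AGF.IsMaxTorus (F.map j ≫ σ.hom) :=
    ⟨inferInstance, inferInstance, hjK.2.2.1, fun W _ b _ _ ψ hW hψ =>
      haveI : Mono (b ≫ σ.inv) := mono_comp' inferInstance inferInstance
      hjK.2.2.2 W (b ≫ σ.inv) ψ hW (by rw [← Category.assoc, hψ, Category.assoc, Iso.hom_inv_id, Category.comp_id])⟩
  have hT'K : Red.IsTorus (Red.bc z T') := H19Fin.isTorus_of_iso e hjK.2.2.1
  have hmax := H21Diag.isMaximalTorus_precomp_iso e hT'K (isMaximalTorus_of_isMaxTorus hj')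
  rw [he] at hmax
  exact H21Diag.isMaximalTorus_of_bc i' (H19SemiAb.isTorus_of_bc (K := AlgebraicClosure k) hT'K) z inferInstance hmax

end Groth.Agent.LeadTorus
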