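import Groth.Agent.LeadTorus.CocharDesc

/-!
# Lifting centrality along a quotient by a central subgroup
-/

set_option autoImplicit false
set_option linter.style.haveILetI false
set_option backward.isDefEq.respectTransparency false
set_option maxHeartbeats 1000000
set_option synthInstance.maxHeartbeats 200000

universe u

open CategoryTheory CategoryTheory.Limits MonoidalCategory CartesianMonoidalCategory MonObj GrpObj AlgebraicGeometry
open Groth.Agent.H27Witt H20Mu H20Conj H20Borel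

noncomputable section

namespace Groth.Agent.LeadTorus

variable {K : Type u} [Field K] [IsAlgClosed K]

/-- A homomorphism is central. -/
def IsCentralHom {H G : Over (Sk K)} [GrpObj G] (u : H ⟶ G) : Prop :=
  ∀ (X : Over (Sk K)) (x : X ⟶ H) (g : X ⟶ G), (x ≫ u) * g = g * (x ≫ u)

omit [IsAlgClosed K] in
/-- Commutators with values in the centre are multiplicative in the second argument. -/
theorem commutator_mul {M : Type*} [Group M] (a g g' : M) (hc : ∀ h, Commute (a * g' * a⁻¹ * g'⁻¹) h) :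
    a * (g * g') * a⁻¹ * (g * g')⁻¹ = (a * g * a⁻¹ * g⁻¹) * (a * g' * a⁻¹ * g'⁻¹) := by
  calc a * (g * g') * a⁻¹ * (g * g')⁻¹ = (a * g * a⁻¹ * g⁻¹) * (g * (a * g' * a⁻¹ * g'⁻¹) * g⁻¹) := by group
    _ = _ := by rw [← (hc g).eq, mul_inv_cancel_right]

/-- If a commutator map is central-valued and trivial on `b`, it is trivial on every conjugate of `b`. -/
theorem commutator_conj_eq_one {M : Type*} [Group M] (a g b : M) (hc : ∀ h x, Commute (a * x * a⁻¹ * x⁻¹) h)
    (hb : a * b = b * a) : a * (g * b * g⁻¹) * a⁻¹ * (g * b * g⁻¹)⁻¹ = 1 := by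
  rw [commutator_mul a (g * b) g⁻¹ (hc · _), commutator_mul a g b (hc · _)]
  have : a * b * a⁻¹ * b⁻¹ = 1 := by rw [hb, mul_inv_cancel_right, mul_inv_cancel]
  rw [this, _root_.mul_one, ← commutator_mul a g g⁻¹ (hc · _)]
  group

/-- If the image in the quotient of a root of unity of order `p ^ n` under the descended cocharacter is central,
then the cocharacter is central on the roots of order `p ^ (n + 1)`. -/
theorem central_lift {G Q M : Over (Sk K)} [GrpObj G] [IsAffine G.left] [Smooth G.hom] [ConnectedSpace G.left]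
    [GrpObj Q] [GrpObj M] (m : M ⟶ G) (hm : IsCentralHom m) (q : G ⟶ Q) [IsMonHom q]
    (hker : ∀ (X : Over (Sk K)) (x : X ⟶ G), x ≫ q = 1 → ∃ w : X ⟶ M, w ≫ m = x)
    {T : Over (Sk K)} [GrpObj T] (iT : T ⟶ G) [IsMonHom iT] [Mono iT] (hT : Red.IsTorus T)
    (e : Red.Gm (Sk K) ⟶ T) [IsMonHom e] (p : ℕ) [NeZero p] (d' : Red.Gm (Sk K) ⟶ Q) [IsMonHom d']
    (hd' : powGm K p ≫ d' = (e ≫ iT) ≫ q) (n : ℕ) (hcen : IsCentralHom (muι K (p ^ n) ≫ d')) :
    IsCentralHom (muι K (p ^ (n + 1)) ≫ e ≫ iT) := by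
  classical
  haveI : NeZero (p ^ n) := ⟨pow_ne_zero _ (NeZero.ne p)⟩
  haveI : IsAffine (muGrp K (p ^ (n + 1))).left := inferInstanceAs (IsAffine (Spec _))
  let H := muGrp K (p ^ (n + 1))
  let A := (fst H G ≫ muι K (p ^ (n + 1))) ≫ e ≫ iT
  let θ : H ⊗ G ⟶ G := A * snd H G * A⁻¹ * (snd H G)⁻¹
  have hAq : ∀ g : H ⊗ G ⟶ Q, Commute (A ≫ q) g := fun g => by
    obtain ⟨y, hy⟩ := exists_muι_lift (q := p ^ n) ((fst H G ≫ muι K (p ^ (n + 1))) ^ p) (by
      rw [← pow_mul, ← pow_succ', ← comp_pow_gm, muι_pow, MonObj.comp_one])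
    have h1 : A ≫ q = y ≫ muι K (p ^ n) ≫ d' := by
      rw [← Category.assoc y, hy, ← comp_powGm]
      simp only [A, Category.assoc, hd']
    rw [h1]
    exact hcen _ y g
  have hθq : θ ≫ q = 1 := by
    simp only [θ, MonObj.mul_comp, GrpObj.inv_comp]
    rw [(hAq _).eq, mul_inv_cancel_right, mul_inv_cancel]
  obtain ⟨w, hw⟩ := hker _ θ hθq
  have hθ : ∀ P : H ⟶ G, lift (𝟙 H) P ≫ θ =
      (muι K (p ^ (n + 1)) ≫ e ≫ iT) * P * (muι K (p ^ (n + 1)) ≫ e ≫ iT)⁻¹ * P⁻¹ := fun P => by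
    simp only [θ, A, MonObj.comp_mul, GrpObj.comp_inv, ← Category.assoc, lift_fst, lift_snd, Category.id_comp]
  have key : θ = 1 := by
    obtain ⟨C, gC, c, hc, hcc, hCs, hCconn⟩ := exists_centralizer_connected iT hT
    letI := gC; haveI := hc.1; haveI := hcc; haveI := hCs; haveI := hCconn
    refine eq_of_conj iT hT c hc θ 1 fun g b => ?_
    rw [hθ, MonObj.comp_one]
    have hP : toUnit H ≫ (g * (b ≫ c) * g⁻¹) = (toUnit H ≫ g) * ((toUnit H ≫ b) ≫ c) * (toUnit H ≫ g)⁻¹ := by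
      rw [MonObj.comp_mul, MonObj.comp_mul, GrpObj.comp_inv, Category.assoc]
    rw [hP]
    refine commutator_conj_eq_one _ _ _ (fun h x => ?_) ?_
    · rw [← hθ x, ← hw, ← Category.assoc]
      exact hm _ _ h
    · have h := (hc.2.2 _ ((toUnit H ≫ b) ≫ c)).1 ⟨_, rfl⟩ _ (𝟙 _) (muι K (p ^ (n + 1)) ≫ e)
      rw [Category.id_comp] at h
      simp only [Category.assoc] at h ⊢
      exact h.symm
  intro X x g
  have h := congrArg (lift x g ≫ ·) key
  simp only [θ, A, MonObj.comp_mul, GrpObj.comp_inv, MonObj.comp_one, ← Category.assoc, lift_fst, lift_snd,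
    mul_inv_eq_iff_eq_mul, _root_.one_mul] at h
  rw [show lift x g ≫ snd H G = g from lift_snd x g] at h
  simp only [Category.assoc] at h ⊢
  exact h

end Groth.Agent.LeadTorus
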