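import Groth.Agent.LeadTorus.Central
import Groth.Agent.H19Chev.LargestMult

/-!
# When all high powers of derivations lie in an algebra, so does every subgroup `μ_p`
-/

set_option autoImplicit false
set_option linter.style.haveILetI false
set_option backward.isDefEq.respectTransparency false
set_option maxHeartbeats 1000000
set_option synthInstance.maxHeartbeats 100000

universe u

open TensorProduct WithConv Coalgebra Polynomial
open Groth.Agent.H20OT

noncomputable section

namespace Groth.Agent.LeadTorus

variable {K : Type u} [Field K] {R : Type u} [CommRing R] [HopfAlgebra K R]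
variable (p : ℕ) [hp : Fact p.Prime] [CharP K p]

/-- The group algebra of `ℤ/p`, the coordinate ring of `μ_p`. -/
abbrev MuAlg (K : Type u) [Field K] : Type u := MonoidAlgebra K (Multiplicative (ZMod p))

/-- The components of a homomorphism to the group algebra. -/
def coefFun (ψ : R →ₐc[K] MuAlg p K) (j : ZMod p) : WithConv (R →ₗ[K] K) :=
  toConv ((Finsupp.lapply (Multiplicative.ofAdd j)) ∘ₗ
    (MonoidAlgebra.coeffLinearEquiv K).toLinearMap ∘ₗ (ψ : R →ₗc[K] MuAlg p K).toLinearMap)

theorem coefFun_apply (ψ : R →ₐc[K] MuAlg p K) (j : ZMod p) (a : R) :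
    (coefFun p ψ j).ofConv a = (ψ a).coeff (Multiplicative.ofAdd j) := rfl

theorem coefFun_mul (ψ : R →ₐc[K] MuAlg p K) (i j : ZMod p) :
    coefFun p ψ i * coefFun p ψ j = if i = j then coefFun p ψ j else 0 := by
  classical
  refine WithConv.ofConv_injective (LinearMap.ext fun a => ?_)
  let L : MuAlg p K ⊗[K] MuAlg p K →ₗ[K] K := LinearMap.mul' K K ∘ₗ TensorProduct.map
    (Finsupp.lapply (Multiplicative.ofAdd i) ∘ₗ (MonoidAlgebra.coeffLinearEquiv K).toLinearMap)
    (Finsupp.lapply (Multiplicative.ofAdd j) ∘ₗ (MonoidAlgebra.coeffLinearEquiv K).toLinearMap)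
  have h1 : ∀ w : MuAlg p K, L (comul (R := K) w) = if i = j then w.coeff (Multiplicative.ofAdd j) else 0 := by
    intro w
    induction w using MonoidAlgebra.induction_linear with
    | zero => simp
    | add f g hf hg =>
      rw [map_add, map_add, hf, hg]
      split_ifs <;> simp
    | single g r =>
      rw [MonoidAlgebra.comul_single]
      simp only [L, CommSemiring.comul_apply, TensorProduct.map_tmul, LinearMap.coe_comp, Function.comp_apply,
        MonoidAlgebra.lsingle_apply, LinearMap.mul'_apply, LinearEquiv.coe_coe, MonoidAlgebra.coeffLinearEquiv_apply,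
        MonoidAlgebra.coeff_single, Finsupp.lapply_apply, Finsupp.single_apply]
      by_cases hij : i = j
      · subst hij; split_ifs <;> simp_all
      · rw [if_neg hij]
        by_cases hgi : g = Multiplicative.ofAdd i
        · rw [if_neg (fun h : g = Multiplicative.ofAdd j => hij (Multiplicative.ofAdd.injective (hgi.symm.trans h))),
            mul_zero]
        · rw [if_neg hgi, zero_mul]
  have h2 : (coefFun p ψ i * coefFun p ψ j).ofConv a = L (comul (R := K) (ψ a)) := by
    rw [LinearMap.convMul_apply, ← CoalgHomClass.map_comp_comul_apply ψ a]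
    generalize comul (R := K) a = z
    induction z using TensorProduct.induction_on with
    | zero => simp
    | tmul x y => rfl
    | add x y hx hy => simp only [map_add, hx, hy]
  rw [h2, h1]
  split_ifs <;> rfl

theorem sum_coefFun (ψ : R →ₐc[K] MuAlg p K) : ∑ j, coefFun p ψ j = 1 := by
  classical
  refine WithConv.ofConv_injective (LinearMap.ext fun a => ?_)
  have h1 : ∀ w : MuAlg p K, ∑ j : ZMod p, w.coeff (Multiplicative.ofAdd j) = counit (R := K) w := by
    intro w
    induction w using MonoidAlgebra.induction_linear with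
    | zero => simp
    | add f g hf hg => simp [Finset.sum_add_distrib, hf, hg]
    | single g r =>
      rw [MonoidAlgebra.counit_single, CommSemiring.counit_apply,
        Finset.sum_eq_single (Multiplicative.toAdd g)]
      · simp
      · intro j _ hj
        rw [MonoidAlgebra.coeff_single, Finsupp.single_apply, if_neg fun h => hj (by rw [h, toAdd_ofAdd])]
      · simp
  rw [WithConv.ofConv_sum, LinearMap.sum_apply, LinearMap.convOne_apply, Algebra.algebraMap_self, RingHom.id_apply,
    ← CoalgHomClass.counit_comp_apply ψ a, ← h1]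
  rfl

/-- The point derivation of a homomorphism from `μ_p`. -/
def muDer (ψ : R →ₐc[K] MuAlg p K) : WithConv (R →ₗ[K] K) :=
  ∑ j : ZMod p, (ZMod.castHom (dvd_refl p) K j) • coefFun p ψ j

theorem muDer_mem (ψ : R →ₐc[K] MuAlg p K) : muDer p ψ ∈ derSpace K R := by
  classical
  let D : MuAlg p K →ₗ[K] K := ∑ j : ZMod p, (ZMod.castHom (dvd_refl p) K j) •
    (Finsupp.lapply (Multiplicative.ofAdd j) ∘ₗ (MonoidAlgebra.coeffLinearEquiv K).toLinearMap)
  have hs : ∀ g r, D (MonoidAlgebra.single g r) = ZMod.castHom (dvd_refl p) K (Multiplicative.toAdd g) * r := by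
    intro g r
    simp only [D, LinearMap.sum_apply, LinearMap.smul_apply, LinearMap.comp_apply, LinearEquiv.coe_coe,
      MonoidAlgebra.coeffLinearEquiv_apply, MonoidAlgebra.coeff_single, Finsupp.lapply_apply, smul_eq_mul]
    rw [Finset.sum_eq_single (Multiplicative.toAdd g)]
    · simp
    · intro j _ hj
      rw [Finsupp.single_apply, if_neg fun h => hj (by rw [h, toAdd_ofAdd]), mul_zero]
    · simp
  have hD : ∀ v w : MuAlg p K, D (v * w) = D v * counit (R := K) w + counit (R := K) v * D w := by
    intro v w
    induction v using MonoidAlgebra.induction_linear with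
    | zero => simp
    | add f g hf hg => simp only [add_mul, map_add, hf, hg]; ring
    | single g r =>
      induction w using MonoidAlgebra.induction_linear with
      | zero => simp
      | add f g hf hg => simp only [mul_add, map_add, hf, hg]; ring
      | single g' r' =>
        rw [MonoidAlgebra.single_mul_single, hs, hs, hs, MonoidAlgebra.counit_single, MonoidAlgebra.counit_single,
          CommSemiring.counit_apply, CommSemiring.counit_apply, toAdd_mul, map_add]
        ring
  have he : ∀ a, (muDer p ψ).ofConv a = D (ψ a) := fun a => by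
    simp only [muDer, D, WithConv.ofConv_sum, LinearMap.sum_apply, WithConv.ofConv_smul, LinearMap.smul_apply]
    rfl
  intro a b
  rw [he, he, he, map_mul, hD, CoalgHomClass.counit_comp_apply, CoalgHomClass.counit_comp_apply]

theorem aeval_muDer (ψ : R →ₐc[K] MuAlg p K) (P : K[X]) :
    aeval (muDer p ψ) P = ∑ j : ZMod p, P.eval (ZMod.castHom (dvd_refl p) K j) • coefFun p ψ j := by
  classical
  have hmul : ∀ f g : ZMod p → K, (∑ j, f j • coefFun p ψ j) * (∑ j, g j • coefFun p ψ j) =
      ∑ j, (f j * g j) • coefFun p ψ j := fun f g => by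
    rw [Finset.sum_mul_sum]
    refine Finset.sum_congr rfl fun i _ => ?_
    rw [Finset.sum_eq_single i]
    · rw [smul_mul_smul_comm, coefFun_mul, if_pos rfl]
    · intro j _ hj; rw [smul_mul_smul_comm, coefFun_mul, if_neg (Ne.symm hj), smul_zero]
    · simp
  induction P using Polynomial.induction_on with
  | C a =>
    rw [aeval_C, Algebra.algebraMap_eq_smul_one, ← sum_coefFun p ψ, Finset.smul_sum]
    simp
  | add P Q hP hQ =>
    rw [map_add, hP, hQ, ← Finset.sum_add_distrib]
    exact Finset.sum_congr rfl fun j _ => by rw [eval_add, add_smul]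
  | monomial n a ih =>
    rw [pow_succ, ← mul_assoc, map_mul, ih, aeval_X, muDer, hmul]
    exact Finset.sum_congr rfl fun j _ => by simp [mul_assoc]

theorem muDer_pow (ψ : R →ₐc[K] MuAlg p K) (n : ℕ) : muDer p ψ ^ p ^ n = muDer p ψ := by
  have h := aeval_muDer p ψ (X ^ p ^ n)
  rw [map_pow, aeval_X] at h
  rw [h, muDer]
  refine Finset.sum_congr rfl fun j _ => ?_
  rw [eval_pow, eval_X, ← map_pow, ZMod.pow_card_pow]

theorem coefFun_eq_aeval (ψ : R →ₐc[K] MuAlg p K) (j : ZMod p) :
    coefFun p ψ j = aeval (muDer p ψ) (splitPoly p K j) := by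
  classical
  rw [aeval_muDer, Finset.sum_eq_single j]
  · rw [eval_splitPoly, if_pos rfl, one_smul]
  · intro i _ hi; rw [eval_splitPoly, if_neg hi, zero_smul]
  · simp

section Descend

theorem isScalarTower_conv {k : Type u} [Field k] {A : Type u} [CommRing A] [HopfAlgebra k A] (L : Type u) [Field L]
    [Algebra k L] : IsScalarTower k L (WithConv (L ⊗[k] A →ₗ[L] L)) :=
  ⟨fun a b F => WithConv.ofConv_injective (LinearMap.ext fun x => by simp)⟩

/-- The linear extension of functionals to a bigger field. -/
def extLin {k : Type u} [Field k] {A : Type u} [CommRing A] [HopfAlgebra k A] (L : Type u) [Field L] [Algebra k L] :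
    L ⊗[k] WithConv (A →ₗ[k] k) →ₐ[k] WithConv (L ⊗[k] A →ₗ[L] L) :=
  haveI := isScalarTower_conv (k := k) (A := A) L
  Algebra.TensorProduct.lift ((Algebra.ofId L _).restrictScalars k) (extAlg L) fun x y => Algebra.commutes x _

theorem extLin_tmul {k : Type u} [Field k] {A : Type u} [CommRing A] [HopfAlgebra k A] (L : Type u) [Field L]
    [Algebra k L] (c : L) (f : WithConv (A →ₗ[k] k)) : extLin L (c ⊗ₜ[k] f) = c • extAlg L f := by
  rw [extLin, Algebra.TensorProduct.lift_tmul, Algebra.smul_def]
  rfl

theorem extLin_pow_sum {k : Type u} [Field k] {A : Type u} [CommRing A] [HopfAlgebra k A] (L : Type u) [Field L]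
    [Algebra k L] {σ : Type u} [Fintype σ] (c : σ → L) (f : σ → WithConv (A →ₗ[k] k)) (n : ℕ) :
    extLin L ((∑ i, c i ⊗ₜ[k] f i) ^ n) = (∑ i, c i • extAlg L (f i)) ^ n := by
  induction n with
  | zero =>
    rw [pow_zero, pow_zero, Algebra.TensorProduct.one_def, extLin_tmul, one_smul, map_one]
  | succ n ih =>
    rw [pow_succ, pow_succ, map_mul, ih, map_sum]
    exact congrArg _ (Finset.sum_congr rfl fun i _ => extLin_tmul L _ _)

theorem extLin_smul {k : Type u} [Field k] {A : Type u} [CommRing A] [HopfAlgebra k A] (L : Type u) [Field L]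
    [Algebra k L] (a : L) (x : L ⊗[k] WithConv (A →ₗ[k] k)) : extLin L (a • x) = a • extLin L x := by
  induction x using TensorProduct.induction_on with
  | zero => rw [smul_zero, map_zero, smul_zero]
  | tmul c f => rw [TensorProduct.smul_tmul', extLin_tmul, extLin_tmul, smul_eq_mul, mul_smul]
  | add x y hx hy => rw [smul_add, map_add, map_add, hx, hy, smul_add]

variable {k : Type u} [Field k] [Infinite k] [CharP k p] {A : Type u} [CommRing A] [HopfAlgebra k A]
  [Algebra.FiniteType k A] {C : Type u} [CommRing C] [HopfAlgebra k C] [Algebra k K]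

/-- If the high powers of the derivations of `A` are functionals of a quotient, every subgroup `μ_p` of the base
change lies in the base change of the quotient. -/
theorem exists_factor_muP (φ : A →ₐc[k] C) (hφ : Function.Surjective φ)
    (hB : ∀ e ∈ derSpace k A, e ^ p ^ Module.finrank k (derSpace k A) ∈ Set.range (pullFun φ))
    (ψ : K ⊗[k] A →ₐc[K] MuAlg p K) :
    ∃ χ : K ⊗[k] C →ₐc[K] MuAlg p K,
      ∀ a, χ (Bialgebra.TensorProduct.map (BialgHom.id K K) φ a) = ψ a := by
  classical
  let N := Module.finrank k (derSpace k A)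
  let φK : K ⊗[k] A →ₐc[K] K ⊗[k] C := Bialgebra.TensorProduct.map (BialgHom.id K K) φ
  -- the functionals of the base change of the quotient
  let P : Submodule K (WithConv (K ⊗[k] A →ₗ[K] K)) :=
    { carrier := {F | ∀ x, φK x = 0 → F.ofConv x = 0}
      zero_mem' := fun x _ => rfl
      add_mem' := fun {F G} hF hG x hx => by rw [WithConv.ofConv_add, LinearMap.add_apply, hF x hx, hG x hx, add_zero]
      smul_mem' := fun c F hF x hx => by rw [WithConv.ofConv_smul, LinearMap.smul_apply, hF x hx, smul_zero] }
  let pre : WithConv (K ⊗[k] C →ₗ[K] K) → WithConv (K ⊗[k] A →ₗ[K] K) := pullFun φK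
  have hsurjK : Function.Surjective φK := fun y => by
    induction y using TensorProduct.induction_on with
    | zero => exact ⟨0, map_zero _⟩
    | tmul c x =>
      obtain ⟨a, rfl⟩ := hφ x
      exact ⟨c ⊗ₜ a, rfl⟩
    | add x y hx hy =>
      obtain ⟨a, rfl⟩ := hx
      obtain ⟨b, rfl⟩ := hy
      exact ⟨a + b, map_add _ _ _⟩
  have hP : ∀ F, F ∈ P ↔ ∃ G, pre G = F := by
    intro F
    constructor
    · intro hF
      have hker : LinearMap.ker ((φK : K ⊗[k] A →ₗc[K] K ⊗[k] C).toLinearMap) ≤ LinearMap.ker F.ofConv :=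
        fun x hx => hF x hx
      refine ⟨toConv ((Submodule.liftQ _ F.ofConv hker) ∘ₗ
        (LinearMap.quotKerEquivOfSurjective (φK : K ⊗[k] A →ₗc[K] K ⊗[k] C).toLinearMap hsurjK).symm.toLinearMap),
        WithConv.ofConv_injective (LinearMap.ext fun x => ?_)⟩
      show (Submodule.liftQ _ F.ofConv hker) ((LinearMap.quotKerEquivOfSurjective
        (φK : K ⊗[k] A →ₗc[K] K ⊗[k] C).toLinearMap hsurjK).symm (φK x)) = F.ofConv x
      have hx : (LinearMap.quotKerEquivOfSurjective (φK : K ⊗[k] A →ₗc[K] K ⊗[k] C).toLinearMap hsurjK).symm (φK x) =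
          Submodule.Quotient.mk x := (LinearEquiv.symm_apply_eq _).2 rfl
      rw [hx]
      rfl
    · rintro ⟨G, rfl⟩ x hx
      show G.ofConv (φK x) = 0
      rw [hx, map_zero]
  have hPmul : ∀ F G, F ∈ P → G ∈ P → F * G ∈ P := fun F G hF hG => by
    obtain ⟨F, rfl⟩ := (hP F).1 hF
    obtain ⟨G, rfl⟩ := (hP G).1 hG
    exact (hP _).2 ⟨F * G, WithConv.ofConv_injective
      (LinearMap.convMul_comp_coalgHom_distrib F G (φK : K ⊗[k] A →ₗc[K] K ⊗[k] C))⟩
  have hP1 : (1 : WithConv (K ⊗[k] A →ₗ[K] K)) ∈ P := fun x hx => by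
    rw [LinearMap.convOne_apply, ← CoalgHomClass.counit_comp_apply φK x, hx, map_zero, map_zero]
  let Pa : Subalgebra K (WithConv (K ⊗[k] A →ₗ[K] K)) := P.toSubalgebra hP1 hPmul
  -- the derivation lies there
  let e := muDer p ψ
  have heP : e ∈ P := by
    let W : Submodule k (WithConv (A →ₗ[k] k)) :=
      { carrier := {f | extAlg K f ∈ P}
        zero_mem' := by show extAlg K 0 ∈ P; rw [map_zero]; exact zero_mem _
        add_mem' := fun {f g} hf hg => by show extAlg K (f + g) ∈ P; rw [map_add]; exact add_mem hf hg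
        smul_mem' := fun c f hf => by
          show extAlg K (c • f) ∈ P
          haveI := isScalarTower_conv (k := k) (A := A) K
          rw [map_smul, ← algebraMap_smul K c (extAlg K f)]
          exact P.smul_mem _ hf }
    haveI : Module.Free k (derSpace k A) := Module.Free.of_divisionRing k (derSpace k A)
    let b := Module.finBasis k (derSpace k A)
    have hWb : ∀ c : ULift.{u} (Fin N) → k, (∑ i, c i • (b i.down).1) ^ p ^ N ∈ W := fun c => by
      have hmem : (∑ i, c i • (b i.down).1) ∈ derSpace k A :=
        Submodule.sum_mem _ fun i _ => Submodule.smul_mem _ _ (b i.down).2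
      obtain ⟨d, hd⟩ := hB _ hmem
      show extAlg K _ ∈ P
      intro x hx
      rw [← hd]
      have key : ∀ y, (extAlg K (pullFun φ d)).ofConv y = (extAlg K d).ofConv (φK y) := by
        intro y
        induction y using TensorProduct.induction_on with
        | zero => simp
        | tmul c a =>
          show _ = (extAlg K d).ofConv (c ⊗ₜ[k] φ a)
          rw [extAlg_tmul, extAlg_tmul, pullFun_apply]
        | add y z hy hz => simp only [map_add, hy, hz]
      rw [key, hx, map_zero]
    obtain ⟨c, hc⟩ := mem_span_extAlg K (muDer_mem p ψ) (b.reindex Equiv.ulift.symm)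
    have hΛ : ∀ z ∈ W.baseChange K, extLin K z ∈ P := fun z hz => by
      rw [Submodule.baseChange_eq_span] at hz
      induction hz using Submodule.span_induction with
      | zero => rw [map_zero]; exact zero_mem _
      | add x y _ _ hx hy => rw [map_add]; exact add_mem hx hy
      | smul a x _ hx => rw [extLin_smul]; exact P.smul_mem _ hx
      | mem x hx =>
        obtain ⟨f, hf, rfl⟩ := hx
        show extLin K ((1 : K) ⊗ₜ f) ∈ P
        rw [extLin_tmul, one_smul]
        exact hf
    have h1 := hΛ _ (pow_mem_baseChange W (p ^ N) (fun i : ULift.{u} (Fin N) => (b i.down).1) hWb K c)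
    rw [extLin_pow_sum] at h1
    have h2 : (∑ i : ULift.{u} (Fin N), c i • extAlg K (b i.down).1) = e := by
      rw [show e = _ from hc]
      refine Finset.sum_congr rfl fun i _ => ?_
      rw [Module.Basis.reindex_apply]
      rfl
    rw [h2, muDer_pow] at h1
    exact h1
  have hcoef : ∀ j, coefFun p ψ j ∈ Pa := fun j => by
    rw [coefFun_eq_aeval]
    exact (Algebra.adjoin_le (S := Pa) (Set.singleton_subset_iff.2 heP))
      (Polynomial.aeval_mem_adjoin_singleton K e)
  refine H19Chev.LargestMult.exists_factor φK hsurjK ψ fun x hx => RingHom.mem_ker.2 ?_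
  refine MonoidAlgebra.ext (Finsupp.ext fun g => ?_)
  have h := hcoef (Multiplicative.toAdd g) x (RingHom.mem_ker.1 hx)
  rw [coefFun_apply, ofAdd_toAdd] at h
  simpa using h

end Descend

end Groth.Agent.LeadTorus
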