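import Groth.Agent.LeadTorus.Char0Sub
import Groth.Agent.LeadTorus.MuPFactor
import Mathlib.LinearAlgebra.Charpoly.Basic
import Mathlib.LinearAlgebra.Eigenspace.Zero

/-!
# Centrality criteria in characteristic zero
-/

set_option autoImplicit false
set_option linter.style.haveILetI false
set_option linter.unusedSectionVars false
set_option backward.isDefEq.respectTransparency false
set_option maxHeartbeats 1000000
set_option synthInstance.maxHeartbeats 200000

universe u

open TensorProduct WithConv Coalgebra
open CategoryTheory MonoidalCategory CartesianMonoidalCategory MonObj GrpObj AlgebraicGeometry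
open Groth.Agent.H20OT Groth.Agent.H20Comod Groth.Agent.H20Inf Groth.Agent.H20Red HopfRep

noncomputable section

namespace Groth.Agent.LeadTorus

section Dense

variable {k : Type u} [Field k] [CharZero k] {A : Type u} [CommRing A] [HopfAlgebra k A] [IsDomain A]
  [Algebra.FiniteType k A]

theorem conv_apply_op (f g : WithConv (A →ₗ[k] k)) (a : A) : (f * g).ofConv a = f.ofConv (op g a) := by
  rw [← counit_op (f * g), op_mul, Module.End.mul_apply, counit_op]

/-- The functionals generated by point derivations separate the functions on a connected group. -/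
theorem eq_zero_of_adjoin_derSpace {a : A}
    (ha : ∀ F ∈ Algebra.adjoin k (derSpace k A : Set (WithConv (A →ₗ[k] k))), F.ofConv a = 0) : a = 0 := by
  let W : Submodule k A :=
    { carrier := {b | ∀ F ∈ Algebra.adjoin k (derSpace k A : Set (WithConv (A →ₗ[k] k))), F.ofConv b = 0}
      zero_mem' := fun F _ => map_zero _
      add_mem' := fun hb hc F hF => by rw [map_add, hb F hF, hc F hF, add_zero]
      smul_mem' := fun r b hb F hF => by rw [map_smul, hb F hF, smul_zero] }
  refine eq_zero_of_stable_domain W (fun ξ b hb F hF => ?_) (fun b hb => ?_) (show a ∈ W from ha)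
  · have hξ : toConv (lin ξ) ∈ derSpace k A := fun p q => by
      show lin ξ (p * q) = lin ξ p * _ + _ * lin ξ q
      rw [lin_mul]
      simp only [Bialgebra.counitAlgHom_apply]
      ring
    show F.ofConv (op (toConv (lin ξ)) b) = 0
    rw [← conv_apply_op]
    exact hb _ (mul_mem hF (Algebra.subset_adjoin hξ))
  · have h := hb 1 (one_mem _)
    rwa [LinearMap.convOne_apply, Algebra.algebraMap_self, RingHom.id_apply] at h

/-- A functional commuting with the point derivations commutes with every functional. -/
theorem commute_of_commute_derSpace (c : WithConv (A →ₗ[k] k)) (hc : ∀ f ∈ derSpace k A, Commute c f)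
    (f : WithConv (A →ₗ[k] k)) : Commute c f := by
  have hadj : ∀ F ∈ Algebra.adjoin k (derSpace k A : Set (WithConv (A →ₗ[k] k))), Commute c F := fun F hF =>
    Algebra.commute_of_mem_adjoin_of_forall_mem_commute hF fun d hd => hc d hd
  refine WithConv.ofConv_injective (LinearMap.ext fun a => ?_)
  have key : ∀ g : WithConv (A →ₗ[k] k), (c * g).ofConv a = g.ofConv (TensorProduct.lid k A
      (LinearMap.rTensor A c.ofConv (Coalgebra.comul (R := k) a))) := by
    intro g
    rw [LinearMap.convMul_apply]
    induction Coalgebra.comul (R := k) a using TensorProduct.induction_on with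
    | zero => simp
    | tmul p q => simp
    | add p q hp hq => simp only [map_add, hp, hq]
  have hv := eq_zero_of_adjoin_derSpace
    (a := TensorProduct.lid k A (LinearMap.rTensor A c.ofConv (Coalgebra.comul (R := k) a)) - op c a) fun F hF => by
      have e : F.ofConv (TensorProduct.lid k A (LinearMap.rTensor A c.ofConv (Coalgebra.comul (R := k) a))) =
          F.ofConv (op c a) :=
        (key F).symm.trans (((congrArg (fun t => t.ofConv a) (hadj F hF).eq)).trans (conv_apply_op F c a))
      rw [map_sub F.ofConv, e, sub_self]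
  rw [key, conv_apply_op, sub_eq_zero.1 hv]

end Dense

section Scheme

variable {k : Type u} [Field k] {A : Type u} [CommRing A] [HopfAlgebra k A] {C : Type u} [CommRing C] [HopfAlgebra k C]

/-- A subgroup with a separating family of central functionals is central. -/
theorem central_of_commute (φ : A →ₐc[k] C) (F : Set (C →ₗ[k] k)) (hF : ∀ x, (∀ f ∈ F, f x = 0) → x = 0)
    (hc : ∀ d ∈ F, ∀ f : WithConv (A →ₗ[k] k), Commute (pullFun φ (toConv d)) f)
    (X : Over (Spec (CommRingCat.of k))) (x : X ⟶ H21Hom.specGrp k C) (g : X ⟶ H21Hom.specGrp k A) :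
    (x ≫ H19Chev.LargestMult.specHom φ) * g = g * (x ≫ H19Chev.LargestMult.specHom φ) := by
  let a : WithConv (A →ₐ[k] C ⊗[k] A) :=
    toConv ((Algebra.TensorProduct.includeLeft : C →ₐ[k] C ⊗[k] A).comp (φ : A →ₐ[k] C))
  let b : WithConv (A →ₐ[k] C ⊗[k] A) := toConv (Algebra.TensorProduct.includeRight : A →ₐ[k] C ⊗[k] A)
  have hab : a * b = b * a := by
    refine WithConv.ofConv_injective (AlgHom.ext fun y => sub_eq_zero.1 ?_)
    refine eq_zero_of_forall_pair F Set.univ hF
      (fun w hw => (Module.forall_dual_apply_eq_zero_iff k w).1 fun g => hw g trivial) fun d hd g _ => ?_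
    rw [AlgHom.convMul_apply, AlgHom.convMul_apply, map_sub, map_sub, sub_eq_zero]
    have h1 : ∀ z : A ⊗[k] A, LinearMap.mul' k k (TensorProduct.map d g
        (Algebra.TensorProduct.lift a.ofConv b.ofConv (fun _ _ => Commute.all _ _) z)) =
        LinearMap.mul' k k (TensorProduct.map (pullFun φ (toConv d)).ofConv g z) := by
      intro z
      induction z using TensorProduct.induction_on with
      | zero => simp
      | tmul p q => simp [a, b, pullFun_apply]
      | add p q hp hq => simp only [map_add, hp, hq]
    have h2 : ∀ z : A ⊗[k] A, LinearMap.mul' k k (TensorProduct.map d g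
        (Algebra.TensorProduct.lift b.ofConv a.ofConv (fun _ _ => Commute.all _ _) z)) =
        LinearMap.mul' k k (TensorProduct.map g (pullFun φ (toConv d)).ofConv z) := by
      intro z
      induction z using TensorProduct.induction_on with
      | zero => simp
      | tmul p q => simp [a, b, pullFun_apply, mul_comm]
      | add p q hp hq => simp only [map_add, hp, hq]
    rw [h1, h2]
    exact LinearMap.congr_fun (congrArg WithConv.ofConv (hc d hd (toConv g)).eq) y
  let S := Spec (CommRingCat.of k)
  let prod : Over S := (Spec (CommRingCat.of (C ⊗[k] A))).asOver S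
  let p₁ : prod ⟶ H21Hom.specGrp k C :=
    (Spec.map (CommRingCat.ofHom (Algebra.TensorProduct.includeLeft : C →ₐ[k] C ⊗[k] A).toRingHom)).asOver S
  let p₂ : prod ⟶ H21Hom.specGrp k A :=
    (Spec.map (CommRingCat.ofHom (Algebra.TensorProduct.includeRight : A →ₐ[k] C ⊗[k] A).toRingHom)).asOver S
  have hax : Spec.mapMulEquiv (R := k) (S := A) a = p₁ ≫ H19Chev.LargestMult.specHom φ := by
    refine Over.OverMorphism.ext ?_
    show Spec.map (CommRingCat.ofHom a.ofConv.toRingHom) = p₁.left ≫ (H19Chev.LargestMult.specHom φ).left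
    rw [H19Chev.LargestMult.specHom_left]
    show _ = Spec.map _ ≫ Spec.map _
    rw [← Spec.map_comp]
    rfl
  have huniv : (p₁ ≫ H19Chev.LargestMult.specHom φ) * p₂ = p₂ * (p₁ ≫ H19Chev.LargestMult.specHom φ) := by
    have h := congrArg (Spec.mapMulEquiv (R := k) (S := A) (T := C ⊗[k] A)) hab
    rwa [map_mul, map_mul, hax] at h
  obtain ⟨w, hw₁, hw₂⟩ : ∃ w : X ⟶ prod, w ≫ p₁ = x ∧ w ≫ p₂ = g := by
    refine ⟨Over.homMk ((Limits.pullback.lift x.left g.left ((Over.w x).trans (Over.w g).symm)) ≫
          (pullbackSpecIso k C A).hom) ?_, ?_, ?_⟩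
    · show (_ ≫ (pullbackSpecIso k C A).hom) ≫ (Spec (CommRingCat.of (C ⊗[k] A)) ↘ S) = X.hom
      refine Eq.trans ?_ (Over.w x)
      rw [show (Spec (CommRingCat.of (C ⊗[k] A)) ↘ S) =
        Spec.map (CommRingCat.ofHom (Algebra.TensorProduct.includeLeft : C →ₐ[k] C ⊗[k] A).toRingHom) ≫
          (Spec (CommRingCat.of C) ↘ S) from (comp_over _ _).symm]
      simp only [Category.assoc]
      erw [pullbackSpecIso_hom_fst_assoc, Limits.pullback.lift_fst_assoc]
      rfl
    · refine Over.OverMorphism.ext ?_
      show (_ ≫ (pullbackSpecIso k C A).hom) ≫ _ = x.left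
      rw [Category.assoc]
      erw [pullbackSpecIso_hom_fst, Limits.pullback.lift_fst]
    · refine Over.OverMorphism.ext ?_
      show (_ ≫ (pullbackSpecIso k C A).hom) ≫ _ = g.left
      rw [Category.assoc]
      erw [pullbackSpecIso_hom_snd, Limits.pullback.lift_snd]
  have h := congrArg (w ≫ ·) huniv
  simp only [MonObj.comp_mul, ← Category.assoc, hw₁, hw₂] at h
  exact h

end Scheme

section Nilpotent

variable {k : Type u} [Field k] [Infinite k] {A : Type u} [CommRing A] [HopfAlgebra k A] [Algebra.FiniteType k A]
  (K : Type u) [Field K] [Algebra k K]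

theorem extAlg_injective : Function.Injective (extAlg (k := k) (A := A) K) := fun f g h =>
  WithConv.ofConv_injective (LinearMap.ext fun a => (algebraMap k K).injective (by
    rw [← extAlg_one_tmul, ← extAlg_one_tmul, h]))

theorem cm_sum_sum {k : Type u} [Field k] {A : Type u} [CommRing A] [HopfAlgebra k A] {σ : Type u} [Fintype σ]
    (E : σ → WithConv (A →ₗ[k] k)) (s : σ → σ → σ → k) (hs : ∀ i j, cm (E i) (E j) = ∑ l, s i j l • E l)
    (c : σ → k) (q : σ → k) :
    cm (∑ i, c i • E i) (∑ j, q j • E j) = ∑ l, (∑ j, q j * ∑ i, c i * s i j l) • E l := by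
  calc cm (∑ i, c i • E i) (∑ j, q j • E j)
      = ∑ j, q j • ∑ i, c i • cm (E i) (E j) := by
        simp only [cm, Finset.mul_sum, Finset.sum_mul, smul_mul_assoc, mul_smul_comm, smul_sub, Finset.smul_sum,
          Finset.sum_sub_distrib, smul_comm (c _) (q _)]
        congr 1
        exact Finset.sum_comm
    _ = _ := by
        simp only [hs, Finset.smul_sum, smul_smul, Finset.sum_smul, Finset.mul_sum]
        rw [Finset.sum_comm]
        refine (Finset.sum_congr rfl fun i _ => Finset.sum_comm).trans ?_
        rw [Finset.sum_comm]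
        refine Finset.sum_congr rfl fun l _ => ?_
        rw [Finset.sum_comm]

theorem cm_iterate_eq {k : Type u} [Field k] {A : Type u} [CommRing A] [HopfAlgebra k A] {σ : Type u} [Fintype σ]
    [DecidableEq σ] (E : σ → WithConv (A →ₗ[k] k)) (s : σ → σ → σ → k)
    (hs : ∀ i j, cm (E i) (E j) = ∑ l, s i j l • E l) (c : σ → k) (j : σ) : ∀ n : ℕ,
    (cm (∑ i, c i • E i))^[n] (E j) =
      ∑ l, ((Matrix.of fun a b => ∑ i, c i * s i b a) ^ n : Matrix σ σ k) l j • E l
  | 0 => by simp [Matrix.one_apply]
  | n + 1 => by
    rw [Function.iterate_succ_apply', cm_iterate_eq E s hs c j n, cm_sum_sum E s hs]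
    refine Finset.sum_congr rfl fun l _ => ?_
    rw [pow_succ', Matrix.mul_apply]
    congr 1
    exact Finset.sum_congr rfl fun b _ => mul_comm _ _

theorem pow_finrank_eq_zero {F : Type u} [Field F] {V : Type u} [AddCommGroup V] [Module F V] [FiniteDimensional F V]
    (T : Module.End F V) (hT : IsNilpotent T) : T ^ Module.finrank F V = 0 := by
  haveI : Module.Free F V := Module.Free.of_divisionRing F V
  have h := LinearMap.aeval_self_charpoly T
  rwa [(LinearMap.isNilpotent_iff_charpoly T).1 hT, map_pow, Polynomial.aeval_X] at h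

/-- The structure matrix of the commutator with a general derivation. -/
def strMat {σ : Type u} [Fintype σ] (s : σ → σ → σ → k) : Matrix σ σ (MvPolynomial σ k) :=
  Matrix.of fun a c => ∑ i, MvPolynomial.X i * MvPolynomial.C (s i c a)

theorem eval_strMat {σ : Type u} [Fintype σ] [DecidableEq σ] (s : σ → σ → σ → k) {R : Type u} [CommRing R]
    [Algebra k R] (c : σ → R) :
    (Matrix.of fun a d => ∑ i, c i * algebraMap k R (s i d a)) =
      (MvPolynomial.aeval (R := k) c).toRingHom.mapMatrix (strMat s) := by
  refine Matrix.ext fun a d => ?_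
  simp [strMat, map_sum]

theorem strMat_pow_eq_zero
    (h : ∀ x (hx : x ∈ derSpace k A), IsNilpotent (adDer (extAlg K x) (extAlg_mem_derSpace K hx)))
    {σ : Type u} [Fintype σ] [DecidableEq σ] (b : Module.Basis σ k (derSpace k A)) (s : σ → σ → σ → k)
    (hs : ∀ i j, cm (b i).1 (b j).1 = ∑ l, s i j l • (b l).1) :
    strMat s ^ Module.finrank k (derSpace k A) = 0 := by
  refine Matrix.ext fun l j => MvPolynomial.funext fun c => ?_
  rw [Matrix.zero_apply, map_zero]
  have hx : (∑ i, c i • (b i).1) ∈ derSpace k A := Submodule.sum_mem _ fun i _ => Submodule.smul_mem _ _ (b i).2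
  have hnil : IsNilpotent (adDer _ hx) := by
    obtain ⟨m, hm⟩ := h _ hx
    refine ⟨m, LinearMap.ext fun g => Subtype.ext (extAlg_injective K ?_)⟩
    rw [adDer_pow, LinearMap.zero_apply]
    have h2 := congrArg Subtype.val (LinearMap.congr_fun hm ⟨extAlg K g.1, extAlg_mem_derSpace K g.2⟩)
    rw [adDer_pow] at h2
    refine Eq.trans ?_ (h2.trans (map_zero (extAlg (k := k) (A := A) K)).symm)
    clear h2 hm
    induction m with
    | zero => rfl
    | succ m ih =>
      rw [Function.iterate_succ_apply', Function.iterate_succ_apply', ← ih]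
      simp only [cm, map_sub, map_mul]
  have h1 := congrArg Subtype.val (LinearMap.congr_fun (pow_finrank_eq_zero _ hnil) (b j))
  rw [adDer_pow, cm_iterate_eq (fun i => (b i).1) s hs c j] at h1
  have hev := eval_strMat s c
  simp only [Algebra.algebraMap_self, RingHom.id_apply] at hev
  rw [hev, ← map_pow] at h1
  have h3 : ∑ l, (MvPolynomial.aeval (R := k) c ((strMat s ^ Module.finrank k (derSpace k A)) l j)) • b l = 0 := by
    refine Subtype.ext ?_
    rw [Submodule.coe_sum]
    exact h1
  have h4 := congrFun (b.repr_sum_self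
    (fun l => MvPolynomial.aeval (R := k) c ((strMat s ^ Module.finrank k (derSpace k A)) l j))) l
  rw [h3, map_zero, Finsupp.coe_zero, Pi.zero_apply] at h4
  rw [← MvPolynomial.aeval_eq_eval]
  exact h4.symm

/-- If the commutators with all rational derivations are nilpotent, so are those with all derivations of the base
change. -/
theorem cm_iterate_eq_zero
    (h : ∀ x (hx : x ∈ derSpace k A), IsNilpotent (adDer (extAlg K x) (extAlg_mem_derSpace K hx)))
    {e f : WithConv (K ⊗[k] A →ₗ[K] K)} (he : e ∈ derSpace K (K ⊗[k] A)) (hf : f ∈ derSpace K (K ⊗[k] A)) :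
    (cm e)^[Module.finrank k (derSpace k A)] f = 0 := by
  classical
  haveI : Module.Free k (derSpace k A) := Module.Free.of_divisionRing k (derSpace k A)
  let b := (Module.finBasis k (derSpace k A)).reindex
    (Equiv.ulift.{u} (α := Fin (Module.finrank k (derSpace k A)))).symm
  let s : ULift.{u} (Fin (Module.finrank k (derSpace k A))) → ULift.{u} (Fin (Module.finrank k (derSpace k A))) →
      ULift.{u} (Fin (Module.finrank k (derSpace k A))) → k := fun i j l =>
    b.repr ⟨cm (b i).1 (b j).1, cm_mem_derSpace (b i).2 (b j).2⟩ l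
  have hs : ∀ i j, cm (b i).1 (b j).1 = ∑ l, s i j l • (b l).1 := fun i j => by
    have h1 := congrArg Subtype.val (b.sum_repr ⟨cm (b i).1 (b j).1, cm_mem_derSpace (b i).2 (b j).2⟩)
    rw [Submodule.coe_sum] at h1
    exact h1.symm
  haveI := isScalarTower_conv (k := k) (A := A) K
  have hsK : ∀ i j, cm (extAlg K (b i).1) (extAlg K (b j).1) =
      ∑ l, algebraMap k K (s i j l) • extAlg K (b l).1 := fun i j => by
    rw [show cm (extAlg K (b i).1) (extAlg K (b j).1) = extAlg K (cm (b i).1 (b j).1) by simp only [cm, map_sub, map_mul],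
      hs, map_sum]
    exact Finset.sum_congr rfl fun l _ => by rw [map_smul, algebraMap_smul]
  obtain ⟨c, hc⟩ := mem_span_extAlg K he b
  obtain ⟨q, hq⟩ := mem_span_extAlg K hf b
  have hj : ∀ j, (cm e)^[Module.finrank k (derSpace k A)] (extAlg K (b j).1) = 0 := fun j => by
    rw [hc, cm_iterate_eq (fun i => extAlg K (b i).1) (fun i j l => algebraMap k K (s i j l)) hsK c j,
      eval_strMat s c, ← map_pow, strMat_pow_eq_zero K h b s hs, map_zero]
    exact Finset.sum_eq_zero fun l _ => by rw [Matrix.zero_apply, zero_smul]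
  let L : WithConv (K ⊗[k] A →ₗ[K] K) →ₗ[K] WithConv (K ⊗[k] A →ₗ[K] K) :=
    { toFun := cm e
      map_add' := fun f g => by simp only [cm, mul_add, add_mul]; abel
      map_smul' := fun r f => by simp only [cm, mul_smul_comm, smul_mul_assoc, smul_sub, RingHom.id_apply] }
  rw [show (cm e)^[Module.finrank k (derSpace k A)] f = (L ^ Module.finrank k (derSpace k A)) f from
    (Module.End.pow_apply L _ f).symm, hq, map_sum]
  refine Finset.sum_eq_zero fun j _ => ?_
  rw [map_smul, show (L ^ Module.finrank k (derSpace k A)) (extAlg K (b j).1) =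
    (cm e)^[Module.finrank k (derSpace k A)] (extAlg K (b j).1) from Module.End.pow_apply L _ _, hj, smul_zero]

end Nilpotent

end Groth.Agent.LeadTorus
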