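import Groth.Agent.LeadTorus.PointDer
import Groth.Agent.H20Red.Unipotent

/-!
# Invariant operators of functionals and the grading by a point derivation
-/

set_option autoImplicit false
set_option linter.style.haveILetI false
set_option linter.unusedSectionVars false
set_option backward.isDefEq.respectTransparency false
set_option maxHeartbeats 1000000
set_option synthInstance.maxHeartbeats 200000

universe u

open TensorProduct WithConv Coalgebra HopfRep
open Groth.Agent.H20OT Groth.Agent.H20Comod Groth.Agent.H20Inf Groth.Agent.H20Red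

noncomputable section

namespace Groth.Agent.LeadTorus

variable {k : Type u} [Field k] {A : Type u} [CommRing A] [HopfAlgebra k A]

/-- The left invariant operator of a functional. -/
def op (f : WithConv (A →ₗ[k] k)) : Module.End k A := actL f.ofConv

theorem op_mul (f g : WithConv (A →ₗ[k] k)) : op (f * g) = op f * op g :=
  LinearMap.ext fun a => by
    show actL (f * g).ofConv a = actL f.ofConv (actL g.ofConv a)
    rw [← actL_conv]
    rfl

theorem op_add (f g : WithConv (A →ₗ[k] k)) : op (f + g) = op f + op g := by
  show actL (f + g).ofConv = actL f.ofConv + actL g.ofConv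
  rw [WithConv.ofConv_add, actL_add]

theorem op_smul (c : k) (f : WithConv (A →ₗ[k] k)) : op (c • f) = c • op f := by
  show actL (c • f).ofConv = c • actL f.ofConv
  rw [WithConv.ofConv_smul, actL_smul]

theorem op_sub (f g : WithConv (A →ₗ[k] k)) : op (f - g) = op f - op g := by
  rw [eq_sub_iff_add_eq, ← op_add, sub_add_cancel]

theorem op_zero : op (0 : WithConv (A →ₗ[k] k)) = 0 := by
  have h := op_sub (0 : WithConv (A →ₗ[k] k)) 0
  rwa [sub_self, sub_self] at h

theorem op_one : op (1 : WithConv (A →ₗ[k] k)) = 1 := by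
  have h1 : (1 : WithConv (A →ₗ[k] k)).ofConv = CoalgebraStruct.counit (R := k) := LinearMap.ext fun a => by
    rw [LinearMap.convOne_apply, Algebra.algebraMap_self, RingHom.id_apply]
  refine LinearMap.ext fun a => ?_
  show actL (1 : WithConv (A →ₗ[k] k)).ofConv a = a
  rw [h1, actL_counit]

theorem op_pow (f : WithConv (A →ₗ[k] k)) (n : ℕ) : op (f ^ n) = op f ^ n := by
  induction n with
  | zero => rw [pow_zero, pow_zero, op_one]
  | succ n ih => rw [pow_succ, pow_succ, op_mul, ih]

theorem counit_op (f : WithConv (A →ₗ[k] k)) (a : A) : counit (R := k) (op f a) = f.ofConv a :=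
  LinearMap.congr_fun (counit_comp_actL (k := k) f.ofConv) a

theorem op_injective : Function.Injective (op : WithConv (A →ₗ[k] k) → Module.End k A) := fun f g h =>
  WithConv.ofConv_injective (LinearMap.ext fun a => by rw [← counit_op f, ← counit_op g, h])

/-- A point derivation as a derivation at the unit. -/
def lieOf (e : WithConv (A →ₗ[k] k)) (he : e ∈ derSpace k A) : LieHopf.Lie k A :=
  Derivation.mk'
    { toFun := fun a => e.ofConv a
      map_add' := fun a b => map_add e.ofConv a b
      map_smul' := fun c a => map_smul e.ofConv c a }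
    fun a b => by
      show e.ofConv (a * b) = _
      rw [mem_derSpace.1 he, LieHopf.smul_def, LieHopf.smul_def]
      show _ = Bialgebra.counitAlgHom k A a * e.ofConv b + Bialgebra.counitAlgHom k A b * e.ofConv a
      simp only [Bialgebra.counitAlgHom_apply]
      ring

/-- A point derivation as an element of the Lie algebra. -/
def xOf (e : WithConv (A →ₗ[k] k)) (he : e ∈ derSpace k A) : LieG k A := ofDer (lieOf e he)

theorem coe_xOf (e : WithConv (A →ₗ[k] k)) (he : e ∈ derSpace k A) : ((xOf e he).1 : Module.End k A) = op e := rfl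

/-- The commutator with a functional. -/
def cm (e f : WithConv (A →ₗ[k] k)) : WithConv (A →ₗ[k] k) := e * f - f * e

theorem cm_mem_derSpace {e f : WithConv (A →ₗ[k] k)} (he : e ∈ derSpace k A) (hf : f ∈ derSpace k A) :
    cm e f ∈ derSpace k A := by
  have h : preMul k A (cm e f) = iFst k A (cm e f) + iSnd k A (cm e f) := by
    simp only [cm, map_sub, map_mul, preMul_eq (mem_derSpace.1 he), preMul_eq (mem_derSpace.1 hf), add_mul, mul_add,
      (commute_iFst_iSnd e f).eq, (commute_iFst_iSnd f e).eq]
    abel
  intro a b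
  rw [← preMul_tmul, h, WithConv.ofConv_add, LinearMap.add_apply, iFst_tmul, iSnd_tmul]

/-- The generalised eigenspaces of the operator of a functional. -/
abbrev eig (e : WithConv (A →ₗ[k] k)) (μ : k) : Submodule k A := Module.End.maxGenEigenspace (op e) μ

theorem mem_eig_of_sub_mem {e : WithConv (A →ₗ[k] k)} {μ : k} {v : A} (h : (op e - μ • 1) v ∈ eig e μ) :
    v ∈ eig e μ := by
  rw [eig, Module.End.mem_maxGenEigenspace] at h ⊢
  obtain ⟨n, hn⟩ := h
  exact ⟨n + 1, by rw [pow_succ, Module.End.mul_apply, hn]⟩

/-- A functional killed by a power of the commutator with `e` preserves the eigenspaces. -/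
theorem op_mem_eig_of_cm_nil (e : WithConv (A →ₗ[k] k)) : ∀ (D : ℕ) (f : WithConv (A →ₗ[k] k)),
    (cm e)^[D] f = 0 → ∀ (μ : k) (a : A), a ∈ eig e μ → op f a ∈ eig e μ := by
  intro D
  induction D with
  | zero =>
    intro f hf μ a _
    rw [Function.iterate_zero_apply] at hf
    rw [hf, op_zero, LinearMap.zero_apply]
    exact zero_mem _
  | succ D ih =>
    intro f hf μ a ha
    rw [Function.iterate_succ_apply] at hf
    obtain ⟨n, hn⟩ := (Module.End.mem_maxGenEigenspace _ _ _).1 ha
    induction n generalizing a with
    | zero =>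
      rw [pow_zero, Module.End.one_apply] at hn
      rw [hn, map_zero]
      exact zero_mem _
    | succ n ihn =>
      refine mem_eig_of_sub_mem ?_
      have h1 : (op e - μ • 1) (op f a) = op f ((op e - μ • 1) a) + op (cm e f) a := by
        simp only [cm, op_sub, op_mul, LinearMap.sub_apply, LinearMap.smul_apply, Module.End.one_apply,
          Module.End.mul_apply, map_sub, map_smul]
        abel
      rw [h1]
      refine add_mem ?_ (ih _ hf μ a ha)
      rw [pow_succ, Module.End.mul_apply] at hn
      exact ihn _ ((Module.End.mem_maxGenEigenspace _ _ _).2 ⟨n, hn⟩) hn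

/-- An eigenvector of the commutator shifts the eigenspaces. -/
theorem op_mem_eig_shift {e f : WithConv (A →ₗ[k] k)} {lam : k} (h : cm e f = lam • f) {μ : k} {a : A}
    (ha : a ∈ eig e μ) : op f a ∈ eig e (μ + lam) := by
  obtain ⟨n, hn⟩ := (Module.End.mem_maxGenEigenspace _ _ _).1 ha
  rw [eig, Module.End.mem_maxGenEigenspace]
  refine ⟨n, ?_⟩
  have h1 : (op e - (μ + lam) • 1) * op f = op f * (op e - μ • 1) := by
    have h2 := congrArg op h
    rw [cm, op_sub, op_mul, op_mul, op_smul] at h2
    rw [sub_mul, mul_sub, smul_mul_assoc, one_mul, mul_smul_comm, mul_one, add_smul]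
    rw [sub_eq_iff_eq_add] at h2
    rw [h2]
    abel
  have h3 : ∀ m : ℕ, (op e - (μ + lam) • 1) ^ m * op f = op f * (op e - μ • 1) ^ m := by
    intro m
    induction m with
    | zero => rw [pow_zero, pow_zero, one_mul, mul_one]
    | succ m ih => rw [pow_succ, pow_succ, mul_assoc, h1, ← mul_assoc, ih, mul_assoc]
  rw [← Module.End.mul_apply, h3, Module.End.mul_apply, hn, map_zero]

open scoped Classical in
/-- A family of functionals projecting onto the eigenspaces. -/
structure IsProjFamily (e : WithConv (A →ₗ[k] k)) (c : k → WithConv (A →ₗ[k] k)) : Prop where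
  top : ⨆ μ, eig e μ = ⊤
  apply : ∀ μ ν : k, ∀ a ∈ eig e ν, op (c μ) a = if μ = ν then a else 0

variable {e : WithConv (A →ₗ[k] k)} {c : k → WithConv (A →ₗ[k] k)}

open scoped Classical in
theorem IsProjFamily.commute_of_mem (hc : IsProjFamily e c) {f : WithConv (A →ₗ[k] k)}
    (hf : ∀ (μ : k) (a : A), a ∈ eig e μ → op f a ∈ eig e μ) (μ : k) : Commute (c μ) f := by
  refine op_injective ?_
  rw [op_mul, op_mul]
  refine LinearMap.ext fun a => ?_
  induction (show a ∈ ⨆ μ, eig e μ by rw [hc.top]; trivial) using Submodule.iSup_induction' with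
  | mem ν a ha =>
    rw [Module.End.mul_apply, Module.End.mul_apply, hc.apply μ ν _ (hf ν a ha), hc.apply μ ν a ha]
    split_ifs
    · rfl
    · rw [map_zero]
  | zero => simp
  | add u v _ _ hu hv => rw [map_add, map_add, hu, hv]

open scoped Classical in
theorem IsProjFamily.eq_zero_of_shift (hc : IsProjFamily e c) {f : WithConv (A →ₗ[k] k)}
    (hcomm : ∀ μ, Commute (c μ) f) {lam : k} (hlam : lam ≠ 0) (h : cm e f = lam • f) : f = 0 := by
  refine op_injective ?_
  rw [op_zero]
  refine LinearMap.ext fun a => ?_
  induction (show a ∈ ⨆ μ, eig e μ by rw [hc.top]; trivial) using Submodule.iSup_induction' with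
  | mem ν a ha =>
    have h1 : op (c ν) (op f a) = op f (op (c ν) a) := by
      rw [← Module.End.mul_apply, ← op_mul, (hcomm ν).eq, op_mul, Module.End.mul_apply]
    rw [hc.apply ν (ν + lam) _ (op_mem_eig_shift h ha), hc.apply ν ν a ha, if_pos rfl,
      if_neg (by simpa using hlam)] at h1
    exact h1.symm
  | zero => simp
  | add u v _ _ hu hv => rw [map_add, hu, hv, LinearMap.zero_apply, LinearMap.zero_apply, LinearMap.zero_apply, add_zero]

/-- The commutator with a fixed derivation, on point derivations. -/
def adDer (e : WithConv (A →ₗ[k] k)) (he : e ∈ derSpace k A) : Module.End k (derSpace k A) where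
  toFun f := ⟨cm e f.1, cm_mem_derSpace he f.2⟩
  map_add' f g := Subtype.ext (by simp only [cm, Submodule.coe_add, mul_add, add_mul]; abel)
  map_smul' r f := Subtype.ext (by simp only [cm, Submodule.coe_smul, mul_smul_comm, smul_mul_assoc, RingHom.id_apply, smul_sub])

theorem adDer_pow (he : e ∈ derSpace k A) (n : ℕ) (f : derSpace k A) :
    (((adDer e he) ^ n) f).1 = (cm e)^[n] f.1 := by
  induction n generalizing f with
  | zero => rfl
  | succ n ih => rw [pow_succ, Module.End.mul_apply, ih, Function.iterate_succ_apply]; rfl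

/-- An operator whose only eigenvalue is zero is nilpotent. -/
theorem isNilpotent_of_eigenvalues [IsAlgClosed k] {V : Type u} [AddCommGroup V] [Module k V] [FiniteDimensional k V]
    (T : Module.End k V) (h : ∀ (lam : k) (v : V), T v = lam • v → lam ≠ 0 → v = 0) : IsNilpotent T := by
  have hbot : ∀ lam : k, lam ≠ 0 → T.maxGenEigenspace lam = ⊥ := by
    intro lam hlam
    by_contra hne
    obtain ⟨v, hv, hv0⟩ := (Submodule.ne_bot_iff _).1 hne
    obtain ⟨n, hn⟩ := (Module.End.mem_maxGenEigenspace _ _ _).1 hv
    induction n generalizing v with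
    | zero => exact hv0 (by simpa using hn)
    | succ n ih =>
      by_cases h1 : (T - lam • 1) v = 0
      · refine hv0 (h lam v ?_ hlam)
        rw [LinearMap.sub_apply, LinearMap.smul_apply, Module.End.one_apply, sub_eq_zero] at h1
        exact h1
      · refine ih _ ((Module.End.mem_maxGenEigenspace _ _ _).2 ⟨n, ?_⟩) h1 ?_ <;>
          rwa [← Module.End.mul_apply, ← pow_succ]
  have htop : T.maxGenEigenspace 0 = ⊤ := by
    refine eq_top_iff.2 ?_
    rw [← Module.End.iSup_maxGenEigenspace_eq_top T]
    refine iSup_le fun lam => ?_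
    by_cases h : lam = 0
    · rw [h]
    · rw [hbot lam h]; exact bot_le
  haveI : Module.Free k V := Module.Free.of_divisionRing k V
  let b := Module.finBasis k V
  have hex : ∀ i, ∃ n, (T ^ n) (b i) = 0 := fun i => by
    obtain ⟨n, hn⟩ := (Module.End.mem_maxGenEigenspace _ _ _).1 (htop ▸ Submodule.mem_top : b i ∈ _)
    rw [zero_smul, sub_zero] at hn
    exact ⟨n, hn⟩
  choose n hn using hex
  exact ⟨Finset.univ.sup n, b.ext fun i => by
    rw [LinearMap.zero_apply]
    exact Module.End.pow_map_zero_of_le (Finset.le_sup (Finset.mem_univ i)) (hn i)⟩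

/-- If the projections are central on derivations, the commutator is nilpotent on derivations. -/
theorem IsProjFamily.isNilpotent_adDer [IsAlgClosed k] [Algebra.FiniteType k A] (hc : IsProjFamily e c)
    (he : e ∈ derSpace k A) (hcomm : ∀ μ, ∀ f ∈ derSpace k A, Commute (c μ) f) : IsNilpotent (adDer e he) :=
  isNilpotent_of_eigenvalues (V := derSpace k A) _ fun lam v hv hlam =>
    Subtype.ext (hc.eq_zero_of_shift (fun μ => hcomm μ v.1 v.2) hlam (congrArg Subtype.val hv))

end Groth.Agent.LeadTorus
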