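import Groth.Agent.LeadTorus.Char0Central

/-!
# Tori whose weight derivations act nilpotently are central
-/

set_option autoImplicit false
set_option linter.style.haveILetI false
set_option linter.unusedSectionVars false
set_option backward.isDefEq.respectTransparency false
set_option maxHeartbeats 1000000
set_option synthInstance.maxHeartbeats 200000

universe u

open TensorProduct WithConv Coalgebra
open CategoryTheory MonoidalCategory CartesianMonoidalCategory MonObj GrpObj AlgebraicGeometry
open Groth.Agent.H20OT Groth.Agent.H20Comod Groth.Agent.H20Inf Groth.Agent.H20Red HopfRep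

noncomputable section

namespace Groth.Agent.LeadTorus

variable {K : Type u} [Field K] {M : Type u} [CommGroup M]

/-- The functional of a function on the characters. -/
def fnF (g : M → K) : WithConv (MonoidAlgebra K M →ₗ[K] K) :=
  toConv (Finsupp.linearCombination K g ∘ₗ (MonoidAlgebra.coeffLinearEquiv K).toLinearMap)

theorem fnF_single (g : M → K) (m : M) (c : K) : (fnF g).ofConv (MonoidAlgebra.single m c) = c * g m := by
  show Finsupp.linearCombination K g (MonoidAlgebra.single m c).coeff = _
  rw [MonoidAlgebra.coeff_single, Finsupp.linearCombination_single, smul_eq_mul]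

theorem fnF_ext {d d' : MonoidAlgebra K M →ₗ[K] K} (h : ∀ m, d (MonoidAlgebra.single m 1) = d' (MonoidAlgebra.single m 1)) :
    d = d' := by
  refine LinearMap.ext fun p => ?_
  induction p using MonoidAlgebra.induction with
  | zero => simp
  | single_add m r f _ _ ih =>
    have e : MonoidAlgebra.single m r = r • MonoidAlgebra.single m (1 : K) := by simp
    rw [map_add, map_add, ih, e, map_smul, map_smul, h]

theorem fnF_mul (g h : M → K) : fnF g * fnF h = fnF fun m => g m * h m := by
  refine WithConv.ofConv_injective (fnF_ext fun m => ?_)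
  rw [LinearMap.convMul_apply, MonoidAlgebra.comul_single, CommSemiring.comul_apply, TensorProduct.map_tmul,
    TensorProduct.map_tmul, LinearMap.mul'_apply, fnF_single]
  show (fnF g).ofConv (MonoidAlgebra.single m 1) * (fnF h).ofConv (MonoidAlgebra.single m 1) = _
  rw [fnF_single, fnF_single]
  ring

theorem fnF_smul (r : K) (g : M → K) : r • fnF g = fnF fun m => r * g m := by
  refine WithConv.ofConv_injective (fnF_ext fun m => ?_)
  rw [WithConv.ofConv_smul, LinearMap.smul_apply, fnF_single, fnF_single, smul_eq_mul]
  ring

theorem fnF_one : fnF (fun _ : M => (1 : K)) = 1 := by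
  refine WithConv.ofConv_injective (fnF_ext fun m => ?_)
  rw [fnF_single, LinearMap.convOne_apply, Algebra.algebraMap_self, RingHom.id_apply, MonoidAlgebra.counit_single,
    CommSemiring.counit_apply, _root_.mul_one]

variable {A : Type u} [CommRing A] [HopfAlgebra K A] (ψ : A →ₐc[K] MonoidAlgebra K M)

theorem pullFun_mul {C : Type u} [CommRing C] [HopfAlgebra K C] (φ : A →ₐc[K] C) (d d' : WithConv (C →ₗ[K] K)) :
    pullFun φ (d * d') = pullFun φ d * pullFun φ d' :=
  WithConv.ofConv_injective (LinearMap.convMul_comp_coalgHom_distrib d d' (φ : A →ₗc[K] C))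

/-- The derivation of an additive function on the characters. -/
def wDer (L : M → ℤ) : WithConv (A →ₗ[K] K) := pullFun ψ (fnF fun m => (L m : K))

open scoped Classical in
/-- The projections on the weights. -/
def wProj (L : M → ℤ) (w : K) : WithConv (A →ₗ[K] K) := pullFun ψ (fnF fun m => if (L m : K) = w then 1 else 0)

theorem wDer_mem (L : M → ℤ) (hL : ∀ a b, L (a * b) = L a + L b) : wDer ψ L ∈ derSpace K A := by
  intro a b
  show (fnF _).ofConv (ψ (a * b)) = (fnF _).ofConv (ψ a) * _ + _ * (fnF _).ofConv (ψ b)
  rw [map_mul, ← CoalgHomClass.counit_comp_apply ψ a, ← CoalgHomClass.counit_comp_apply ψ b]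
  generalize ψ a = p
  generalize ψ b = q
  induction p using MonoidAlgebra.induction with
  | zero => simp
  | single_add m r f _ _ ih =>
    rw [add_mul, map_add, map_add, map_add, ih]
    have key : (fnF fun m => (L m : K)).ofConv (MonoidAlgebra.single m r * q) =
        (fnF fun m => (L m : K)).ofConv (MonoidAlgebra.single m r) * counit (R := K) q +
          counit (R := K) (MonoidAlgebra.single m r) * (fnF fun m => (L m : K)).ofConv q := by
      clear ih
      induction q using MonoidAlgebra.induction with
      | zero => simp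
      | single_add n s g _ _ ih =>
        rw [mul_add, map_add, map_add, map_add, ih, MonoidAlgebra.single_mul_single, fnF_single, fnF_single, fnF_single,
          MonoidAlgebra.counit_single, MonoidAlgebra.counit_single, CommSemiring.counit_apply,
          CommSemiring.counit_apply, hL]
        push_cast
        ring
    rw [key]
    ring

theorem wDer_mul_wProj (L : M → ℤ) (w : K) : wDer ψ L * wProj ψ L w = w • wProj ψ L w := by
  classical
  rw [wDer, wProj, ← pullFun_mul, fnF_mul]
  refine WithConv.ofConv_injective (LinearMap.ext fun a => ?_)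
  rw [WithConv.ofConv_smul, LinearMap.smul_apply, pullFun_apply, pullFun_apply]
  show _ = (w • fnF _).ofConv (ψ a)
  rw [fnF_smul]
  congr 2
  refine congrArg fnF (funext fun m => ?_)
  split_ifs with h <;> simp [h]

theorem wProj_mul_wDer (L : M → ℤ) (w : K) : wProj ψ L w * wDer ψ L = w • wProj ψ L w := by
  classical
  rw [← wDer_mul_wProj, wDer, wProj, ← pullFun_mul, ← pullFun_mul, fnF_mul, fnF_mul]
  simp only [mul_comm]

theorem exists_finset_sum_wProj (L : M → ℤ) (a : A) :
    ∃ s : Finset K, ∑ ρ ∈ s, op (wProj ψ L ρ) a = a := by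
  classical
  have key : ∀ z : A ⊗[K] MonoidAlgebra K M, ∃ s : Finset K, ∀ t, s ⊆ t →
      ∑ ρ ∈ t, sliceR (fnF fun m => if (L m : K) = ρ then (1 : K) else 0).ofConv z =
        sliceR (fnF fun _ : M => (1 : K)).ofConv z := by
    intro z
    induction z using TensorProduct.induction_on with
    | zero => exact ⟨∅, fun t _ => by simp⟩
    | add x y hx hy =>
      obtain ⟨s, hs⟩ := hx
      obtain ⟨s', hs'⟩ := hy
      exact ⟨s ∪ s', fun t ht => by
        simp only [map_add, Finset.sum_add_distrib, hs t (Finset.union_subset_left ht),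
          hs' t (Finset.union_subset_right ht)]⟩
    | tmul b p =>
      induction p using MonoidAlgebra.induction with
      | zero => exact ⟨∅, fun t _ => by simp⟩
      | single_add m r f _ _ ih =>
        obtain ⟨s, hs⟩ := ih
        refine ⟨insert (L m : K) s, fun t ht => ?_⟩
        simp only [tmul_add, map_add, Finset.sum_add_distrib, hs t ((Finset.subset_insert _ _).trans ht)]
        congr 1
        simp only [sliceR_tmul, fnF_single]
        rw [← Finset.sum_smul, ← Finset.mul_sum, Finset.sum_ite_eq, if_pos (ht (Finset.mem_insert_self _ _))]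
  obtain ⟨s, hs⟩ := key (LinearMap.lTensor A (ψ : A →ₗc[K] MonoidAlgebra K M).toLinearMap (comul (R := K) a))
  refine ⟨s, ?_⟩
  have h := hs s subset_rfl
  have e : ∀ d : WithConv (MonoidAlgebra K M →ₗ[K] K), sliceR d.ofConv
      (LinearMap.lTensor A (ψ : A →ₗc[K] MonoidAlgebra K M).toLinearMap (comul (R := K) a)) = op (pullFun ψ d) a :=
    fun d => by rw [sliceR_lTensor]; rfl
  simp only [e] at h
  refine h.trans ?_
  have e1 : pullFun ψ (fnF fun _ : M => (1 : K)) = 1 := WithConv.ofConv_injective (LinearMap.ext fun b => by
    rw [fnF_one, pullFun_apply, LinearMap.convOne_apply, LinearMap.convOne_apply, CoalgHomClass.counit_comp_apply])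
  rw [e1, op_one, Module.End.one_apply]

theorem isProjFamily_wProj [CharZero K] (L : M → ℤ) : IsProjFamily (wDer ψ L) (wProj ψ L) := by
  classical
  have hmem : ∀ (ρ : K) (a : A), op (wProj ψ L ρ) a ∈ eig (wDer ψ L) ρ := fun ρ a => by
    refine (Module.End.mem_maxGenEigenspace _ _ _).2 ⟨1, ?_⟩
    rw [pow_one, LinearMap.sub_apply, LinearMap.smul_apply, Module.End.one_apply, ← Module.End.mul_apply, ← op_mul,
      wDer_mul_wProj, op_smul, LinearMap.smul_apply, sub_self]
  have hzero : ∀ w ν : K, w ≠ ν → ∀ a ∈ eig (wDer ψ L) ν, op (wProj ψ L w) a = 0 := by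
    intro w ν hwν a ha
    obtain ⟨n, hn⟩ := (Module.End.mem_maxGenEigenspace _ _ _).1 ha
    have h1 : ∀ m : ℕ, ∀ b, op (wProj ψ L w) (((op (wDer ψ L) - ν • 1) ^ m) b) = (w - ν) ^ m • op (wProj ψ L w) b := by
      intro m
      induction m with
      | zero => simp
      | succ m ih =>
        intro b
        rw [pow_succ, Module.End.mul_apply, ih, LinearMap.sub_apply, LinearMap.smul_apply, Module.End.one_apply,
          map_sub, map_smul, ← Module.End.mul_apply, ← op_mul, wProj_mul_wDer, op_smul, LinearMap.smul_apply,
          ← sub_smul, smul_smul, ← pow_succ]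
    have h2 := h1 n a
    rw [hn, map_zero] at h2
    exact (smul_eq_zero.1 h2.symm).resolve_left (pow_ne_zero _ (sub_ne_zero.2 hwν))
  refine ⟨eq_top_iff.2 fun a _ => ?_, fun w ν a ha => ?_⟩
  · obtain ⟨s, hs⟩ := exists_finset_sum_wProj ψ L a
    rw [← hs]
    exact Submodule.sum_mem _ fun ρ _ => Submodule.mem_iSup_of_mem ρ (hmem ρ a)
  · by_cases h : w = ν
    · subst h
      rw [if_pos rfl]
      obtain ⟨s, hs⟩ := exists_finset_sum_wProj ψ L a
      by_cases hw : w ∈ s
      · rw [Finset.sum_eq_single w (fun ρ _ hρ => hzero ρ w hρ a ha) (fun h => absurd hw h)] at hs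
        exact hs
      · rw [Finset.sum_eq_zero fun ρ hρ => hzero ρ w (fun h => hw (h ▸ hρ)) a ha] at hs
        rw [← hs, map_zero]
    · rw [if_neg h, hzero w ν h a ha]

/-- A split torus whose weight derivations have nilpotent commutators is central. -/
theorem central_of_nilpotent [CharZero K] [IsDomain A] [Algebra.FiniteType K A] {r : ℕ}
    (ψ : A →ₐc[K] MonoidAlgebra K (ULift.{u} (Multiplicative (Fin r → ℤ))))
    (N : ℕ) (h : ∀ e ∈ derSpace K A, ∀ f ∈ derSpace K A, (cm e)^[N] f = 0)
    (X : Over (Spec (CommRingCat.of K))) (x : X ⟶ H21Hom.specGrp K _) (g : X ⟶ H21Hom.specGrp K A) :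
    (x ≫ H19Chev.LargestMult.specHom ψ) * g = g * (x ≫ H19Chev.LargestMult.specHom ψ) := by
  classical
  let L : Fin r → ULift.{u} (Multiplicative (Fin r → ℤ)) → ℤ := fun i m => Multiplicative.toAdd m.down i
  have hL : ∀ i a b, L i (a * b) = L i a + L i b := fun i a b => rfl
  have hcomm : ∀ i w (f : WithConv (A →ₗ[K] K)), Commute (wProj ψ (L i) w) f := fun i w =>
    commute_of_commute_derSpace _ fun f hf => (isProjFamily_wProj ψ (L i)).commute_of_mem
      (op_mem_eig_of_cm_nil _ N f (h _ (wDer_mem ψ (L i) (hL i)) f hf)) w
  refine central_of_commute ψ (Set.range fun m => (fnF (fun a => if a = m then (1 : K) else 0)).ofConv) ?_ ?_ X x g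
  · intro p hp
    refine MonoidAlgebra.ext (Finsupp.ext fun m => ?_)
    have h1 := hp _ ⟨m, rfl⟩
    rw [MonoidAlgebra.coeff_zero, Finsupp.zero_apply, ← h1]
    clear hp h1
    induction p using MonoidAlgebra.induction with
    | zero => simp
    | single_add a c f _ _ ih =>
      rw [MonoidAlgebra.coeff_add, Finsupp.add_apply, map_add, ← ih, MonoidAlgebra.coeff_single, fnF_single,
        Finsupp.single_apply]
      congr 1
      simp
  · rintro _ ⟨m, rfl⟩ f
    have hprod : ∀ S : Finset (Fin r),
        Commute (pullFun ψ (fnF fun a => if ∀ i ∈ S, (L i a : K) = (L i m : K) then (1 : K) else 0)) f := by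
      intro S
      induction S using Finset.induction_on with
      | empty =>
        have e : pullFun ψ (fnF fun _ : ULift.{u} (Multiplicative (Fin r → ℤ)) => (1 : K)) = 1 :=
          WithConv.ofConv_injective (LinearMap.ext fun b => by
            rw [fnF_one, pullFun_apply, LinearMap.convOne_apply, LinearMap.convOne_apply,
              CoalgHomClass.counit_comp_apply])
        simp only [Finset.notMem_empty, false_implies, implies_true, if_true]
        rw [e]
        exact Commute.one_left f
      | insert i S _ ih =>
        have e : (fnF fun a => if ∀ j ∈ insert i S, (L j a : K) = (L j m : K) then (1 : K) else 0) =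
            (fnF fun a => if (L i a : K) = (L i m : K) then (1 : K) else 0) *
              fnF fun a => if ∀ j ∈ S, (L j a : K) = (L j m : K) then (1 : K) else 0 := by
          rw [fnF_mul]
          congr 1
          funext a
          simp only [Finset.forall_mem_insert]
          split_ifs <;> simp_all
        rw [e, pullFun_mul]
        exact (hcomm i (L i m : K) f).mul_left ih
    have e : (fun a => if a = m then (1 : K) else 0) =
        fun a => if ∀ i ∈ Finset.univ, (L i a : K) = (L i m : K) then (1 : K) else 0 := by
      funext a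
      refine if_congr ⟨fun h i _ => by rw [h], fun h => ULift.ext _ _ (Multiplicative.toAdd.injective (funext fun i =>
        Int.cast_injective (h i (Finset.mem_univ i))))⟩ rfl rfl
    rw [WithConv.toConv_ofConv, e]
    exact hprod _

end Groth.Agent.LeadTorus
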