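import Groth.Agent.LeadTorus.Infinite
import Groth.Agent.LeadTorus.Char0Torus

/-!
# Maximal tori over a field of characteristic zero
-/

set_option autoImplicit false
set_option linter.style.haveILetI false
set_option backward.isDefEq.respectTransparency false
set_option maxHeartbeats 2000000
set_option synthInstance.maxHeartbeats 400000

universe u

open CategoryTheory CategoryTheory.Limits MonoidalCategory CartesianMonoidalCategory MonObj AlgebraicGeometry
open TensorProduct WithConv
open Groth.Agent.H27Witt H20Mu H20Conj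

noncomputable section

namespace Groth.Agent.LeadTorus

section Transport

variable {S : Scheme.{u}} {D G G' : Over S} [GrpObj G] [GrpObj G']

theorem central_of_comp_iso (Φ : G ⟶ G') [IsIso Φ] [IsMonHom Φ] (u : D ⟶ G)
    (h : ∀ (X : Over S) (x : X ⟶ D) (g : X ⟶ G'), (x ≫ u ≫ Φ) * g = g * (x ≫ u ≫ Φ))
    (X : Over S) (x : X ⟶ D) (g : X ⟶ G) : (x ≫ u) * g = g * (x ≫ u) := by
  rw [← cancel_mono Φ, MonObj.mul_comp, MonObj.mul_comp, Category.assoc]
  exact h X x _

theorem central_comp_iso (Φ : G ⟶ G') [IsIso Φ] [IsMonHom Φ] (u : D ⟶ G)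
    (h : ∀ (X : Over S) (x : X ⟶ D) (g : X ⟶ G), (x ≫ u) * g = g * (x ≫ u))
    (X : Over S) (x : X ⟶ D) (g : X ⟶ G') : (x ≫ u ≫ Φ) * g = g * (x ≫ u ≫ Φ) := by
  rw [show g = (g ≫ inv Φ) ≫ Φ by rw [Category.assoc, IsIso.inv_hom_id, Category.comp_id], ← Category.assoc x,
    ← MonObj.mul_comp, ← MonObj.mul_comp, h]

end Transport

section Pow

variable {K : Type u} [Field K] {M : Type u} [CommGroup M]

theorem mapMulEquiv_eq_specHom {B C : Type u} [CommRing B] [HopfAlgebra K B] [CommRing C] [HopfAlgebra K C]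
    (ψ : B →ₐc[K] C) :
    Spec.mapMulEquiv (R := K) (S := B) (toConv (ψ : B →ₐ[K] C)) = H19Chev.LargestMult.specHom ψ := by
  refine Over.OverMorphism.ext ?_
  rw [H19Chev.LargestMult.specHom_left]
  rfl

/-- The power maps of a diagonalisable group. -/
theorem idPow_specGrp (n : ℕ) :
    (𝟙 (H21Hom.specGrp K (MonoidAlgebra K M)) : H21Hom.specGrp K (MonoidAlgebra K M) ⟶ _) ^ n =
      H19Chev.LargestMult.specHom (MonoidAlgebra.mapDomainBialgHom K (powMonoidHom n : M →* M)) := by
  let P := MonoidAlgebra K M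
  have hpow : ∀ (j : ℕ) (m : M), ((toConv (AlgHom.id K P)) ^ j).ofConv (MonoidAlgebra.single m 1) =
      MonoidAlgebra.single (m ^ j) 1 := by
    intro j m
    induction j with
    | zero =>
      rw [pow_zero, pow_zero, AlgHom.convOne_apply, MonoidAlgebra.counit_single, CommSemiring.counit_apply, map_one]
      rfl
    | succ j ih =>
      rw [pow_succ, pow_succ, AlgHom.convMul_apply, MonoidAlgebra.comul_single, CommSemiring.comul_apply,
        TensorProduct.map_tmul, Algebra.TensorProduct.lift_tmul]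
      simp only [MonoidAlgebra.lsingle_apply, ih, ofConv_toConv, AlgHom.id_apply, _root_.mul_one]
      rw [MonoidAlgebra.single_mul_single, _root_.mul_one]
  have he : (toConv (AlgHom.id K P)) ^ n =
      toConv (MonoidAlgebra.mapDomainBialgHom K (powMonoidHom n : M →* M) : P →ₐ[K] P) := by
    refine WithConv.ofConv_injective (MonoidAlgebra.algHom_ext (fun m => ?_) (Subsingleton.elim _ _))
    rw [hpow, ofConv_toConv]
    exact (MonoidAlgebra.mapDomain_single (f := fun a : M => a ^ n)).symm
  have hid : Spec.mapMulEquiv (R := K) (S := P) (toConv (AlgHom.id K P)) = 𝟙 (H21Hom.specGrp K P) := by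
    refine Over.OverMorphism.ext ?_
    show Spec.map (CommRingCat.ofHom (RingHom.id P)) = 𝟙 _
    exact Spec.map_id _
  have h := congrArg (Spec.mapMulEquiv (R := K) (S := P) (T := P)) he
  rwa [map_pow, hid, mapMulEquiv_eq_specHom] at h

theorem exists_pullFun_pow (n : ℕ) (hn : Function.Injective fun a : M => a ^ n)
    (d : WithConv (MonoidAlgebra K M →ₗ[K] K)) :
    ∃ d', pullFun (MonoidAlgebra.mapDomainBialgHom K (powMonoidHom n : M →* M)) d' = d := by
  let L : MonoidAlgebra K M →ₗ[K] MonoidAlgebra K M :=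
    (MonoidAlgebra.mapDomainBialgHom K (powMonoidHom n : M →* M) : MonoidAlgebra K M →ₐ[K] _).toLinearMap
  have hL : LinearMap.ker L = ⊥ := LinearMap.ker_eq_bot.2 (MonoidAlgebra.mapDomain_injective hn)
  obtain ⟨g, hg⟩ := L.exists_leftInverse_of_injective hL
  exact ⟨toConv (d.ofConv ∘ₗ g), WithConv.ofConv_injective (LinearMap.ext fun p =>
    congrArg d.ofConv (LinearMap.congr_fun hg p))⟩

end Pow

variable {k : Type u} [Field k] [CharZero k]

/-- If the maximal tori of the reductive centres of the groups generated by derivations are central, the weights of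
the commutators with rational derivations vanish. -/
theorem isNilpotent_of_central (G : Over (Spec (CommRingCat.of k))) [GrpObj G] {A : Type u} [CommRing A]
    [HopfAlgebra k A] [Algebra.FiniteType k A] (eG : G ≅ H21Hom.specGrp k A) [IsMonHom eG.hom] [IsMonHom eG.inv]
    {x : WithConv (A →ₗ[k] k)} (hx : x ∈ derSpace k A) {C : Type u} [CommRing C] [HopfAlgebra k C]
    [Coalgebra.IsCocomm k C] (φ : A →ₐc[k] C) (hφ : Function.Surjective φ)
    (hker : ∀ a, φ a = 0 → ∀ n : ℕ, (x ^ n).ofConv a = 0)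
    {M : Over (Spec (CommRingCat.of k))} [GrpObj M] (m : M ⟶ H21Hom.specGrp k C) [IsMonHom m]
    (huniv : ∀ (S' : Scheme.{u}) (f : S' ⟶ Spec (CommRingCat.of k)) (H : Over S') [GrpObj H]
      (v : H ⟶ Red.bc f (H21Hom.specGrp k C)) [IsMonHom v], SGA3x.IsMultTypeFT H →
      (∀ (X : Over S') (x : X ⟶ H) (g : X ⟶ Red.bc f (H21Hom.specGrp k C)), (x ≫ v) * g = g * (x ≫ v)) →
      ∃ w : H ⟶ Red.bc f M, w ≫ (Over.pullback f).map m = v)
    {T : Over (Spec (CommRingCat.of k))} [GrpObj T] (t : T ⟶ M) [IsMonHom t] (f' : M ⟶ T) (n : ℕ) (hn : 0 < n)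
    (hf' : f' ≫ t = (𝟙 M : M ⟶ M) ^ n)
    (hcen : ∀ (X : Over (Spec (CommRingCat.of k))) (y : X ⟶ T) (g : X ⟶ G),
      (y ≫ t ≫ m ≫ H19Chev.LargestMult.specHom φ ≫ eG.inv) * g =
        g * (y ≫ t ≫ m ≫ H19Chev.LargestMult.specHom φ ≫ eG.inv))
    (K : Type u) [Field K] [IsAlgClosed K] [CharZero K] [Algebra k K] :
    IsNilpotent (adDer (extAlg K x) (extAlg_mem_derSpace K hx)) := by
  classical
  haveI : Algebra.FiniteType K (K ⊗[k] A) := inferInstance
  obtain ⟨Mg, _, hMg, φ₀, c, hc, hrange, hkill, hinj⟩ := exists_proj (extAlg K x) (extAlg_mem_derSpace K hx)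
  obtain ⟨χ, hχ⟩ := exists_factor_single K φ hφ hker φ₀ hkill
  refine hc.isNilpotent_adDer _ fun w f _ => ?_
  obtain ⟨d, hd⟩ := hrange w
  obtain ⟨d', hd'⟩ := exists_pullFun_pow n (hinj n hn) d
  let pw := MonoidAlgebra.mapDomainBialgHom K (powMonoidHom n : Mg →* Mg)
  have hcomp : c w = pullFun (pw.comp φ₀) d' := by
    rw [← hd, ← hd']
    rfl
  rw [hcomp]
  refine commute_of_central (pw.comp φ₀) ?_ d' f
  let z := zMap k K
  let F := Over.pullback z
  let D := H21Hom.specGrp K (MonoidAlgebra K Mg)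
  haveI := H21Diag.isMonHom_map z eG.inv
  haveI := H21Diag.isMonHom_map z (H19Chev.LargestMult.specHom φ)
  haveI := H21Diag.isMonHom_map z m
  haveI := H21Diag.isMonHom_map z t
  haveI := H21Diag.isMonHom_map z eG.hom
  let d₀ : D ⟶ Red.bc z (H21Hom.specGrp k C) := H19Chev.LargestMult.specHom χ ≫ inv (bcSpec K C)
  haveI : IsMonHom (inv (bcSpec (k := k) K C)) := H20Borel.isMonHom_of_comp_mono _ (bcSpec K C) (by
    rw [IsIso.inv_hom_id]; infer_instance)
  haveI : IsMonHom d₀ := inferInstance
  have hD : SGA3x.IsMultTypeFT D :=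
    H21Hom.isMultTypeFT_specGrp inferInstance (H19Mult.KernelLocal.isMultType_monoidAlgebra K Mg)
  obtain ⟨w₀, hw₀⟩ := huniv _ z D d₀ hD fun X y g => by
    apply (H21Diag.bcEquiv z (H21Hom.specGrp k C) X).symm.injective
    rw [H21Diag.bcEquiv_symm_mul, H21Diag.bcEquiv_symm_mul]
    exact _root_.mul_comm _ _
  let v := m ≫ H19Chev.LargestMult.specHom φ ≫ eG.inv
  let Φ : Red.bc z G ⟶ H21Hom.specGrp K (K ⊗[k] A) := F.map eG.hom ≫ bcSpec K A
  haveI : IsMonHom Φ := inferInstance
  haveI := H21Diag.isMonHom_map z v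
  let u : D ⟶ Red.bc z G := w₀ ≫ F.map v
  have hu : u ≫ Φ = H19Chev.LargestMult.specHom φ₀ := by
    show (w₀ ≫ F.map (m ≫ H19Chev.LargestMult.specHom φ ≫ eG.inv)) ≫ F.map eG.hom ≫ bcSpec K A = _
    rw [Functor.map_comp, Functor.map_comp]
    simp only [Category.assoc]
    rw [← Category.assoc w₀, hw₀, ← Category.assoc (F.map eG.inv), ← Functor.map_comp, Iso.inv_hom_id,
      CategoryTheory.Functor.map_id, Category.id_comp, ← bcSpec_natural]
    simp only [d₀, Category.assoc, IsIso.inv_hom_id_assoc]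
    refine Over.OverMorphism.ext ?_
    rw [Over.comp_left, H19Chev.LargestMult.specHom_left, H19Chev.LargestMult.specHom_left,
      H19Chev.LargestMult.specHom_left, ← Spec.map_comp]
    congr 1
    exact CommRingCat.hom_ext (RingHom.ext fun a => hχ a)
  have hupow : H19Chev.LargestMult.specHom (pw.comp φ₀) =
      ((w₀ ≫ F.map f') ≫ F.map (t ≫ v)) ≫ Φ := by
    have h1 : H19Chev.LargestMult.specHom (pw.comp φ₀) = (H19Chev.LargestMult.specHom φ₀ : D ⟶ _) ^ n := by
      have h := idPow_specGrp (K := K) (M := Mg) n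
      rw [show (H19Chev.LargestMult.specHom φ₀ : D ⟶ _) ^ n = ((𝟙 D : D ⟶ D) ^ n) ≫ H19Chev.LargestMult.specHom φ₀ by
        rw [MonObj.pow_comp, Category.id_comp], h]
      refine Over.OverMorphism.ext ?_
      rw [Over.comp_left, H19Chev.LargestMult.specHom_left, H19Chev.LargestMult.specHom_left,
        H19Chev.LargestMult.specHom_left, ← Spec.map_comp]
      rfl
    rw [h1, ← hu, ← MonObj.pow_comp]
    congr 1
    rw [Category.assoc, ← Functor.map_comp, ← Category.assoc f' t v, hf', Functor.map_comp, map_idPow,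
      ← Category.assoc, comp_idPow, MonObj.pow_comp]
  intro X y g
  rw [hupow]
  exact central_comp_iso Φ ((w₀ ≫ F.map f') ≫ F.map (t ≫ v)) (fun X' y' g' => by
    rw [← Category.assoc, ← Category.assoc]
    exact bc_central z (t ≫ v) hcen X' ((y' ≫ w₀) ≫ F.map f') g') X y g

/-- **A smooth connected affine group over a field of characteristic zero has a maximal torus.** -/
theorem exists_maximalTorus_charZero (k : Type u) [Field k] [CharZero k]
    (G : Over (Spec (CommRingCat.of k))) [GrpObj G] [IsAffine G.left] [Smooth G.hom] [ConnectedSpace G.left] :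
    HasMax G := by
  obtain ⟨d, hd⟩ := exists_nat_dim_le G
  induction d using Nat.strong_induction_on generalizing G with
  | _ d IH =>
    have IHd : ∀ (Y : Over (Spec (CommRingCat.of k))) [GrpObj Y] [IsAffine Y.left] [Smooth Y.hom]
        [ConnectedSpace Y.left], topologicalKrullDim ↥Y.left + 1 ≤ topologicalKrullDim ↥G.left → HasMax Y := by
      intro Y _ _ _ _ hY
      replace hY := hY.trans hd
      have h0 : (0 : WithBot ℕ∞) ≤ topologicalKrullDim ↥Y.left := by
        haveI : Nonempty (TopologicalSpace.IrreducibleCloseds ↥Y.left) :=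
          ⟨⟨closure {Classical.arbitrary _}, isIrreducible_singleton.closure, isClosed_closure⟩⟩
        exact Order.krullDim_nonneg
      obtain ⟨m, hm⟩ : ∃ m : ℕ∞, topologicalKrullDim ↥Y.left = (m : WithBot ℕ∞) :=
        ⟨_, (WithBot.coe_unbot _ (fun hbot => by rw [hbot] at h0; simp at h0)).symm⟩
      rw [hm] at hY
      have hmd : m + 1 ≤ (d : ℕ∞) := by exact_mod_cast hY
      obtain ⟨j, rfl⟩ := ENat.ne_top_iff_exists.1 (show m ≠ ⊤ by rintro rfl; simp at hmd)
      have hjd : j + 1 ≤ d := by exact_mod_cast hmd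
      exact IH j (by omega) Y hm.le
    obtain ⟨A, _, _, ⟨e⟩⟩ := H21Hom.exists_hopf_model G
    let eG : G ≅ H21Hom.specGrp k A := (Grp.forget _).mapIso e
    haveI : IsMonHom eG.hom := e.hom.hom.isMonHom_hom
    haveI : IsMonHom eG.inv := e.inv.hom.isMonHom_hom
    haveI : IsIso eG.inv.left := inferInstanceAs (IsIso ((Over.forget _).map eG.inv))
    haveI : LocallyOfFiniteType (H21Hom.specGrp k A).hom := by rw [← Over.w eG.inv]; infer_instance
    haveI : Algebra.FiniteType k A := by
      have h : LocallyOfFiniteType (Spec.map (CommRingCat.ofHom (algebraMap k A))) :=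
        (inferInstance : LocallyOfFiniteType (H21Hom.specGrp k A).hom)
      rw [HasRingHomProperty.Spec_iff (P := @LocallyOfFiniteType)] at h
      exact RingHom.finiteType_algebraMap.mp h
    haveI : IsAffineHom G.hom := inferInstance
    let K := AlgebraicClosure k
    let z := zMap k K
    let F := Over.pullback z
    haveI : CharZero K := charZero_of_injective_algebraMap (algebraMap k K).injective
    -- either a torus reduces the dimension, or all commutators are nilpotent
    by_cases hall : ∀ x (hx : x ∈ derSpace k A), IsNilpotent (adDer (extAlg K x) (extAlg_mem_derSpace K hx))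
    swap
    · push Not at hall
      obtain ⟨x, hx, hnn⟩ := hall
      obtain ⟨C, _, _, φ, hφ, hco, hker⟩ := exists_quotient_single hx
      haveI := hco
      haveI := H19Chev.LargestMult.isClosedImmersion_specHom φ hφ
      haveI : IsAffine (H21Hom.specGrp k C).left := inferInstanceAs (IsAffine (Spec _))
      haveI : LocallyOfFiniteType (H21Hom.specGrp k C).hom := by
        rw [← Over.w (H19Chev.LargestMult.specHom φ)]; infer_instance
      obtain ⟨M, gM, m, hm, hmm, hmc, hM, -, huniv⟩ := H21RCentre.exists_reductiveCentre (H21Hom.specGrp k C)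
      letI := gM; haveI := hm; haveI := hmm; haveI := hmc
      obtain ⟨T, gT, t, n, f, f', ht, htc, hT, hn, hnpos, hf, hf'⟩ := H21Diag.exists_maxTorus hM
      letI := gT; haveI := ht; haveI := htc
      haveI := connectedSpace_of_torus hT
      let s₀ : Spec (CommRingCat.of k) := IsLocalRing.closedPoint k
      have hfp : f = (𝟙 M : M ⟶ M) ^ n s₀ := by
        have h := hf (n s₀) (𝟙 M) fun _ => congrArg n (Subsingleton.elim (α := PrimeSpectrum k) _ _)
        rwa [Category.id_comp] at h
      by_cases hcen : ∀ (X : Over (Spec (CommRingCat.of k))) (y : X ⟶ T) (g : X ⟶ G),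
          (y ≫ t ≫ m ≫ H19Chev.LargestMult.specHom φ ≫ eG.inv) * g =
            g * (y ≫ t ≫ m ≫ H19Chev.LargestMult.specHom φ ≫ eG.inv)
      · exact absurd (isNilpotent_of_central G eG hx φ hφ hker m huniv t f' (n s₀) (hnpos _) (hf'.trans hfp) hcen K) hnn
      · exact exists_of_noncentral k (centralInMaxTorus K) G (fun Z _ _ _ _ hZ => IHd Z hZ) T
          (H21Diag.isMultTypeFT_of_isTorus hT) (t ≫ m ≫ H19Chev.LargestMult.specHom φ ≫ eG.inv) hcen
    haveI : IsAffine (Red.bc z G).left := H20Borel.isAffine_bc z G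
    haveI : Smooth (Red.bc z G).hom := H20Borel.smooth_bc z G
    let Φ : Red.bc z G ⟶ H21Hom.specGrp K (K ⊗[k] A) := F.map eG.hom ≫ bcSpec K A
    haveI := H21Diag.isMonHom_map z eG.hom
    haveI : IsMonHom Φ := inferInstance
    haveI : IsDomain (K ⊗[k] A) := by
      haveI : GeometricallyIntegral G.hom := H19Chev.geometricallyIntegral_grp G
      haveI : IsIntegral (Red.bc z G).left :=
        GeometricallyIntegral.geometrically_isIntegral (f := G.hom) z _ _ (IsPullback.of_hasPullback _ _)
      haveI : IsIso Φ.left := inferInstanceAs (IsIso ((Over.forget _).map Φ))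
      haveI : Nonempty (Spec (CommRingCat.of (K ⊗[k] A))) := ⟨Φ.left (Classical.arbitrary _)⟩
      haveI : IsIntegral (Spec (CommRingCat.of (K ⊗[k] A))) :=
        isIntegral_of_isOpenImmersion (inv Φ.left)
      exact (Scheme.ΓSpecIso (CommRingCat.of (K ⊗[k] A))).symm.commRingCatIsoToRingEquiv.toMulEquiv.isDomain
    obtain ⟨T, gT, iT, hT⟩ := exists_isMaxTorus_algClosed (Red.bc z G)
    letI := gT
    haveI := hT.1; haveI := hT.2.1
    refine exists_of_central G iT (isMaximalTorus_of_isMaxTorus hT) (central_of_comp_iso Φ iT ?_)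
    obtain ⟨B, _, _, r, e₁, he₁, ⟨E⟩⟩ := H20Conj.exists_split T hT.2.2.1
    haveI := he₁
    let ε : H21Hom.specGrp K (MonoidAlgebra K (Lat.{u} r)) ⟶ T :=
      H19Chev.LargestMult.specHom (E : B →ₐc[K] MonoidAlgebra K (Lat.{u} r)) ≫ e₁.hom
    let δ : T ⟶ H21Hom.specGrp K (MonoidAlgebra K (Lat.{u} r)) :=
      e₁.inv ≫ H19Chev.LargestMult.specHom (E.symm : MonoidAlgebra K (Lat.{u} r) →ₐc[K] B)
    have hδε : δ ≫ ε = 𝟙 T := by
      have h1 : H19Chev.LargestMult.specHom (E.symm : MonoidAlgebra K (Lat.{u} r) →ₐc[K] B) ≫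
          H19Chev.LargestMult.specHom (E : B →ₐc[K] MonoidAlgebra K (Lat.{u} r)) = 𝟙 _ := by
        refine Over.OverMorphism.ext ?_
        rw [Over.comp_left, H19Chev.LargestMult.specHom_left, H19Chev.LargestMult.specHom_left, ← Spec.map_comp]
        refine (congrArg Spec.map (CommRingCat.hom_ext (RingHom.ext fun b => ?_))).trans (Spec.map_id _)
        exact E.symm_apply_apply b
      simp only [δ, ε, Category.assoc]
      rw [← Category.assoc (H19Chev.LargestMult.specHom _), h1]
      exact (congrArg (e₁.inv ≫ ·) (Category.id_comp _)).trans e₁.inv_hom_id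
    haveI : IsMonHom ε := inferInstance
    obtain ⟨ψ, hψ⟩ := H21Hom.exists_bialgHom_of_hom (ε ≫ iT ≫ Φ)
    have hu : ε ≫ iT ≫ Φ = H19Chev.LargestMult.specHom ψ :=
      Over.OverMorphism.ext (hψ.trans (H19Chev.LargestMult.specHom_left ψ).symm)
    intro X y g
    have h := central_of_nilpotent ψ (Module.finrank k (derSpace k A))
      (fun a ha b hb => cm_iterate_eq_zero K hall ha hb) X (y ≫ δ) g
    rw [← hu] at h
    simp only [← Category.assoc] at h
    rw [Category.assoc y δ ε, hδε, Category.comp_id] at h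
    simp only [Category.assoc] at h
    exact h

end Groth.Agent.LeadTorus
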