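import Groth.Agent.LeadTorus.Char0Grad
import Groth.Agent.LeadTorus.Central

/-!
# The diagonalisable group of the eigenvalues of a point derivation
-/

set_option autoImplicit false
set_option linter.style.haveILetI false
set_option linter.unusedSectionVars false
set_option backward.isDefEq.respectTransparency false
set_option maxHeartbeats 1000000
set_option synthInstance.maxHeartbeats 200000

universe u

open TensorProduct WithConv Coalgebra HopfRep
open Groth.Agent.H20OT Groth.Agent.H20Comod Groth.Agent.H20Inf Groth.Agent.H20Red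

noncomputable section

namespace Groth.Agent.LeadTorus

variable {k : Type u} [Field k] [IsAlgClosed k] {A : Type u} [CommRing A] [HopfAlgebra k A] [Algebra.FiniteType k A]

/-- An element all whose translates by powers of `e` vanish at the unit has components vanishing at the unit. -/
theorem mem_iSup_of_pow_eq_zero (e : WithConv (A →ₗ[k] k)) {a : A} (ha : ∀ n : ℕ, (e ^ n).ofConv a = 0) :
    a ∈ ⨆ μ, eig e μ ⊓ LinearMap.ker (counit (R := k) (A := A)) := by
  let G := gen k A ({a} : Set A)
  let Z : Submodule k A :=
    { carrier := {b | ∀ n : ℕ, (e ^ n).ofConv b = 0}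
      zero_mem' := fun n => map_zero _
      add_mem' := fun ha hb n => by rw [map_add, ha n, hb n, add_zero]
      smul_mem' := fun c b hb n => by rw [map_smul, hb n, smul_zero] }
  let W := G ⊓ Z
  haveI : Module.Finite k G := finite_gen (Set.finite_singleton a)
  haveI : FiniteDimensional k W := Submodule.finiteDimensional_of_le inf_le_left
  have hW : Set.MapsTo (op e) W W := fun b hb => by
    refine ⟨actL_mem_of_isSubcomod (isSubcomod_gen _) e.ofConv hb.1, fun n => ?_⟩
    rw [← counit_op, ← Module.End.mul_apply, op_pow, ← pow_succ, ← op_pow, counit_op]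
    exact hb.2 (n + 1)
  have h := Module.End.iSup_maxGenEigenspace_eq_top (LinearMap.restrict (op e) hW)
  have hle : Submodule.map W.subtype (⊤ : Submodule k W) ≤
      ⨆ μ, eig e μ ⊓ LinearMap.ker (counit (R := k) (A := A)) := by
    rw [← h, Submodule.map_iSup]
    refine iSup_mono fun μ => ?_
    rw [Module.End.maxGenEigenspace, Module.End.genEigenspace_restrict, Submodule.map_comap_eq]
    refine le_inf inf_le_right (inf_le_left.trans ?_)
    rw [Submodule.range_subtype]
    intro b hb
    have h0 := hb.2 0
    rw [pow_zero, LinearMap.convOne_apply, Algebra.algebraMap_self, RingHom.id_apply] at h0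
    exact h0
  exact hle ⟨⟨a, subset_gen _ rfl, ha⟩, Submodule.mem_top, rfl⟩

/-- A point derivation gives a homomorphism from a diagonalisable group whose functionals project onto the
eigenspaces. -/
theorem exists_proj [CharZero k] (e : WithConv (A →ₗ[k] k)) (he : e ∈ derSpace k A) :
    ∃ (M : Type u) (_ : CommGroup M) (_ : Group.FG M) (φ : A →ₐc[k] MonoidAlgebra k M)
      (c : k → WithConv (A →ₗ[k] k)), IsProjFamily e c ∧ (∀ μ, c μ ∈ Set.range (pullFun φ)) ∧
      (∀ a, (∀ n : ℕ, (e ^ n).ofConv a = 0) → φ a = 0) ∧
      ∀ n : ℕ, 0 < n → Function.Injective fun a : M => a ^ n := by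
  classical
  let x := xOf e he
  obtain ⟨t, -, htop⟩ := exists_finite_gsp x
  let Λ := AddSubgroup.closure (t : Set k)
  haveI : AddGroup.FG Λ := (AddGroup.fg_iff_addSubgroup_fg _).2 ⟨t, rfl⟩
  let M : Type u := Multiplicative Λ
  haveI : Group.FG M := inferInstanceAs (Group.FG (Multiplicative Λ))
  let P := MonoidAlgebra k M
  let ex : Λ → P := fun μ => MonoidAlgebra.single (Multiplicative.ofAdd μ) 1
  have hint : DirectSum.IsInternal (fun μ : Λ => gsp x (μ : k)) :=
    DirectSum.isInternal_submodule_of_iSupIndep_of_iSup_eq_top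
      ((Module.End.independent_maxGenEigenspace (x.1 : Module.End k A)).comp Subtype.val_injective) htop
  let dec := LinearEquiv.ofBijective (DirectSum.coeLinearMap fun μ : Λ => gsp x (μ : k)) hint
  let f : A →ₗ[k] P := (DirectSum.toModule k Λ P fun μ =>
    (LinearMap.toSpanSingleton k P (ex μ)) ∘ₗ CoalgebraStruct.counit (R := k) ∘ₗ (gsp x (μ : k)).subtype) ∘ₗ
      dec.symm.toLinearMap
  have hf : ∀ (μ : Λ) (a : A), a ∈ gsp x (μ : k) → f a = CoalgebraStruct.counit (R := k) a • ex μ := by
    intro μ a ha
    have h : dec.symm a = DirectSum.lof k Λ _ μ ⟨a, ha⟩ := by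
      refine dec.injective ?_
      rw [LinearEquiv.apply_symm_apply]
      exact (DirectSum.coeLinearMap_of _ μ ⟨a, ha⟩).symm
    show (DirectSum.toModule k Λ P _) (dec.symm a) = _
    rw [h, DirectSum.toModule_lof]
    rfl
  have hmem : ∀ a : A, a ∈ ⨆ μ : Λ, gsp x (μ : k) := fun a => by rw [htop]; trivial
  have hex : ∀ μ ν, ex (μ + ν) = ex μ * ex ν := fun μ ν => by
    simp only [ex, ofAdd_add]
    rw [MonoidAlgebra.single_mul_single, mul_one]
  let F : A →ₐ[k] P := AlgHom.ofLinearMap f
    (by rw [hf 0 1 (one_mem_gsp x), Bialgebra.counit_one, one_smul]; rfl)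
    (fun a b => by
      induction hmem a using Submodule.iSup_induction' with
      | mem μ a ha =>
        induction hmem b using Submodule.iSup_induction' with
        | mem ν b hb =>
          rw [hf (μ + ν) _ (mul_mem_gsp x ha hb), hf μ a ha, hf ν b hb, Bialgebra.counit_mul, hex,
            smul_mul_smul_comm]
        | zero => simp
        | add u v _ _ hu hv => rw [mul_add, map_add, map_add, hu, hv, mul_add]
      | zero => simp
      | add u v _ _ hu hv => rw [add_mul, map_add, map_add, hu, hv, add_mul])
  have hright : ∀ (μ : Λ) (a : A), a ∈ gsp x (μ : k) →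
      LinearMap.lTensor A f (CoalgebraStruct.comul (R := k) a) = a ⊗ₜ[k] ex μ := by
    intro μ a ha
    refine eq_of_forall_sliceL fun g => ?_
    rw [sliceL_lTensor, sliceL_tmul]
    show f (lslice g a) = _
    rw [hf μ _ (lslice_mem_gsp x g ha), counit_lslice]
  let φ : A →ₐc[k] P := BialgHom.ofAlgHom F
    (AlgHom.toLinearMap_injective (LinearMap.ext fun a => by
      induction hmem a using Submodule.iSup_induction' with
      | mem μ a ha =>
        show CoalgebraStruct.counit (R := k) (f a) = CoalgebraStruct.counit (R := k) a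
        rw [hf μ a ha, map_smul, MonoidAlgebra.counit_single, CommSemiring.counit_apply, smul_eq_mul, mul_one]
      | zero => simp
      | add u v _ _ hu hv => simp only [map_add, hu, hv]))
    (AlgHom.toLinearMap_injective (LinearMap.ext fun a => by
      induction hmem a using Submodule.iSup_induction' with
      | mem μ a ha =>
        show TensorProduct.map f f (CoalgebraStruct.comul (R := k) a) = CoalgebraStruct.comul (R := k) (f a)
        rw [show TensorProduct.map f f (CoalgebraStruct.comul (R := k) a) =
          LinearMap.rTensor P f (LinearMap.lTensor A f (CoalgebraStruct.comul (R := k) a)) from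
          (LinearMap.congr_fun (LinearMap.rTensor_comp_lTensor (f := f) (g := f)) _).symm, hright μ a ha,
          LinearMap.rTensor_tmul, hf μ a ha, map_smul, MonoidAlgebra.comul_single, CommSemiring.comul_apply,
          TensorProduct.map_tmul, ← TensorProduct.smul_tmul']
        rfl
      | zero => simp
      | add u v _ _ hu hv => simp only [map_add, hu, hv]))
  -- the projection functionals
  let d : k → WithConv (P →ₗ[k] k) := fun μ =>
    if h : μ ∈ Λ then toConv (Finsupp.lapply (Multiplicative.ofAdd (⟨μ, h⟩ : Λ)) ∘ₗ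
      (MonoidAlgebra.coeffLinearEquiv k).toLinearMap) else 0
  have hd : ∀ (μ : k) (ν : Λ), (d μ).ofConv (ex ν) = if μ = (ν : k) then 1 else 0 := by
    intro μ ν
    by_cases h : μ ∈ Λ
    · simp only [d, dif_pos h]
      show (MonoidAlgebra.single (Multiplicative.ofAdd ν) (1 : k)).coeff (Multiplicative.ofAdd (⟨μ, h⟩ : Λ)) = _
      rw [MonoidAlgebra.coeff_single, Finsupp.single_apply]
      by_cases hμν : μ = (ν : k)
      · subst hμν; simp
      · rw [if_neg hμν, if_neg fun hh => hμν (congrArg Subtype.val (Multiplicative.ofAdd.injective hh)).symm]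
    · rw [if_neg fun (hh : μ = (ν : k)) => h (hh ▸ ν.2)]
      simp only [d, dif_neg h, WithConv.ofConv_zero, LinearMap.zero_apply]
  refine ⟨M, inferInstance, inferInstance, φ, fun μ => pullFun φ (d μ), ⟨iSup_gsp_eq_top x, ?_⟩,
    fun μ => ⟨_, rfl⟩, ?_, fun n hn a b hab => ?_⟩
  · intro μ ν a ha
    show actL ((d μ).ofConv ∘ₗ (φ : A →ₗc[k] P).toLinearMap) a = _
    by_cases hν : ν ∈ Λ
    · have e1 : actL ((d μ).ofConv ∘ₗ f) a = sliceR (d μ).ofConv (LinearMap.lTensor A f (comul (R := k) a)) := by
        rw [sliceR_lTensor]; rfl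
      refine e1.trans ?_
      rw [hright ⟨ν, hν⟩ a ha, sliceR_tmul, hd]
      split_ifs <;> simp
    · have h0 : a = 0 := by
        have hdis := Module.End.independent_maxGenEigenspace (x.1 : Module.End k A) ν
        have hm : a ∈ ⨆ (j : k) (_ : j ≠ ν), gsp x j := by
          refine (iSup_le fun (ρ : Λ) => ?_ : (⨆ ρ : Λ, gsp x (ρ : k)) ≤ _) (hmem a)
          exact le_iSup₂_of_le (ρ : k) (fun h => hν (h ▸ ρ.2)) le_rfl
        exact Submodule.disjoint_def.1 hdis a ha hm
      rw [h0, map_zero]
      split_ifs <;> rfl
  · intro b hpow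
    show f b = 0
    have hb := mem_iSup_of_pow_eq_zero e hpow
    clear hpow
    induction hb using Submodule.iSup_induction' with
    | mem μ a ha =>
      by_cases hμ : μ ∈ Λ
      · rw [hf ⟨μ, hμ⟩ a ha.1, show counit (R := k) a = 0 from ha.2, zero_smul]
      · have h0 : a = 0 := by
          have hdis := Module.End.independent_maxGenEigenspace (x.1 : Module.End k A) μ
          have hm : a ∈ ⨆ (j : k) (_ : j ≠ μ), gsp x j := by
            refine (iSup_le fun (ρ : Λ) => ?_ : (⨆ ρ : Λ, gsp x (ρ : k)) ≤ _) (hmem a)
            exact le_iSup₂_of_le (ρ : k) (fun h => hμ (h ▸ ρ.2)) le_rfl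
          exact Submodule.disjoint_def.1 hdis a ha.1 hm
        rw [h0, map_zero]
    | zero => simp
    | add u v _ _ hu hv => rw [map_add, hu, hv, add_zero]
  · have h1 : n • Multiplicative.toAdd a = n • Multiplicative.toAdd b := congrArg Multiplicative.toAdd hab
    have h2 := congrArg Subtype.val h1
    rw [AddSubgroup.coe_nsmul, AddSubgroup.coe_nsmul, nsmul_eq_mul, nsmul_eq_mul] at h2
    exact Multiplicative.toAdd.injective (Subtype.ext (mul_left_cancel₀ (Nat.cast_ne_zero.2 hn.ne') h2))

end Groth.Agent.LeadTorus
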