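import Groth.Agent.LeadTorus.DualSub
import Groth.Agent.LeadTorus.Central
import Groth.Agent.LeadTorus.Char0Proj
import Groth.Agent.H19Mult.KernelLocal
import Groth.Agent.H19Chev.LargestMult

/-!
# The closed subgroup cut out by an algebra of functionals
-/

set_option autoImplicit false
set_option linter.style.haveILetI false
set_option linter.unusedSectionVars false
set_option backward.isDefEq.respectTransparency false
set_option maxHeartbeats 1000000
set_option synthInstance.maxHeartbeats 200000

universe u

open TensorProduct WithConv Coalgebra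
open Groth.Agent.H20OT

noncomputable section

namespace Groth.Agent.LeadTorus

variable {k : Type u} [Field k]

/-- Separating families of functionals separate the tensor product. -/
theorem eq_zero_of_forall_pair {V W : Type u} [AddCommGroup V] [Module k V] [AddCommGroup W] [Module k W]
    (F : Set (V →ₗ[k] k)) (G : Set (W →ₗ[k] k)) (hF : ∀ v, (∀ f ∈ F, f v = 0) → v = 0)
    (hG : ∀ w, (∀ g ∈ G, g w = 0) → w = 0) {t : V ⊗[k] W}
    (ht : ∀ f ∈ F, ∀ g ∈ G, LinearMap.mul' k k (TensorProduct.map f g t) = 0) : t = 0 := by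
  have hslice : ∀ f ∈ F, TensorProduct.lid k W (LinearMap.rTensor W f t) = 0 := by
    intro f hf
    refine hG _ fun g hg => ?_
    rw [← ht f hf g hg]
    clear ht
    induction t using TensorProduct.induction_on with
    | zero => simp
    | tmul v w => simp
    | add x y hx hy => simp only [map_add, hx, hy]
  classical
  let b := Module.Free.chooseBasis k W
  refine (TensorProduct.equivFinsuppOfBasisRight b).injective ?_
  rw [map_zero]
  refine Finsupp.ext fun j => hF _ fun f hf => ?_
  have key : ∀ z : V ⊗[k] W, f (TensorProduct.equivFinsuppOfBasisRight b z j) =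
      b.repr (TensorProduct.lid k W (LinearMap.rTensor W f z)) j := by
    intro z
    induction z using TensorProduct.induction_on with
    | zero => simp
    | tmul v w => simp [TensorProduct.equivFinsuppOfBasisRight_apply_tmul_apply, mul_comm]
    | add x y hx hy => simp only [map_add, Finsupp.add_apply, hx, hy]
  rw [key, hslice f hf, map_zero, Finsupp.zero_apply]

variable {A : Type u} [CommRing A] [HopfAlgebra k A]

/-- A commutative algebra of functionals, stable under the antipode and splitting products, cuts out a commutative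
closed subgroup. -/
theorem exists_quotient_comm (B : Subalgebra k (WithConv (A →ₗ[k] k)))
    (hB : Splits B) (hS : ∀ f ∈ B, toConv (f.ofConv ∘ₗ HopfAlgebra.antipode k) ∈ B)
    (hcomm : ∀ f ∈ B, ∀ g ∈ B, f * g = g * f) :
    ∃ (C : Type u) (_ : CommRing C) (_ : HopfAlgebra k C) (φ : A →ₐc[k] C),
      Function.Surjective φ ∧ Coalgebra.IsCocomm k C ∧ ∀ a, φ a = 0 ↔ ∀ f ∈ B, f.ofConv a = 0 := by
  classical
  let J : Ideal A :=
    { carrier := ann B
      add_mem' := fun ha hb => (ann B).add_mem ha hb
      zero_mem' := (ann B).zero_mem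
      smul_mem' := fun a _ hb => mul_mem_ann hB a hb }
  let Q := A ⧸ J.restrictScalars k
  let bar : B → (Q →ₗ[k] k) := fun f => (J.restrictScalars k).liftQ f.1.ofConv fun x hx => hx f.1 f.2
  have hbar : ∀ (f : B) (a : A), bar f (Submodule.Quotient.mk a) = f.1.ofConv a := fun f a => rfl
  have hsep : ∀ v : Q, (∀ φ ∈ Set.range bar, φ v = 0) → v = 0 := by
    intro v hv
    induction v using Submodule.Quotient.induction_on with
    | H a => exact (Submodule.Quotient.mk_eq_zero _).2 fun f hf => hv _ ⟨⟨f, hf⟩, rfl⟩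
  have hpair : ∀ (f g : B) (t : A ⊗[k] A), LinearMap.mul' k k (TensorProduct.map (bar f) (bar g)
      (TensorProduct.map (J.restrictScalars k).mkQ (J.restrictScalars k).mkQ t)) =
      LinearMap.mul' k k (TensorProduct.map f.1.ofConv g.1.ofConv t) := by
    intro f g t
    induction t using TensorProduct.induction_on with
    | zero => simp
    | tmul a b => rfl
    | add u v hu hv => simp only [map_add, hu, hv]
  have hco : (J.restrictScalars k).IsCoideal := by
    refine { counit_eq_zero := fun x hx => ?_, map_mkQ_comul_eq_zero := fun x hx => ?_ }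
    · have h := hx 1 (one_mem _)
      rwa [LinearMap.convOne_apply, Algebra.algebraMap_self, RingHom.id_apply] at h
    · refine eq_zero_of_forall_pair (Set.range bar) (Set.range bar) hsep hsep ?_
      rintro _ ⟨f, rfl⟩ _ ⟨g, rfl⟩
      rw [hpair]
      exact hx _ (mul_mem f.2 g.2)
  haveI : J.IsHopfIdeal k :=
    { hco with antipode_mem := fun x hx f hf => hx _ (hS f hf) }
  let φ : A →ₐc[k] A ⧸ J := Bialgebra.Quotient.mkBialgHom J
  have hφ : Function.Surjective φ := Ideal.Quotient.mk_surjective
  let eq' : Q ≃ₗ[k] A ⧸ J := Submodule.Quotient.restrictScalarsEquiv k J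
  refine ⟨A ⧸ J, inferInstance, inferInstance, φ, hφ, ⟨LinearMap.ext fun c => ?_⟩,
    fun a => Ideal.Quotient.eq_zero_iff_mem⟩
  obtain ⟨a, rfl⟩ := hφ c
  refine sub_eq_zero.1 ((TensorProduct.congr eq'.symm eq'.symm).injective ?_)
  rw [map_zero]
  refine eq_zero_of_forall_pair (Set.range bar) (Set.range bar) hsep hsep ?_
  rintro _ ⟨f, rfl⟩ _ ⟨g, rfl⟩
  have h1 : ∀ t : A ⊗[k] A, TensorProduct.congr eq'.symm eq'.symm
      (TensorProduct.map (φ : A →ₗc[k] A ⧸ J).toLinearMap (φ : A →ₗc[k] A ⧸ J).toLinearMap t) =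
      TensorProduct.map (J.restrictScalars k).mkQ (J.restrictScalars k).mkQ t := by
    intro t
    induction t using TensorProduct.induction_on with
    | zero => simp
    | tmul a b => rfl
    | add u v hu hv => simp only [map_add, hu, hv]
  have h2 : ∀ t : (A ⧸ J) ⊗[k] (A ⧸ J), LinearMap.mul' k k (TensorProduct.map (bar f) (bar g)
      (TensorProduct.congr eq'.symm eq'.symm (TensorProduct.comm k _ _ t))) =
      LinearMap.mul' k k (TensorProduct.map (bar g) (bar f) (TensorProduct.congr eq'.symm eq'.symm t)) := by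
    intro t
    induction t using TensorProduct.induction_on with
    | zero => simp
    | tmul a b => simp [mul_comm]
    | add u v hu hv => simp only [map_add, hu, hv]
  rw [LinearMap.comp_apply, LinearEquiv.coe_coe, map_sub, map_sub, map_sub, h2, sub_eq_zero,
    show (Coalgebra.comul (R := k)) (φ a) = TensorProduct.map (φ : A →ₗc[k] A ⧸ J).toLinearMap
      (φ : A →ₗc[k] A ⧸ J).toLinearMap (Coalgebra.comul (R := k) a) from (CoalgHomClass.map_comp_comul_apply φ a).symm,
    h1, hpair, hpair]
  exact LinearMap.congr_fun (congrArg WithConv.ofConv (hcomm g.1 g.2 f.1 f.2)) a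

/-- A single point derivation generates a commutative closed subgroup. -/
theorem exists_quotient_single {x : WithConv (A →ₗ[k] k)} (hx : x ∈ derSpace k A) :
    ∃ (C : Type u) (_ : CommRing C) (_ : HopfAlgebra k C) (φ : A →ₐc[k] C),
      Function.Surjective φ ∧ Coalgebra.IsCocomm k C ∧ ∀ a, φ a = 0 → ∀ n : ℕ, (x ^ n).ofConv a = 0 := by
  have hsub : ({x} : Set (WithConv (A →ₗ[k] k))) ⊆ derSpace k A := Set.singleton_subset_iff.2 hx
  have h1 : Splits (Algebra.adjoin k ({x} : Set (WithConv (A →ₗ[k] k)))) := splits_adjoin hsub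
  have h2 : ∀ f ∈ Algebra.adjoin k ({x} : Set (WithConv (A →ₗ[k] k))),
      toConv (f.ofConv ∘ₗ HopfAlgebra.antipode k) ∈ Algebra.adjoin k ({x} : Set (WithConv (A →ₗ[k] k))) :=
    fun f hf => antipode_mem_adjoin hsub hf
  have h3 : ∀ f ∈ Algebra.adjoin k ({x} : Set (WithConv (A →ₗ[k] k))), ∀ g ∈ Algebra.adjoin k ({x} : Set (WithConv (A →ₗ[k] k))), f * g = g * f := fun f hf g hg => by
    exact (Algebra.commute_of_mem_adjoin_singleton_of_commute hg
        (Algebra.commute_of_mem_adjoin_singleton_of_commute hf (Commute.refl x)).symm).eq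
  obtain ⟨C, iC, iH, φ, hφ, hco, hker⟩ := exists_quotient_comm _ h1 h2 h3
  exact ⟨C, iC, iH, φ, hφ, hco, fun a ha n => (hker a).1 ha _ (pow_mem (Algebra.subset_adjoin (Set.mem_singleton x)) n)⟩

variable (K : Type u) [Field K] [Algebra k K] {C : Type u} [CommRing C] [HopfAlgebra k C]

/-- A bialgebra map of the base change killing what is killed by the powers of the derivation factors through the
base change of the subgroup. -/
theorem exists_factor_single {x : WithConv (A →ₗ[k] k)} (φ : A →ₐc[k] C) (hφ : Function.Surjective φ)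
    (hker : ∀ a, φ a = 0 → ∀ n : ℕ, (x ^ n).ofConv a = 0) {P : Type u} [CommRing P] [HopfAlgebra K P]
    (ψ : K ⊗[k] A →ₐc[K] P) (hψ : ∀ b, (∀ n : ℕ, ((extAlg K x) ^ n).ofConv b = 0) → ψ b = 0) :
    ∃ χ : K ⊗[k] C →ₐc[K] P, ∀ b, χ (Bialgebra.TensorProduct.map (BialgHom.id K K) φ b) = ψ b := by
  letI : Algebra k P := ((algebraMap K P).comp (algebraMap k K)).toAlgebra
  haveI : IsScalarTower k K P := IsScalarTower.of_algebraMap_eq' rfl
  let φK : K ⊗[k] A →ₐc[K] K ⊗[k] C := Bialgebra.TensorProduct.map (BialgHom.id K K) φ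
  have hsurjK : Function.Surjective φK := fun y => by
    induction y using TensorProduct.induction_on with
    | zero => exact ⟨0, map_zero _⟩
    | tmul c z =>
      obtain ⟨a, rfl⟩ := hφ z
      exact ⟨c ⊗ₜ a, rfl⟩
    | add y z hy hz =>
      obtain ⟨a, rfl⟩ := hy
      obtain ⟨b, rfl⟩ := hz
      exact ⟨a + b, map_add _ _ _⟩
  let g : A →ₐ[k] P := ((ψ : K ⊗[k] A →ₐ[K] P).restrictScalars k).comp Algebra.TensorProduct.includeRight
  have hg : RingHom.ker (φ : A →ₐ[k] C) ≤ RingHom.ker g := fun a ha => by
    show ψ ((1 : K) ⊗ₜ[k] a) = 0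
    refine hψ _ fun n => ?_
    rw [← map_pow, extAlg_one_tmul, hker a ha n, map_zero]
  let gC : C →ₐ[k] P := AlgHom.liftOfSurjective (φ : A →ₐ[k] C) hφ g hg
  have hgC : ∀ a, gC (φ a) = g a := fun a => AlgHom.liftOfSurjective_apply _ hφ g hg a
  let L : K ⊗[k] C →ₐ[K] P := Algebra.TensorProduct.lift (Algebra.ofId K P) gC fun _ _ => Commute.all _ _
  have hL : ∀ b, L (φK b) = ψ b := by
    intro b
    induction b using TensorProduct.induction_on with
    | zero => simp
    | tmul c a =>
      show L (c ⊗ₜ[k] φ a) = _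
      rw [Algebra.TensorProduct.lift_tmul, hgC]
      show algebraMap K P c * ψ ((1 : K) ⊗ₜ[k] a) = _
      rw [← Algebra.smul_def, ← map_smul, TensorProduct.smul_tmul', smul_eq_mul, mul_one]
    | add y z hy hz => simp only [map_add, hy, hz]
  exact H19Chev.LargestMult.exists_factor φK hsurjK ψ fun b hb => RingHom.mem_ker.2 (by
    exact (hL b).symm.trans ((congrArg L (RingHom.mem_ker.1 hb)).trans (map_zero L)))

end Groth.Agent.LeadTorus
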