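import Groth.Agent.H20Borel.Conjugates
import Groth.Agent.H20Borel.Cartan
import Groth.Agent.S5247
import Groth.Agent.S3908

/-!
# Morphisms are determined on the conjugates of a Cartan subgroup
-/

set_option autoImplicit false
set_option linter.style.haveILetI false
set_option backward.isDefEq.respectTransparency false
set_option maxHeartbeats 1000000
set_option synthInstance.maxHeartbeats 100000

universe u

open CategoryTheory CategoryTheory.Limits MonoidalCategory CartesianMonoidalCategory MonObj AlgebraicGeometry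
open Groth.Agent.H27Witt H20Mu H20Conj H20Borel TensorProduct

noncomputable section

namespace Groth.Agent.LeadTorus

variable {k : Type u} [Field k]

local notation "Pt" X => 𝟙_ (Over (Sk k)) ⟶ X

variable [IsAlgClosed k] {G : Over (Sk k)} [GrpObj G] [IsAffine G.left] [Smooth G.hom] [ConnectedSpace G.left]

/-- The centralizer of a torus, smooth and connected. -/
theorem exists_centralizer_connected {T : Over (Sk k)} [GrpObj T] (iT : T ⟶ G) [IsMonHom iT] [Mono iT]
    (hT : Red.IsTorus T) :
    ∃ (C : Over (Sk k)) (_ : GrpObj C) (c : C ⟶ G), Red.IsCentralizerOf iT c ∧ IsClosedImmersion c.left ∧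
      Smooth C.hom ∧ ConnectedSpace C.left := by
  obtain ⟨C, gC, c, hc, hcc, hCs⟩ := S5247.result T G (H21Diag.isMultTypeFT_of_isTorus hT) inferInstance inferInstance iT
  letI := gC
  exact ⟨C, gC, c, hc, hcc, hCs, S3908.result k G T iT hT C c hc⟩

/-- A function vanishing on the conjugates of the rational points of a Cartan subgroup is zero. -/
theorem eq_zero_of_conj {T : Over (Sk k)} [GrpObj T] (iT : T ⟶ G) [IsMonHom iT] [Mono iT] (hT : Red.IsTorus T)
    {C : Over (Sk k)} [GrpObj C] (c : C ⟶ G) (hc : Red.IsCentralizerOf iT c) [IsMonHom c] [IsClosedImmersion c.left]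
    [Smooth C.hom] [ConnectedSpace C.left] {f : Fn G}
    (h : ∀ (g : Pt G) (b : Pt C), val (g * (b ≫ c) * g⁻¹) f = 0) : f = 0 := by
  obtain ⟨M, χ, hd⟩ := exists_diag_rep iT hT
  obtain ⟨t₀, ht₀⟩ := exists_regular hT χ
  obtain ⟨tC, htC⟩ := (hc.2.2 T iT).mpr fun X' y x => by
    rw [← MonObj.mul_comp, ← MonObj.mul_comp,
      H21Diag.mult_comm (H21Diag.isMultTypeFT_of_isTorus hT) (y : X' ⟶ T) x]
  have hinj := injective_conj iT M hd t₀ ht₀ hc c (𝟙 C) (Category.id_comp c) (t₀ ≫ tC)
    (by rw [Category.assoc, htC])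
  refine hinj ?_
  haveI : IsAffine C.left := isAffine_of_isAffineHom c.left
  haveI : IsAffine (G ⊗ C).left := inferInstanceAs (IsAffine (pullback G.hom C.hom))
  haveI : Smooth (G ⊗ C).hom := by
    haveI : Smooth (fst G C).left := MorphismProperty.pullback_fst (P := @Smooth) _ _ inferInstance
    rw [← Over.w (fst G C)]
    infer_instance
  rw [map_zero]
  refine Fn.ext_points fun w => ?_
  rw [map_zero, Fn.ev_pull]
  have e : w ≫ (fst G C * (snd G C ≫ c) * (fst G C)⁻¹) = (w ≫ fst G C) * ((w ≫ snd G C) ≫ c) * (w ≫ fst G C)⁻¹ := by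
    rw [MonObj.comp_mul, MonObj.comp_mul, GrpObj.comp_inv, ← Category.assoc]
  exact (congrArg (fun p => Fn.ev p f) e).trans (h _ _)

/-- Morphisms out of `H ⊗ G` are determined by their restrictions to the conjugates of the rational points of a
Cartan subgroup. -/
theorem eq_of_conj {T : Over (Sk k)} [GrpObj T] (iT : T ⟶ G) [IsMonHom iT] [Mono iT] (hT : Red.IsTorus T)
    {C : Over (Sk k)} [GrpObj C] (c : C ⟶ G) (hc : Red.IsCentralizerOf iT c) [IsMonHom c] [IsClosedImmersion c.left]
    [Smooth C.hom] [ConnectedSpace C.left] {H X : Over (Sk k)} [IsAffine H.left] [IsAffine X.left]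
    (θ θ' : H ⊗ G ⟶ X)
    (h : ∀ (g : Pt G) (b : Pt C), lift (𝟙 H) (toUnit H ≫ (g * (b ≫ c) * g⁻¹)) ≫ θ =
      lift (𝟙 H) (toUnit H ≫ (g * (b ≫ c) * g⁻¹)) ≫ θ') : θ = θ' := by
  classical
  refine Fn.hom_ext (AlgHom.ext fun r => ?_)
  rw [← sub_eq_zero]
  obtain ⟨n, a, b, hab⟩ := Fn.exists_decomp (Fn.pull θ r - Fn.pull θ' r)
  rw [hab]
  -- against any functional of the first factor
  let v : Fn H ⊗[k] Fn G := ∑ i, a i ⊗ₜ[k] b i
  suffices hv : v = 0 by
    have h1 := congrArg (Algebra.TensorProduct.lift (Fn.pull (fst H G)) (Fn.pull (snd H G)) fun _ _ => Commute.all _ _) hv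
    simpa [v] using h1
  let B := Module.Free.chooseBasis k (Fn H)
  refine (TensorProduct.equivFinsuppOfBasisLeft B).injective ?_
  rw [map_zero]
  refine Finsupp.ext fun j => ?_
  rw [Finsupp.zero_apply]
  have hj : TensorProduct.equivFinsuppOfBasisLeft B v j = ∑ i, B.repr (a i) j • b i := by
    simp [v, TensorProduct.equivFinsuppOfBasisLeft_apply_tmul_apply]
  rw [hj]
  refine eq_zero_of_conj iT hT c hc fun g z => ?_
  let p : Pt G := g * (z ≫ c) * g⁻¹
  have h1 : Fn.pull (lift (𝟙 H) (toUnit H ≫ p)) (Fn.pull θ r - Fn.pull θ' r) = 0 := by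
    rw [map_sub, Fn.pull_pull, Fn.pull_pull, h g z, sub_self]
  rw [hab, map_sum] at h1
  simp only [map_mul, Fn.pull_pull, lift_fst, lift_snd, pull_const, Fn.pull_id, AlgHom.id_apply] at h1
  have h2 := congrArg (fun x => B.repr x j) h1
  simp only [map_sum, map_zero, Finsupp.coe_finsetSum, Finset.sum_apply, Finsupp.zero_apply] at h2
  rw [map_sum]
  refine Eq.trans (Finset.sum_congr rfl fun i _ => ?_) h2
  rw [map_smul, mul_comm (a i), ← Algebra.smul_def, map_smul, Finsupp.smul_apply, smul_eq_mul, smul_eq_mul, mul_comm]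

end Groth.Agent.LeadTorus
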