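import Groth.Agent.LeadTorus.Mu
import Groth.Agent.LeadTorus.Conj

/-!
# Cocharacters and central subgroups
-/

set_option autoImplicit false
set_option linter.style.haveILetI false
set_option backward.isDefEq.respectTransparency false
set_option maxHeartbeats 1000000
set_option synthInstance.maxHeartbeats 200000

universe u

open CategoryTheory CategoryTheory.Limits MonoidalCategory CartesianMonoidalCategory MonObj AlgebraicGeometry
open Groth.Agent.H27Witt H20Mu H20Conj TensorProduct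

noncomputable section

namespace Groth.Agent.LeadTorus

variable {K : Type u} [Field K]

theorem isAffine_gm : IsAffine (Red.Gm (Sk K)).left := by
  haveI : IsAffine (Red.diag (ULift.{u} ℤ) ℤ).left := inferInstanceAs (IsAffine (Spec _))
  dsimp [Red.Gm, Red.DS, Red.bc]; infer_instance

theorem mul_comm_gm {X : Over (Sk K)} (a b : X ⟶ Red.Gm (Sk K)) : a * b = b * a := by
  refine gm_pt_ext (congrArg Units.val ?_)
  rw [GmPts.unitOfPt_mul, GmPts.unitOfPt_mul, _root_.mul_comm]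

theorem mul_pow_gm {X : Over (Sk K)} (a b : X ⟶ Red.Gm (Sk K)) (n : ℕ) : (a * b) ^ n = a ^ n * b ^ n :=
  (Commute.mul_pow (mul_comm_gm a b) n)

/-- The power map of the multiplicative group. -/
def powGm (K : Type u) [Field K] (p : ℕ) : Red.Gm (Sk K) ⟶ Red.Gm (Sk K) := 𝟙 (Red.Gm (Sk K)) ^ p

theorem comp_powGm {X : Over (Sk K)} (a : X ⟶ Red.Gm (Sk K)) (p : ℕ) : a ≫ powGm K p = a ^ p := by
  induction p with
  | zero => rw [powGm, pow_zero, MonObj.comp_one, pow_zero]
  | succ n ih => rw [powGm, pow_succ, MonObj.comp_mul, Category.comp_id, ← powGm, ih, pow_succ]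

theorem pull_tensorHom_injective {X X' Y Y' : Over (Sk K)} [IsAffine X.left] [IsAffine X'.left] [IsAffine Y.left]
    [IsAffine Y'.left] (a : X ⟶ X') (b : Y ⟶ Y') (ha : Function.Injective (Fn.pull a))
    (hb : Function.Injective (Fn.pull b)) : Function.Injective (Fn.pull (a ⊗ₘ b)) := by
  let P : Fn X' ⊗[K] Fn Y' →ₐ[K] Fn (X' ⊗ Y') :=
    Algebra.TensorProduct.lift (Fn.pull (fst X' Y')) (Fn.pull (snd X' Y')) fun _ _ => Commute.all _ _
  let Q : Fn X ⊗[K] Fn Y →ₐ[K] Fn (X ⊗ Y) :=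
    Algebra.TensorProduct.lift (Fn.pull (fst X Y)) (Fn.pull (snd X Y)) fun _ _ => Commute.all _ _
  have hPsurj : Function.Surjective P := fun F => by
    obtain ⟨n, c, d, h⟩ := Fn.exists_decomp F
    exact ⟨∑ i, c i ⊗ₜ d i, by rw [map_sum, h]; exact Finset.sum_congr rfl fun i _ => Algebra.TensorProduct.lift_tmul _ _ _ _ _⟩
  have hcomp : ∀ z, Fn.pull (a ⊗ₘ b) (P z) = Q (Algebra.TensorProduct.map (Fn.pull a) (Fn.pull b) z) := by
    intro z
    induction z using TensorProduct.induction_on with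
    | zero => simp
    | tmul x y =>
      simp only [P, Q, Algebra.TensorProduct.lift_tmul, Algebra.TensorProduct.map_tmul, map_mul, Fn.pull_pull,
        tensorHom_fst, tensorHom_snd]
    | add u v hu hv => simp only [map_add, hu, hv]
  have hmap : Function.Injective (Algebra.TensorProduct.map (Fn.pull a) (Fn.pull b)) :=
    TensorProduct.map_injective_of_flat_flat (Fn.pull a).toLinearMap (Fn.pull b).toLinearMap ha hb
  intro F F' h
  obtain ⟨z, rfl⟩ := hPsurj F
  obtain ⟨z', rfl⟩ := hPsurj F'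
  rw [hcomp, hcomp] at h
  exact congrArg P (hmap (fnTensor_injective h))

variable [Infinite K]

theorem laurent_eq_zero {s : Finset ℤ} {c : ℤ → K}
    (h : ∑ i ∈ s, c i • ((zFn ^ i : (Fn (Red.Gm (Sk K)))ˣ) : Fn (Red.Gm (Sk K))) = 0) : ∀ i ∈ s, c i = 0 := by
  refine laurent_coeff_eq_zero fun v => ?_
  have h1 := congrArg (val (ofPar v)) h
  simp only [map_sum, map_smul, map_zero, val_zFn_zpow, par_ofPar, smul_eq_mul] at h1
  exact h1

theorem pull_powGm_zFn (p : ℕ) (i : ℤ) :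
    Fn.pull (powGm K p) ((zFn ^ i : (Fn (Red.Gm (Sk K)))ˣ) : Fn (Red.Gm (Sk K))) =
      ((zFn ^ ((p : ℤ) * i) : (Fn (Red.Gm (Sk K)))ˣ) : Fn (Red.Gm (Sk K))) := by
  rw [pull_zFn_zpow, powGm, unitOfPt_pow, zpow_mul, zpow_natCast]
  rfl

theorem pull_powGm_injective (p : ℕ) (hp : p ≠ 0) : Function.Injective (Fn.pull (powGm K p)) := by
  refine (injective_iff_map_eq_zero _).2 fun F hF => ?_
  obtain ⟨s, c, rfl⟩ := exists_laurent F
  simp only [map_sum, map_smul, pull_powGm_zFn] at hF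
  let e : ℤ ↪ ℤ := ⟨fun i => (p : ℤ) * i, mul_right_injective₀ (by exact_mod_cast hp)⟩
  have h := laurent_eq_zero (s := s.map e) (c := fun j => c (j / p)) (by
    rw [Finset.sum_map]
    simp only [e, Function.Embedding.coeFn_mk, Int.mul_ediv_cancel_left _ (show (p : ℤ) ≠ 0 by exact_mod_cast hp)]
    exact hF)
  refine Finset.sum_eq_zero fun i hi => ?_
  have := h (e i) (Finset.mem_map_of_mem e hi)
  simp only [e, Function.Embedding.coeFn_mk, Int.mul_ediv_cancel_left _ (show (p : ℤ) ≠ 0 by exact_mod_cast hp)] at this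
  rw [this, zero_smul]

omit [Infinite K] in
theorem comp_pow_gm {X Y : Over (Sk K)} (z : X ⟶ Y) (a : Y ⟶ Red.Gm (Sk K)) (n : ℕ) : z ≫ a ^ n = (z ≫ a) ^ n := by
  rw [← comp_powGm, ← comp_powGm, Category.assoc]

omit [Infinite K] in
theorem isMonHom_of_epi_desc {C Q : Over (Sk K)} [GrpObj C] [GrpObj Q] (π : C ⟶ C) [IsMonHom π] (d' e : C ⟶ Q)
    [IsMonHom e] (hf : π ≫ d' = e) (hepi : ∀ a b : C ⊗ C ⟶ Q, (π ⊗ₘ π) ≫ a = (π ⊗ₘ π) ≫ b → a = b) :
    IsMonHom d' := by
  have hP : ∀ g : C ⊗ C ⟶ C, (g ≫ π) ≫ d' = g ≫ e := fun g => by rw [Category.assoc, hf]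
  have key : (fst C C * snd C C) ≫ d' = (fst C C ≫ d') * (snd C C ≫ d') := by
    refine hepi _ _ ?_
    rw [← Category.assoc, MonObj.comp_mul, tensorHom_fst, tensorHom_snd, ← MonObj.mul_comp, hP, MonObj.comp_mul,
      ← Category.assoc, ← Category.assoc, tensorHom_fst, tensorHom_snd, hP, hP, MonObj.mul_comp]
  refine H21Diag.isMonHom_of_mul _ fun {X} a b => ?_
  have h := congrArg (lift a b ≫ ·) key
  simp only [← Category.assoc, MonObj.comp_mul, lift_fst, lift_snd] at h
  exact h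

omit [Infinite K] in
theorem isMonHom_powGm (p : ℕ) : IsMonHom (powGm K p) :=
  @Groth.Agent.H21Diag.isMonHom_of_mul (Over (Sk K)) _ _ (Red.Gm (Sk K)) (Red.Gm (Sk K)) (Red.grpObj_bc _ _)
    (Red.grpObj_bc _ _) _ fun {X} a b => by rw [comp_powGm, comp_powGm, comp_powGm, mul_pow_gm]

theorem isMonHom_of_comp_powGm {Q : Over (Sk K)} [GrpObj Q] [IsAffine Q.left] (p : ℕ) (hp : p ≠ 0)
    (d' e : Red.Gm (Sk K) ⟶ Q) [he : IsMonHom e] (hfac : powGm K p ≫ d' = e) : IsMonHom d' := by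
  haveI := isAffine_gm (K := K)
  have hinj := pull_powGm_injective (K := K) p hp
  have hepi : ∀ a b : Red.Gm (Sk K) ⊗ Red.Gm (Sk K) ⟶ Q,
      (powGm K p ⊗ₘ powGm K p) ≫ a = (powGm K p ⊗ₘ powGm K p) ≫ b → a = b := fun a b h =>
    Fn.hom_ext (AlgHom.ext fun r => pull_tensorHom_injective (powGm K p) (powGm K p) hinj hinj (by
      rw [Fn.pull_pull, Fn.pull_pull, h]))
  haveI := isMonHom_powGm (K := K) p
  exact isMonHom_of_epi_desc (powGm K p) d' e hfac hepi

/-- A cocharacter trivial on the `p`-th roots of unity is a `p`-th power. -/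
theorem exists_cochar_desc {Q : Over (Sk K)} [GrpObj Q] [IsAffine Q.left] (p : ℕ) [NeZero p]
    (e : Red.Gm (Sk K) ⟶ Q) [IsMonHom e] (he : muι K p ≫ e = 1) :
    ∃ d' : Red.Gm (Sk K) ⟶ Q, IsMonHom d' ∧ powGm K p ≫ d' = e := by
  classical
  haveI := isAffine_gm (K := K)
  haveI : IsAffine (muGrp K p).left := inferInstanceAs (IsAffine (Spec _))
  let Z : ℤ → Fn (Red.Gm (Sk K)) := fun i => ((zFn ^ i : (Fn (Red.Gm (Sk K)))ˣ) : Fn (Red.Gm (Sk K)))
  have hrange : ∀ r, Fn.pull e r ∈ Set.range (Fn.pull (powGm K p)) := by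
    intro r
    obtain ⟨s, c, hc⟩ := exists_laurent (Fn.pull e r)
    let π₁ := fst (Red.Gm (Sk K)) (muGrp K p)
    let π₂ := snd (Red.Gm (Sk K)) (muGrp K p)
    have h0 : (π₁ * (π₂ ≫ muι K p)) ≫ e = π₁ ≫ e := by
      rw [MonObj.mul_comp, Category.assoc π₂, he, MonObj.comp_one, _root_.mul_one]
    have h1 : Fn.pull (π₁ * (π₂ ≫ muι K p)) (Fn.pull e r) = Fn.pull π₁ (Fn.pull e r) := by
      rw [Fn.pull_pull, Fn.pull_pull, h0]
    have hz : ∀ i, Fn.pull (π₁ * (π₂ ≫ muι K p)) (Z i) =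
        Fn.pull π₁ (Z i) * Fn.pull π₂ (muAlg K p (MonoidAlgebra.single (Multiplicative.ofAdd (i : ZMod p)) 1)) := by
      intro i
      rw [pull_zFn_zpow, GmPts.unitOfPt_mul, mul_zpow, Units.val_mul]
      refine congrArg₂ (· * ·) (pull_zFn_zpow π₁ i).symm ?_
      rw [← muUnit_zpow]
      refine (pull_zFn_zpow (π₂ ≫ muι K p) i).symm.trans ?_
      rw [← Fn.pull_pull]
      refine congrArg _ ((pull_zFn_zpow (muι K p) i).trans ?_)
      rw [muι, GmPts.unitOfPt_ptOfUnit]
    let v : Fn (Red.Gm (Sk K)) ⊗[K] Fn (muGrp K p) := ∑ i ∈ s, (c i • Z i) ⊗ₜ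
      (muAlg K p (MonoidAlgebra.single (Multiplicative.ofAdd (i : ZMod p)) 1) - 1)
    have hv : v = 0 := by
      refine fnTensor_injective ?_
      rw [map_zero, map_sum]
      rw [hc, map_sum, map_sum, ← sub_eq_zero, ← Finset.sum_sub_distrib] at h1
      refine Eq.trans (Finset.sum_congr rfl fun i _ => ?_) h1
      rw [Algebra.TensorProduct.lift_tmul, map_smul, map_sub, map_one, mul_sub, _root_.mul_one,
        smul_mul_assoc]
      exact congrArg₂ (· - ·) ((congrArg (c i • ·) (hz i).symm).trans (map_smul _ _ _).symm) rfl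
    have hzero : ∀ i ∈ s, ¬ (p : ℤ) ∣ i → c i = 0 := by
      intro i hi hpi
      let coef : Fn (muGrp K p) →ₗ[K] K := (Finsupp.lapply (Multiplicative.ofAdd (i : ZMod p))).comp
        ((MonoidAlgebra.coeffLinearEquiv K).toLinearMap.comp (muAlg K p).symm.toLinearMap)
      have h2 := congrArg (fun w => TensorProduct.rid K _ (TensorProduct.map LinearMap.id coef w)) hv
      simp only [v, map_sum, TensorProduct.map_tmul, LinearMap.id_coe, id_eq, TensorProduct.rid_tmul, map_zero,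
        smul_smul] at h2
      have hne : (Multiplicative.ofAdd (i : ZMod p)) ≠ 1 := fun h =>
        hpi ((ZMod.intCast_zmod_eq_zero_iff_dvd i p).1 (ofAdd_eq_one.1 h))
      have hcoef : ∀ m : ℤ, coef (muAlg K p (MonoidAlgebra.single (Multiplicative.ofAdd (m : ZMod p)) 1) - 1) =
          if (m : ZMod p) = (i : ZMod p) then 1 else 0 := fun m => by
        have h1' : (muAlg K p).symm (1 : Fn (muGrp K p)) = MonoidAlgebra.single 1 1 := by
          rw [map_one, MonoidAlgebra.one_def]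
        simp only [coef, LinearMap.comp_apply, map_sub, AlgEquiv.toLinearMap_apply, AlgEquiv.symm_apply_apply, h1',
          LinearEquiv.coe_coe, MonoidAlgebra.coeffLinearEquiv_apply, MonoidAlgebra.coeff_single, Finsupp.lapply_apply,
          Finsupp.single_apply, EmbeddingLike.apply_eq_iff_eq,
          if_neg (Ne.symm hne), sub_zero]
      simp only [hcoef] at h2
      have := laurent_eq_zero (s := s) (c := fun m => (if (m : ZMod p) = (i : ZMod p) then 1 else 0) * c m) h2 i hi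
      simpa using this
    refine ⟨∑ i ∈ s.filter (fun i => (p : ℤ) ∣ i), c i • Z (i / p), ?_⟩
    rw [hc, map_sum, Finset.sum_filter]
    refine Finset.sum_congr rfl fun i hi => ?_
    split_ifs with hd
    · rw [map_smul, pull_powGm_zFn, Int.mul_ediv_cancel' hd]
    · rw [hzero i hi hd, zero_smul]
  have hinj := pull_powGm_injective (K := K) p (NeZero.ne p)
  let g : Fn Q →ₐ[K] Fn (Red.Gm (Sk K)) := (AlgEquiv.ofInjective _ hinj).symm.toAlgHom.comp
    ((Fn.pull e).codRestrict (Fn.pull (powGm K p)).range fun r => hrange r)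
  obtain ⟨d', hd'⟩ := Fn.exists_hom (X := Red.Gm (Sk K)) (Y := Q) g
  have hfac : powGm K p ≫ d' = e := by
    refine Fn.hom_ext (AlgHom.ext fun r => ?_)
    rw [← Fn.pull_pull, hd']
    exact congrArg Subtype.val ((AlgEquiv.ofInjective _ hinj).apply_symm_apply ⟨Fn.pull e r, hrange r⟩)
  exact ⟨d', isMonHom_of_comp_powGm p (NeZero.ne p) d' e hfac, hfac⟩

end Groth.Agent.LeadTorus
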