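import Groth.Agent.LeadTorus.AnyGroup
import Groth.Agent.H21Diag.Conjugate
import Groth.Agent.H21Diag.MonoClosed
import Groth.Agent.H21Mono.ClosedImmersion
import Groth.Agent.S8406

/-!
# Maximal tori of a separated group are conjugate étale locally
-/

set_option autoImplicit false
set_option linter.style.haveILetI false
set_option linter.unusedSectionVars false
set_option backward.isDefEq.respectTransparency false
set_option maxHeartbeats 4000000
set_option synthInstance.maxHeartbeats 400000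

universe u

open CategoryTheory CategoryTheory.Limits MonoidalCategory CartesianMonoidalCategory MonObj AlgebraicGeometry
open Groth.Agent.H21Diag

noncomputable section

namespace Groth.Agent.LeadTorus

variable {S : Scheme.{u}}

/-- Monomorphisms of groups of multiplicative type into separated groups of finite type are closed immersions. -/
theorem isClosedImmersion_mono_sep {H G : Over S} [GrpObj H] [GrpObj G] (hH : SGA3x.IsMultTypeFT H)
    [IsSeparated G.hom] [LocallyOfFiniteType G.hom] [QuasiCompact G.hom] (i : H ⟶ G) [IsMonHom i] [Mono i] :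
    IsClosedImmersion i.left := by
  obtain ⟨S', g, hg, hs, hqc, hloc⟩ := hH
  refine of_fpqc_cover (@IsClosedImmersion) g hqc i.left G.hom fun s' => ?_
  obtain ⟨U, hsU, M, _, hM, ⟨e⟩⟩ := hloc s'
  haveI := hM
  obtain ⟨V, hV, hsV, hVU⟩ := exists_isAffineOpen_mem_and_subset (U := U) (x := s') hsU
  refine ⟨Γ(S', V), hV.fromSpec, inferInstance, by rw [hV.range_fromSpec]; exact hsV, ?_⟩
  have hr : Set.range hV.fromSpec.base ⊆ Set.range U.ι.base := by
    rw [hV.range_fromSpec, Scheme.Opens.range_ι]; exact hVU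
  let t : Spec (CommRingCat.of Γ(S', V)) ⟶ S := hV.fromSpec ≫ g
  have e' := restrictChart e (IsOpenImmersion.lift U.ι hV.fromSpec hr) (v₀ := t) (by
    rw [← Category.assoc, IsOpenImmersion.lift_fac])
  haveI := (Over.mapPullbackAdj t).isRightAdjoint
  haveI := H21Diag.isMonHom_map t i
  haveI : IsSeparated (Red.bc t G).hom := MorphismProperty.pullback_snd (P := @IsSeparated) _ _ ‹_›
  haveI : LocallyOfFiniteType (Red.bc t G).hom := MorphismProperty.pullback_snd (P := @LocallyOfFiniteType) _ _ ‹_›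
  haveI : QuasiCompact (Red.bc t G).hom := MorphismProperty.pullback_snd (P := @QuasiCompact) _ _ ‹_›
  let u : Red.DS (Spec (CommRingCat.of Γ(S', V))) M ⟶ Red.bc t G := e'.inv.hom.hom ≫ (Over.pullback t).map i
  haveI : IsMonHom u := inferInstanceAs (IsMonHom (e'.inv.hom.hom ≫ (Over.pullback t).map i))
  haveI : IsIso e'.inv.hom.hom := inferInstanceAs (IsIso ((Grp.forget _).map e'.inv))
  haveI : Mono u := inferInstanceAs (Mono (e'.inv.hom.hom ≫ (Over.pullback t).map i))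
  have hu : IsClosedImmersion u.left := H21Mono.isClosedImmersion_of_mono_DS u
  haveI : IsIso e'.inv.hom.hom.left := inferInstanceAs (IsIso ((Over.forget _).map e'.inv.hom.hom))
  have hc : IsClosedImmersion ((Over.pullback t).map i).left := by
    rw [← MorphismProperty.cancel_left_of_respectsIso (P := @IsClosedImmersion) e'.inv.hom.hom.left]
    exact hu
  have sq : IsPullback ((Over.pullback t).map i).left (pullback.fst H.hom t) (pullback.fst G.hom t) i.left := by
    have hfst : ((Over.pullback t).map i).left ≫ pullback.fst G.hom t = pullback.fst H.hom t ≫ i.left :=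
      pullback.lift_fst _ _ _
    have hsnd : ((Over.pullback t).map i).left ≫ pullback.snd G.hom t = pullback.snd H.hom t :=
      pullback.lift_snd _ _ _
    refine IsPullback.of_right ?_ hfst (IsPullback.of_hasPullback G.hom t).flip
    rw [hsnd, Over.w i]
    exact (IsPullback.of_hasPullback H.hom t).flip
  rw [← sq.flip.isoPullback_hom_snd, MorphismProperty.cancel_left_of_respectsIso (P := @IsClosedImmersion)] at hc
  exact hc

/-- Maximal tori of a smooth algebraic group over an algebraically closed field are conjugate. -/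
theorem exists_conjBy_algClosed {k : Type u} [Field k] [IsAlgClosed k] (G : Over (Spec (CommRingCat.of k)))
    [GrpObj G] [Smooth G.hom] [QuasiCompact G.hom] {T₁ T₂ : Over (Spec (CommRingCat.of k))} [GrpObj T₁] [GrpObj T₂]
    (i₁ : T₁ ⟶ G) (i₂ : T₂ ⟶ G) (h₁ : AGF.IsMaxTorus i₁) (h₂ : AGF.IsMaxTorus i₂) :
    ∃ g : 𝟙_ (Over (Spec (CommRingCat.of k))) ⟶ G, SGA3x.ConjBy i₁ i₂ g := by
  obtain ⟨L, gL, j, hj, hjc, hjo, hLc, hLs, hLqc, -⟩ := H19Chev.exists_smooth_idComp G
  letI := gL; haveI := hj; haveI := hjc; haveI := hjo; haveI := hLc; haveI := hLs; haveI := hLqc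
  haveI : Mono j := Over.mono_of_mono_left _
  haveI := h₁.1; haveI := h₁.2.1; haveI := h₂.1; haveI := h₂.2.1
  obtain ⟨v₁, hv₁m, hv₁⟩ := exists_lift_torus j h₁.2.2.1 i₁
  obtain ⟨v₂, hv₂m, hv₂⟩ := exists_lift_torus j h₂.2.2.1 i₂
  haveI := hv₁m; haveI := hv₂m
  haveI : Mono v₁ := mono_of_mono_fac hv₁
  haveI : Mono v₂ := mono_of_mono_fac hv₂
  have m₁ : AGF.IsMaxTorus v₁ := ⟨inferInstance, inferInstance, h₁.2.2.1, fun T' _ b _ _ f hT' hf =>
    h₁.2.2.2 T' (b ≫ j) f hT' (by rw [← Category.assoc, hf, hv₁])⟩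
  have m₂ : AGF.IsMaxTorus v₂ := ⟨inferInstance, inferInstance, h₂.2.2.1, fun T' _ b _ _ f hT' hf =>
    h₂.2.2.2 T' (b ≫ j) f hT' (by rw [← Category.assoc, hf, hv₂])⟩
  obtain ⟨g, φ, hφ⟩ := S8406.result k L T₁ T₂ v₁ v₂ (isMaximalTorus_of_isMaxTorus m₁)
    (isMaximalTorus_of_isMaxTorus m₂)
  refine ⟨g ≫ j, φ, ?_⟩
  rw [← hv₁, ← hv₂, ← Category.assoc φ.hom, ← hφ]
  simp only [MonObj.mul_comp, GrpObj.inv_comp, Category.assoc]

/-- Maximal tori of a separated smooth group are conjugate on an étale neighbourhood of each point. -/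
theorem exists_transporter_cover {G T₁ T₂ : Over S} [GrpObj G] [GrpObj T₁] [GrpObj T₂] [Smooth G.hom] [IsSeparated G.hom]
    [QuasiCompact G.hom] (i₁ : T₁ ⟶ G) (i₂ : T₂ ⟶ G) (h₁ : Red.IsMaximalTorus i₁) (h₂ : Red.IsMaximalTorus i₂) :
    ∃ (Z : Over S) (j : Z ⟶ G), (∀ (X : Over S) (g : X ⟶ G), (∃ z : X ⟶ Z, z ≫ j = g) ↔ TransEq i₁ i₂ g) ∧
      ∀ s : S, ∃ (S' : Scheme.{u}) (e : S' ⟶ S), Etale e ∧ s ∈ Set.range e.base ∧ Nonempty (Over.mk e ⟶ Z) := by
  haveI := h₁.1; haveI := h₁.2.1; haveI := h₂.1; haveI := h₂.2.1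
  have hG : Smooth G.hom := inferInstance
  haveI : LocallyOfFinitePresentation G.hom := inferInstance
  have hm₁ := isMultTypeFT_of_isTorus h₁.2.2.1
  have hm₂ := isMultTypeFT_of_isTorus h₂.2.2.1
  haveI := isClosedImmersion_mono_sep hm₁ i₁
  haveI := isClosedImmersion_mono_sep hm₂ i₂
  haveI : LocallyOfFinitePresentation i₁.left := by
    haveI : LocallyOfFinitePresentation (i₁.left ≫ G.hom) := by rw [Over.w i₁]; exact lfp_of_multTypeFT hm₁
    exact H12AlgSp.lfp_of_comp _ G.hom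
  haveI : LocallyOfFinitePresentation i₂.left := by
    haveI : LocallyOfFinitePresentation (i₂.left ≫ G.hom) := by rw [Over.w i₂]; exact lfp_of_multTypeFT hm₂
    exact H12AlgSp.lfp_of_comp _ G.hom
  have hd₁ := isDiagLoc_of_isMultTypeFT hm₁
  have hd₂ := isDiagLoc_of_isMultTypeFT hm₂
  obtain ⟨Z, j, hj, hjf, hiff⟩ := exists_transEq hd₁ hd₂ i₁ i₂
  have hsm : Smooth Z.hom := smooth_of_lifting j hG fun A _ I hI b g₀ hg₀ => by
    obtain ⟨g, hg, hgl⟩ := exists_lift_transEq b hd₁ hd₂ hG i₁ i₂ I hI g₀ ((hiff _ g₀).mp hg₀)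
    exact ⟨g, (hiff _ g).mpr hg, hgl⟩
  refine ⟨Z, j, hiff, fun s => ?_⟩
  let v := Red.geomPt s
  haveI := (Over.mapPullbackAdj v).isRightAdjoint
  haveI : Smooth (Red.bc v G).hom := MorphismProperty.pullback_snd (P := @Smooth) _ _ hG
  haveI : QuasiCompact (Red.bc v G).hom := MorphismProperty.pullback_snd (P := @QuasiCompact) _ _ inferInstance
  obtain ⟨gK, φ, hφ⟩ := exists_conjBy_algClosed (Red.bc v G) ((Over.pullback v).map i₁) ((Over.pullback v).map i₂)
    ⟨H21Diag.isMonHom_map v i₁, inferInstance, isTorus_bc h₁.2.2.1 v, h₁.2.2.2 s⟩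
    ⟨H21Diag.isMonHom_map v i₂, inferInstance, isTorus_bc h₂.2.2.1 v, h₂.2.2.2 s⟩
  let o : Over.mk v ≅ (Over.map v).obj (𝟙_ (Over (Spec (CommRingCat.of (AlgebraicClosure (S.residueField s)))))) :=
    Over.isoMk (Iso.refl _) (by
      change 𝟙 _ ≫ 𝟙 _ ≫ v = v
      rw [Category.id_comp, Category.id_comp])
  let g₀ : Over.mk v ⟶ G := o.hom ≫ (bcEquiv v G _).symm gK
  have hg₀ : TransEq i₁ i₂ g₀ := fun X p => by
    let P : Over (Spec (CommRingCat.of (AlgebraicClosure (S.residueField s)))) := Over.mk p.left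
    let d : X ≅ (Over.map v).obj P := Over.isoMk (Iso.refl _) (by
      change 𝟙 _ ≫ p.left ≫ v = X.hom
      rw [Category.id_comp]
      exact Over.w p)
    have hp : p ≫ g₀ = d.hom ≫ (bcEquiv v G P).symm (toUnit P ≫ gK) := by
      rw [show (bcEquiv v G P).symm (toUnit P ≫ gK) = (Over.map v).map (toUnit P) ≫ (bcEquiv v G _).symm gK from
        (Over.mapPullbackAdj v).homEquiv_naturality_left_symm _ _]
      simp only [g₀, ← Category.assoc]
      congr 1
    have nat : ∀ {T : Over S} (i : T ⟶ G) (y : P ⟶ Red.bc v T),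
        (bcEquiv v G P).symm (y ≫ (Over.pullback v).map i) = (bcEquiv v T P).symm y ≫ i :=
      fun i y => (Over.mapPullbackAdj v).homEquiv_naturality_right_symm y i
    constructor
    · intro a
      let a' : P ⟶ Red.bc v T₁ := bcEquiv v T₁ P (d.inv ≫ a)
      have h := congrArg (fun m => d.hom ≫ (bcEquiv v G P).symm (a' ≫ m)) hφ
      simp only [MonObj.comp_mul, GrpObj.comp_inv, ← Category.assoc a', toUnit_unique (a' ≫ toUnit _) (toUnit P)] at h
      refine ⟨d.hom ≫ (bcEquiv v T₂ P).symm (a' ≫ φ.hom), ?_⟩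
      have e1 : a ≫ i₁ = d.hom ≫ (bcEquiv v G P).symm (a' ≫ (Over.pullback v).map i₁) := by
        rw [nat, show (bcEquiv v T₁ P).symm a' = d.inv ≫ a from (bcEquiv v T₁ P).symm_apply_apply _,
          Category.assoc, Iso.hom_inv_id_assoc]
      rw [Category.assoc, ← nat, ← h, hp, e1]
      change _ = d.hom ≫ bcHom v G P (_ * _ * _⁻¹)
      simp only [map_mul, map_inv, MonObj.comp_mul, GrpObj.comp_inv]
      rfl
    · intro b
      let b' : P ⟶ Red.bc v T₂ := bcEquiv v T₂ P (d.inv ≫ b)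
      have h := congrArg (fun m => d.hom ≫ (bcEquiv v G P).symm ((b' ≫ φ.inv) ≫ m)) hφ
      simp only [MonObj.comp_mul, GrpObj.comp_inv, ← Category.assoc (b' ≫ φ.inv),
        toUnit_unique ((b' ≫ φ.inv) ≫ toUnit _) (toUnit P), Category.assoc b' φ.inv φ.hom, Iso.inv_hom_id,
        Category.comp_id] at h
      refine ⟨d.hom ≫ (bcEquiv v T₁ P).symm (b' ≫ φ.inv), ?_⟩
      have e2 : b ≫ i₂ = d.hom ≫ (bcEquiv v G P).symm (b' ≫ (Over.pullback v).map i₂) := by
        rw [nat, show (bcEquiv v T₂ P).symm b' = d.inv ≫ b from (bcEquiv v T₂ P).symm_apply_apply _,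
          Category.assoc, Iso.hom_inv_id_assoc]
      rw [Category.assoc, ← nat, e2, ← h, hp]
      change _⁻¹ * (d.hom ≫ bcHom v G P (_ * _ * _⁻¹)) * _ = _
      simp only [map_mul, map_inv, MonObj.comp_mul, GrpObj.comp_inv]
      change (d.hom ≫ bcHom v G P _)⁻¹ * _ * (d.hom ≫ bcHom v G P _) = _
      group
      rfl
  obtain ⟨z, -⟩ := (hiff _ g₀).mpr hg₀
  let x₀ : Spec (CommRingCat.of (AlgebraicClosure (S.residueField s))) := IsLocalRing.closedPoint _
  obtain ⟨S', e, he, hse, ⟨σ⟩⟩ := exists_etale_point hsm z x₀ s (by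
    change (S.fromSpecResidueField s).base _ = s
    exact Scheme.fromSpecResidueField_apply _ _)
  exact ⟨S', e, he, hse, ⟨σ⟩⟩

/-- Maximal tori of a separated smooth group are conjugate étale locally. -/
theorem exists_conjBy_etaleCover {G T₁ T₂ : Over S} [GrpObj G] [GrpObj T₁] [GrpObj T₂] [Smooth G.hom]
    [IsSeparated G.hom] [QuasiCompact G.hom] (i₁ : T₁ ⟶ G) (i₂ : T₂ ⟶ G) (h₁ : Red.IsMaximalTorus i₁)
    (h₂ : Red.IsMaximalTorus i₂) :
    ∃ (S' : Scheme.{u}) (e : S' ⟶ S), Etale e ∧ Surjective e ∧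
      ∃ g : 𝟙_ (Over S') ⟶ Red.bc e G, SGA3x.ConjBy ((Over.pullback e).map i₁) ((Over.pullback e).map i₂) g := by
  obtain ⟨Z, j, hiff, hcov⟩ := exists_transporter_cover i₁ i₂ h₁ h₂
  haveI := h₁.1; haveI := h₁.2.1; haveI := h₂.1; haveI := h₂.2.1
  choose X e he hse hsec using hcov
  let σ₀ := fun s => (hsec s).some
  let e' : (∐ X) ⟶ S := Sigma.desc e
  haveI : ∀ s, Etale (e s) := he
  have he' : Etale e' := IsZariskiLocalAtSource.sigmaDesc (P := @Etale) he
  haveI : Surjective e' := ⟨fun s => by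
    obtain ⟨x, hx⟩ := hse s
    refine ⟨Sigma.ι X s x, ?_⟩
    rw [← Scheme.Hom.comp_apply, Sigma.ι_desc]
    exact hx⟩
  let σ : Over.mk e' ⟶ Z := Over.homMk (Sigma.desc fun s => (σ₀ s).left) (Sigma.hom_ext _ _ fun s => by
    simp only [Sigma.ι_desc_assoc, Over.mk_hom, e', Sigma.ι_desc]
    exact Over.w (σ₀ s))
  have hσ := (hiff _ (σ ≫ j)).mp ⟨σ, rfl⟩
  let g := sectionOf e' (σ ≫ j)
  have hbg : ∀ (Y : Over (∐ X)), bcHom e' G Y (toUnit Y ≫ g) =
      ((Over.map e').map (toUnit Y) ≫ Over.homMk (𝟙 _) (Category.id_comp e')) ≫ σ ≫ j :=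
    bcHom_toUnit_sectionOf e' (σ ≫ j)
  obtain ⟨a, ha⟩ := (hσ ((Over.map e').obj (Red.bc e' T₁))
    ((Over.map e').map (toUnit _) ≫ Over.homMk (𝟙 _) (Category.id_comp e'))).1 (bcHom e' T₁ _ (𝟙 _))
  obtain ⟨b, hb⟩ := (hσ ((Over.map e').obj (Red.bc e' T₂))
    ((Over.map e').map (toUnit _) ≫ Over.homMk (𝟙 _) (Category.id_comp e'))).2 (bcHom e' T₂ _ (𝟙 _))
  let φ : Red.bc e' T₁ ⟶ Red.bc e' T₂ := bcEquiv e' T₂ _ a
  let ψ : Red.bc e' T₂ ⟶ Red.bc e' T₁ := bcEquiv e' T₁ _ b
  have hφ : (toUnit (Red.bc e' T₁) ≫ g) * (Over.pullback e').map i₁ * (toUnit (Red.bc e' T₁) ≫ g)⁻¹ =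
      φ ≫ (Over.pullback e').map i₂ := by
    refine (bcEquiv e' G (Red.bc e' T₁)).symm.injective ?_
    change bcHom e' G _ _ = bcHom e' G _ _
    rw [map_mul, map_mul, map_inv, hbg, ← Category.id_comp ((Over.pullback e').map i₁), bcHom_comp, bcHom_comp]
    exact ha.trans (congrArg (· ≫ i₂) (Equiv.symm_apply_apply _ _).symm)
  have hψ : (toUnit (Red.bc e' T₂) ≫ g)⁻¹ * (Over.pullback e').map i₂ * (toUnit (Red.bc e' T₂) ≫ g) =
      ψ ≫ (Over.pullback e').map i₁ := by
    refine (bcEquiv e' G (Red.bc e' T₂)).symm.injective ?_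
    change bcHom e' G _ _ = bcHom e' G _ _
    rw [map_mul, map_mul, map_inv, hbg, ← Category.id_comp ((Over.pullback e').map i₂), bcHom_comp, bcHom_comp]
    exact hb.trans (congrArg (· ≫ i₁) (Equiv.symm_apply_apply _ _).symm)
  haveI := (Over.mapPullbackAdj e').isRightAdjoint
  refine ⟨_, e', he', inferInstance, g, ⟨φ, ψ, ?_, ?_⟩, hφ⟩
  · rw [← cancel_mono ((Over.pullback e').map i₁ : Red.bc e' T₁ ⟶ Red.bc e' G), Category.assoc, ← hψ,
      MonObj.comp_mul, MonObj.comp_mul, GrpObj.comp_inv, ← hφ, ← Category.assoc,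
      toUnit_unique (φ ≫ toUnit _) (toUnit (Red.bc e' T₁)), Category.id_comp]
    group
  · rw [← cancel_mono ((Over.pullback e').map i₂ : Red.bc e' T₂ ⟶ Red.bc e' G), Category.assoc, ← hφ,
      MonObj.comp_mul, MonObj.comp_mul, GrpObj.comp_inv, ← hψ, ← Category.assoc,
      toUnit_unique (ψ ≫ toUnit _) (toUnit (Red.bc e' T₂)), Category.id_comp]
    group

end Groth.Agent.LeadTorus
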