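import Groth.Agent.H20OT.SubMu
import Groth.Agent.H20OT.OrderP
import Mathlib.RingTheory.HopfAlgebra.Quotient

/-!
# The finite subgroup cut out by a finite-dimensional algebra of functionals
-/

set_option autoImplicit false
set_option linter.style.haveILetI false
set_option backward.isDefEq.respectTransparency false
set_option maxHeartbeats 1000000

universe u

open TensorProduct WithConv Coalgebra
open Groth.Agent.H20OT

noncomputable section

namespace Groth.Agent.LeadTorus

variable {k : Type u} [Field k] {A : Type u} [CommRing A] [HopfAlgebra k A]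

/-- The functions killed by all the given functionals. -/
def ann (B : Subalgebra k (WithConv (A →ₗ[k] k))) : Submodule k A where
  carrier := {a | ∀ f ∈ B, f.ofConv a = 0}
  add_mem' := fun ha hb f hf => by rw [map_add, ha f hf, hb f hf, add_zero]
  zero_mem' := fun f _ => map_zero _
  smul_mem' := fun c a ha f hf => by rw [map_smul, ha f hf, smul_zero]

theorem mem_ann (B : Subalgebra k (WithConv (A →ₗ[k] k))) (a : A) : a ∈ ann B ↔ ∀ f ∈ B, f.ofConv a = 0 := Iff.rfl

/-- The functionals on products split over the algebra. -/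
def Splits (B : Subalgebra k (WithConv (A →ₗ[k] k))) : Prop :=
  ∀ f ∈ B, preMul k A f ∈ Algebra.adjoin k (iFst k A '' (B : Set (WithConv (A →ₗ[k] k))) ∪
    iSnd k A '' (B : Set (WithConv (A →ₗ[k] k))))

theorem mul_mem_ann {B : Subalgebra k (WithConv (A →ₗ[k] k))} (hB : Splits B) (a : A) {b : A} (hb : b ∈ ann B) :
    a * b ∈ ann B := by
  intro f hf
  let S : Set (WithConv (A ⊗[k] A →ₗ[k] k)) := {F | ∃ g ∈ B, ∃ h ∈ B, iFst k A g * iSnd k A h = F}
  have hone : (1 : WithConv (A ⊗[k] A →ₗ[k] k)) ∈ Submodule.span k S :=
    Submodule.subset_span ⟨1, one_mem _, 1, one_mem _, by rw [map_one, map_one, one_mul]⟩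
  have hmul : ∀ F G, F ∈ Submodule.span k S → G ∈ Submodule.span k S → F * G ∈ Submodule.span k S := by
    intro F G hF hG
    induction hF using Submodule.span_induction with
    | zero => rw [zero_mul]; exact zero_mem _
    | add x y _ _ hx hy => rw [add_mul]; exact add_mem hx hy
    | smul c x _ hx => rw [smul_mul_assoc]; exact Submodule.smul_mem _ _ hx
    | mem F hF =>
      induction hG using Submodule.span_induction with
      | zero => rw [mul_zero]; exact zero_mem _
      | add x y _ _ hx hy => rw [mul_add]; exact add_mem hx hy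
      | smul c x _ hx => rw [mul_smul_comm]; exact Submodule.smul_mem _ _ hx
      | mem G hG =>
        obtain ⟨g, hg, h, hh, rfl⟩ := hF
        obtain ⟨g', hg', h', hh', rfl⟩ := hG
        refine Submodule.subset_span ⟨g * g', mul_mem hg hg', h * h', mul_mem hh hh', ?_⟩
        rw [map_mul, map_mul, mul_assoc, ← mul_assoc (iFst k A g'), (commute_iFst_iSnd g' h).eq]
        simp only [mul_assoc]
  have hle : Algebra.adjoin k (iFst k A '' (B : Set (WithConv (A →ₗ[k] k))) ∪
      iSnd k A '' (B : Set (WithConv (A →ₗ[k] k)))) ≤ (Submodule.span k S).toSubalgebra hone hmul := by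
    refine Algebra.adjoin_le ?_
    rintro _ (⟨g, hg, rfl⟩ | ⟨g, hg, rfl⟩)
    · exact Submodule.subset_span ⟨g, hg, 1, one_mem _, by rw [map_one, mul_one]⟩
    · exact Submodule.subset_span ⟨1, one_mem _, g, hg, by rw [map_one, one_mul]⟩
  have key : ∀ F ∈ Submodule.span k S, F.ofConv (a ⊗ₜ b) = 0 := by
    intro F hF
    induction hF using Submodule.span_induction with
    | zero => rfl
    | add x y _ _ hx hy => rw [ofConv_add, LinearMap.add_apply, hx, hy, add_zero]
    | smul c x _ hx => rw [ofConv_smul, LinearMap.smul_apply, hx, smul_zero]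
    | mem F hF =>
      obtain ⟨g, hg, h, hh, rfl⟩ := hF
      rw [iFst_mul_iSnd, hb h hh, mul_zero]
  rw [← preMul_tmul]
  exact key _ (hle (hB f hf))

/-- A finite commutative algebra of functionals, stable under the antipode and splitting products, is the dual
algebra of a finite quotient Hopf algebra. -/
theorem exists_quotient (B : Subalgebra k (WithConv (A →ₗ[k] k))) [FiniteDimensional k B]
    (hB : Splits B) (hS : ∀ f ∈ B, toConv (f.ofConv ∘ₗ HopfAlgebra.antipode k) ∈ B)
    (hcomm : ∀ f ∈ B, ∀ g ∈ B, f * g = g * f) :
    ∃ (C : Type u) (_ : CommRing C) (_ : HopfAlgebra k C) (φ : A →ₐc[k] C),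
      Function.Surjective φ ∧ FiniteDimensional k C ∧ Coalgebra.IsCocomm k C ∧
      ∃ e : CartDual.D k C ≃ₐ[k] B, ∀ d a, (e d).1.ofConv a = d.ofConv (φ a) := by
  classical
  haveI hfree : Module.Free k B := Module.Free.of_divisionRing k B
  haveI : FiniteDimensional k (Module.Dual k B) := Module.Finite.linearMap k k B k
  let J : Ideal A :=
    { carrier := ann B
      add_mem' := fun ha hb => (ann B).add_mem ha hb
      zero_mem' := (ann B).zero_mem
      smul_mem' := fun a _ hb => mul_mem_ann hB a hb }
  let q : A →ₗ[k] A ⧸ J := (Ideal.Quotient.mkₐ k J).toLinearMap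
  have hq : ∀ a, q a = 0 ↔ ∀ f ∈ B, f.ofConv a = 0 := fun a => Ideal.Quotient.eq_zero_iff_mem
  -- evaluation on the quotient
  have hlift : ∀ f : B, ∀ x ∈ (J.restrictScalars k), f.1.ofConv x = 0 := fun f x hx => hx f.1 f.2
  let ev : (A ⧸ J.restrictScalars k) →ₗ[k] Module.Dual k B :=
    (J.restrictScalars k).liftQ
      { toFun := fun a =>
          { toFun := fun f => f.1.ofConv a
            map_add' := fun f g => LinearMap.add_apply _ _ _
            map_smul' := fun c f => rfl }
        map_add' := fun a b => LinearMap.ext fun f => map_add f.1.ofConv a b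
        map_smul' := fun c a => LinearMap.ext fun f => map_smul f.1.ofConv c a }
      fun x hx => LinearMap.ext fun f => hlift f x hx
  have hev : Function.Injective ev := (injective_iff_map_eq_zero _).2 fun x hx => by
    induction x using Submodule.Quotient.induction_on with
    | H a => exact (Submodule.Quotient.mk_eq_zero _).2 fun f hf => LinearMap.congr_fun hx ⟨f, hf⟩
  haveI : FiniteDimensional k (A ⧸ J.restrictScalars k) := FiniteDimensional.of_injective ev hev
  let eq' : (A ⧸ J.restrictScalars k) ≃ₗ[k] A ⧸ J := Submodule.Quotient.restrictScalarsEquiv k J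
  haveI : FiniteDimensional k (A ⧸ J) := eq'.finiteDimensional
  have hco : (J.restrictScalars k).IsCoideal := by
    refine { counit_eq_zero := fun x hx => ?_, map_mkQ_comul_eq_zero := fun x hx => ?_ }
    · have h := hx 1 (one_mem _)
      rwa [LinearMap.convOne_apply, Algebra.algebraMap_self, RingHom.id_apply] at h
    · refine (Module.forall_dual_apply_eq_zero_iff k _).mp fun χ => ?_
      obtain ⟨w, rfl⟩ := (CartDual.dualTensorEquiv k _ _).surjective χ
      induction w using TensorProduct.induction_on with
      | zero => simp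
      | add u v hu hv => simp only [map_add, LinearMap.add_apply, hu, hv, add_zero]
      | tmul φ ψ =>
        obtain ⟨f, hf⟩ := (LinearMap.dualMap_surjective_of_injective hev) φ
        obtain ⟨g, hg⟩ := (LinearMap.dualMap_surjective_of_injective hev) ψ
        obtain ⟨f, rfl⟩ := (Module.evalEquiv k B).surjective f
        obtain ⟨g, rfl⟩ := (Module.evalEquiv k B).surjective g
        have h1 : ∀ t : A ⊗[k] A, CartDual.dualTensorEquiv k _ _ (φ ⊗ₜ ψ)
            (TensorProduct.map (J.restrictScalars k).mkQ (J.restrictScalars k).mkQ t) =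
            LinearMap.mul' k k (TensorProduct.map f.1.ofConv g.1.ofConv t) := by
          intro t
          induction t using TensorProduct.induction_on with
          | zero => simp
          | add u v hu hv => simp only [map_add, hu, hv]
          | tmul a b =>
            rw [← hf, ← hg]
            simp [ev]
        rw [h1, show LinearMap.mul' k k (TensorProduct.map f.1.ofConv g.1.ofConv (comul x)) = (f.1 * g.1).ofConv x
          from rfl]
        exact hx _ (mul_mem f.2 g.2)
  haveI : J.IsHopfIdeal k :=
    { hco with antipode_mem := fun x hx f hf => hx _ (hS f hf) }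
  let φ : A →ₐc[k] A ⧸ J := Bialgebra.Quotient.mkBialgHom J
  have hφ : Function.Surjective φ := Ideal.Quotient.mk_surjective
  -- the dual algebra
  let pre : CartDual.D k (A ⧸ J) →ₐ[k] WithConv (A →ₗ[k] k) :=
    AlgHom.ofLinearMap
      { toFun := fun d => toConv (d.ofConv ∘ₗ (φ : A →ₗc[k] A ⧸ J).toLinearMap)
        map_add' := fun d d' => WithConv.ofConv_injective (LinearMap.ext fun a => rfl)
        map_smul' := fun c d => WithConv.ofConv_injective (LinearMap.ext fun a => rfl) }
      (WithConv.ofConv_injective (LinearMap.ext fun a => by simp [LinearMap.convOne_apply, φ]))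
      (fun d d' => WithConv.ofConv_injective
        (LinearMap.convMul_comp_coalgHom_distrib d d' (φ : A →ₗc[k] A ⧸ J)))
  have hpre_inj : Function.Injective pre := fun d d' h => WithConv.ofConv_injective (LinearMap.ext fun x => by
    obtain ⟨a, rfl⟩ := hφ x
    exact LinearMap.congr_fun (congrArg WithConv.ofConv h) a)
  have hrange : pre.range = B := by
    refine le_antisymm ?_ fun f hf => ⟨toConv (Submodule.liftQ _ f.ofConv (hlift ⟨f, hf⟩) ∘ₗ eq'.symm.toLinearMap), ?_⟩
    · rintro _ ⟨d, rfl⟩
      obtain ⟨ψ, hψ⟩ := (LinearMap.dualMap_surjective_of_injective hev) (d.ofConv ∘ₗ eq'.toLinearMap)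
      obtain ⟨b, rfl⟩ := (Module.evalEquiv k B).surjective ψ
      convert b.2 using 1
      refine WithConv.ofConv_injective (LinearMap.ext fun a => ?_)
      have h := LinearMap.congr_fun hψ (Submodule.Quotient.mk a)
      simp [ev] at h
      show d.ofConv (φ a) = _
      rw [h]
      rfl
    · refine WithConv.ofConv_injective (LinearMap.ext fun a => ?_)
      rfl
  haveI : Coalgebra.IsCocomm k (A ⧸ J) := isCocomm_of_dual_comm fun d d' => hpre_inj (by
    rw [map_mul, map_mul]
    exact hcomm _ (hrange.le ⟨d, rfl⟩) _ (hrange.le ⟨d', rfl⟩))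
  refine ⟨A ⧸ J, inferInstance, inferInstance, φ, hφ, inferInstance, inferInstance,
    (AlgEquiv.ofInjective pre hpre_inj).trans (Subalgebra.equivOfEq _ _ hrange), fun d a => rfl⟩

end Groth.Agent.LeadTorus
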