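import Groth.Agent.LeadTorus.PointDer
import Groth.Agent.H19Chev.CoradSplit
import Mathlib.Algebra.MvPolynomial.Funext
import Mathlib.LinearAlgebra.TensorProduct.RightExactness
import Mathlib.RingTheory.TensorProduct.MvPolynomial

/-!
# Powers of point derivations after an extension of an infinite field
-/

set_option autoImplicit false
set_option linter.style.haveILetI false
set_option backward.isDefEq.respectTransparency false
set_option maxHeartbeats 1000000

universe u

open TensorProduct WithConv Coalgebra
open Groth.Agent.H20OT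

noncomputable section

namespace Groth.Agent.LeadTorus

section Identity

variable {k : Type u} [Field k] [Infinite k] {E : Type u} [Ring E] [Algebra k E] {σ : Type u} [Fintype σ]

/-- A power of the general member of a linear system which lies in a subspace at all rational parameters lies in it
at all parameters. -/
theorem pow_mem_baseChange (W : Submodule k E) (n : ℕ) (δ : σ → E) (h : ∀ c : σ → k, (∑ i, c i • δ i) ^ n ∈ W)
    (K : Type u) [Field K] [Algebra k K] (c : σ → K) :
    (∑ i, c i ⊗ₜ[k] δ i) ^ n ∈ W.baseChange K := by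
  classical
  let P := MvPolynomial σ k
  let x : P ⊗[k] E := (∑ i, (MvPolynomial.X i : P) ⊗ₜ[k] δ i) ^ n
  let z : P ⊗[k] (E ⧸ W) := LinearMap.lTensor P W.mkQ x
  have hev : ∀ (L : Type u) [CommRing L] [Algebra k L] (d : σ → L),
      (MvPolynomial.aeval (R := k) d).toLinearMap.rTensor (E ⧸ W) z =
        LinearMap.lTensor L W.mkQ ((∑ i, d i ⊗ₜ[k] δ i) ^ n) := by
    intro L _ _ d
    have hx : Algebra.TensorProduct.map (MvPolynomial.aeval (R := k) d) (AlgHom.id k E) x =
        (∑ i, d i ⊗ₜ[k] δ i) ^ n := by
      rw [map_pow, map_sum]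
      simp [Algebra.TensorProduct.map_tmul]
    rw [← hx]
    show LinearMap.rTensor _ _ (LinearMap.lTensor _ _ x) = _
    induction x using TensorProduct.induction_on with
    | zero => simp
    | tmul a b => rfl
    | add a b ha hb => simp only [map_add, ha, hb]
  have hz : z = 0 := by
    let b := Module.Free.chooseBasis k (E ⧸ W)
    refine (TensorProduct.equivFinsuppOfBasisRight b).injective ?_
    rw [map_zero]
    refine Finsupp.ext fun j => ?_
    rw [Finsupp.zero_apply]
    refine MvPolynomial.funext fun d => ?_
    rw [map_zero]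
    have h1 := hev k d
    rw [show (∑ i, d i ⊗ₜ[k] δ i) = (1 : k) ⊗ₜ[k] (∑ i, d i • δ i) by
      rw [TensorProduct.tmul_sum]
      refine Finset.sum_congr rfl fun i _ => ?_
      rw [← TensorProduct.smul_tmul, smul_eq_mul, mul_one],
      Algebra.TensorProduct.tmul_pow, one_pow, LinearMap.lTensor_tmul, Submodule.mkQ_apply,
      (Submodule.Quotient.mk_eq_zero W).2 (h d), tmul_zero] at h1
    have hcoord : ∀ w : P ⊗[k] (E ⧸ W), MvPolynomial.aeval (R := k) d (TensorProduct.equivFinsuppOfBasisRight b w j) =
        TensorProduct.equivFinsuppOfBasisRight b ((MvPolynomial.aeval (R := k) d).toLinearMap.rTensor (E ⧸ W) w) j := by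
      intro w
      induction w using TensorProduct.induction_on with
      | zero => simp
      | tmul p q => simp [TensorProduct.equivFinsuppOfBasisRight_apply_tmul_apply, mul_comm]
      | add p q hp hq => simp only [map_add, Finsupp.add_apply, hp, hq]
    show MvPolynomial.aeval d _ = _
    rw [hcoord, h1, map_zero, Finsupp.zero_apply]
  have h2 := hev K c
  rw [hz, map_zero] at h2
  have hex := (lTensor_exact K (f := W.subtype) (g := W.mkQ) (LinearMap.exact_subtype_mkQ W)
    W.mkQ_surjective) ((∑ i, c i ⊗ₜ[k] δ i) ^ n)
  obtain ⟨w, hw⟩ := hex.1 h2.symm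
  rw [← hw]
  clear hw
  induction w using TensorProduct.induction_on with
  | zero => simp
  | tmul a b => exact Submodule.tmul_mem_baseChange_of_mem a b.2
  | add a b ha hb => rw [map_add]; exact add_mem ha hb

end Identity

section BaseChange

variable {k : Type u} [Field k] {A : Type u} [CommRing A] [HopfAlgebra k A] (K : Type u) [Field K] [Algebra k K]

open Groth.Agent.H19Chev.CoradSplit

theorem extK_counit : extK K (Coalgebra.counit : A →ₗ[k] k) = (Coalgebra.counit : K ⊗[k] A →ₗ[K] K) := by
  refine TensorProduct.AlgebraTensorModule.curry_injective (LinearMap.ext_ring (LinearMap.ext fun a => ?_))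
  show extK K _ ((1 : K) ⊗ₜ[k] a) = Coalgebra.counit (R := K) ((1 : K) ⊗ₜ[k] a)
  rw [extK_tmul, TensorProduct.counit_tmul, CommSemiring.counit_apply]

/-- Functionals extended to a bigger field. -/
def extAlg : WithConv (A →ₗ[k] k) →ₐ[k] WithConv (K ⊗[k] A →ₗ[K] K) :=
  AlgHom.ofLinearMap
    { toFun := fun f => toConv (extK K f.ofConv)
      map_add' := fun f g => WithConv.ofConv_injective (TensorProduct.AlgebraTensorModule.curry_injective
        (LinearMap.ext_ring (LinearMap.ext fun a => by simp [extK, add_smul])))
      map_smul' := fun c f => WithConv.ofConv_injective (TensorProduct.AlgebraTensorModule.curry_injective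
        (LinearMap.ext_ring (LinearMap.ext fun a => by simp [extK, TensorProduct.smul_tmul', smul_smul, mul_comm]))) }
    (WithConv.ofConv_injective (TensorProduct.AlgebraTensorModule.curry_injective
      (LinearMap.ext_ring (LinearMap.ext fun a => by
        simp [extK, LinearMap.convOne_apply, Algebra.smul_def]))))
    (fun f g => WithConv.ofConv_injective (extK_conv K f.ofConv g.ofConv))

theorem extAlg_tmul (f : WithConv (A →ₗ[k] k)) (c : K) (a : A) :
    (extAlg K f).ofConv (c ⊗ₜ[k] a) = f.ofConv a • c := extK_tmul K f.ofConv c a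

theorem extAlg_one_tmul (f : WithConv (A →ₗ[k] k)) (a : A) :
    (extAlg K f).ofConv ((1 : K) ⊗ₜ[k] a) = algebraMap k K (f.ofConv a) := by
  rw [extAlg_tmul, Algebra.smul_def, mul_one]

theorem extAlg_mem_derSpace {f : WithConv (A →ₗ[k] k)} (hf : f ∈ derSpace k A) :
    extAlg K f ∈ derSpace K (K ⊗[k] A) := by
  intro x y
  induction x using TensorProduct.induction_on with
  | zero => simp
  | add x x' hx hx' => simp only [add_mul, map_add, hx, hx']; ring
  | tmul c a =>
    induction y using TensorProduct.induction_on with
    | zero => simp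
    | add y y' hy hy' => simp only [mul_add, map_add, hy, hy']; ring
    | tmul d b =>
      rw [Algebra.TensorProduct.tmul_mul_tmul, extAlg_tmul, extAlg_tmul, extAlg_tmul, TensorProduct.counit_tmul,
        TensorProduct.counit_tmul, CommSemiring.counit_apply, CommSemiring.counit_apply, mem_derSpace.1 hf a b]
      simp only [Algebra.smul_def, map_add, map_mul]
      ring

theorem counit_tmul_eq (c : K) (a : A) :
    Coalgebra.counit (R := K) (c ⊗ₜ[k] a) = algebraMap k K (Coalgebra.counit (R := k) a) * c := by
  rw [TensorProduct.counit_tmul, CommSemiring.counit_apply, Algebra.smul_def]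

theorem surjective_pi_of_linearIndependent {σ : Type u} [Fintype σ] {f : σ → A →ₗ[k] k} (hf : LinearIndependent k f) :
    Function.Surjective fun (a : A) => fun i => f i a := by
  classical
  let L : A →ₗ[k] σ → k := LinearMap.pi f
  show Function.Surjective L
  rw [← LinearMap.range_eq_top]
  by_contra hne
  obtain ⟨φ, hφ, hφL⟩ := Submodule.exists_dual_map_eq_bot_of_lt_top (lt_top_iff_ne_top.2 hne) inferInstance
  refine hφ ?_
  have h0 : ∑ i, φ (Pi.single i 1) • f i = 0 := LinearMap.ext fun a => by
    have h1 : φ (L a) = 0 := by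
      have : φ (L a) ∈ (LinearMap.range L).map φ := Submodule.mem_map_of_mem ⟨a, rfl⟩
      rwa [hφL] at this
    rw [pi_eq_sum_univ' (L a), map_sum] at h1
    rw [LinearMap.sum_apply, LinearMap.zero_apply]
    refine Eq.trans (Finset.sum_congr rfl fun i _ => ?_) h1
    simp [L, mul_comm]
  have hc := Fintype.linearIndependent_iff.1 hf _ h0
  refine LinearMap.ext fun v => ?_
  rw [pi_eq_sum_univ' v, map_sum, LinearMap.zero_apply]
  exact Finset.sum_eq_zero fun i _ => by rw [map_smul, hc i, smul_zero]

theorem linearIndependent_basis_comp {V W : Type u} [AddCommGroup V] [Module k V] [AddCommGroup W] [Module k W]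
    (D : Submodule k V) {σ : Type u} (b : Module.Basis σ k D) (L : V →ₗ[k] W) (hL : Function.Injective L) :
    LinearIndependent k fun i => L (b i).1 :=
  b.linearIndependent.map' (L.comp D.subtype) (LinearMap.ker_eq_bot.2 (hL.comp Subtype.val_injective))

/-- The point derivations over a bigger field are spanned by those over the small one. -/
theorem mem_span_extAlg [Algebra.FiniteType k A] {e : WithConv (K ⊗[k] A →ₗ[K] K)} (he : e ∈ derSpace K (K ⊗[k] A))
    {σ : Type u} [Fintype σ] (b : Module.Basis σ k (derSpace k A)) :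
    ∃ c : σ → K, e = ∑ i, c i • extAlg K (b i).1 := by
  classical
  have hli : LinearIndependent k fun i => (b i).1.ofConv :=
    linearIndependent_basis_comp (derSpace k A) b
      { toFun := WithConv.ofConv, map_add' := fun _ _ => rfl, map_smul' := fun _ _ => rfl } WithConv.ofConv_injective
  have hsurj := surjective_pi_of_linearIndependent hli
  choose a ha using fun i => hsurj (Pi.single i 1)
  refine ⟨fun i => e.ofConv ((1 : K) ⊗ₜ[k] a i), ?_⟩
  refine WithConv.ofConv_injective (TensorProduct.AlgebraTensorModule.curry_injective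
    (LinearMap.ext_ring (LinearMap.ext fun x => ?_)))
  show e.ofConv ((1 : K) ⊗ₜ[k] x) = (∑ i, e.ofConv ((1 : K) ⊗ₜ[k] a i) • extAlg K (b i).1).ofConv ((1 : K) ⊗ₜ[k] x)
  simp only [WithConv.ofConv_sum, LinearMap.sum_apply, WithConv.ofConv_smul, LinearMap.smul_apply, extAlg_one_tmul,
    smul_eq_mul]
  let y := x - ∑ i, (b i).1.ofConv x • a i
  have hy : ∀ d ∈ derSpace k A, d.ofConv y = 0 := by
    intro d hd
    have hb : ∀ i, (b i).1.ofConv y = 0 := fun i => by
      simp only [y, map_sub, map_sum, map_smul, smul_eq_mul]
      rw [Finset.sum_eq_single i (fun j _ hj => ?_) (by simp)]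
      · rw [show (b i).1.ofConv (a i) = 1 from (congrFun (ha i) i).trans (Pi.single_eq_same i 1), mul_one, sub_self]
      · rw [show (b i).1.ofConv (a j) = 0 from (congrFun (ha j) i).trans (Pi.single_eq_of_ne (Ne.symm hj) 1),
          mul_zero]
    have hsum : ∑ i, b.repr ⟨d, hd⟩ i • (b i).1 = d := by
      have h := congrArg (derSpace k A).subtype (b.sum_repr ⟨d, hd⟩)
      rw [map_sum] at h
      simpa using h
    rw [← hsum, WithConv.ofConv_sum, LinearMap.sum_apply]
    exact Finset.sum_eq_zero fun i _ => by rw [WithConv.ofConv_smul, LinearMap.smul_apply, hb, smul_zero]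
  -- a functional killing `1` and the squares of the augmentation ideal is a derivation
  let U : Submodule k A := Submodule.span k ({1} ∪ {z | ∃ p q : A, Coalgebra.counit (R := k) p = 0 ∧
    Coalgebra.counit (R := k) q = 0 ∧ z = p * q})
  have hyU : y ∈ U := by
    by_contra hyU
    obtain ⟨f, hfy, hfU⟩ := Submodule.exists_le_ker_of_notMem hyU
    refine hfy (hy (toConv f) fun p q => ?_)
    have hU : ∀ z ∈ U, f z = 0 := fun z hz => hfU hz
    have h1 : f 1 = 0 := hU 1 (Submodule.subset_span (Or.inl rfl))
    have h2 := hU ((p - algebraMap k A (Coalgebra.counit (R := k) p)) * (q - algebraMap k A (Coalgebra.counit (R := k) q)))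
      (Submodule.subset_span (Or.inr ⟨_, _, by simp [Bialgebra.counit_algebraMap],
        by simp [Bialgebra.counit_algebraMap], rfl⟩))
    simp only [sub_mul, mul_sub, map_sub, Algebra.algebraMap_eq_smul_one, smul_mul_assoc, mul_smul_comm,
      one_mul, mul_one, map_smul, smul_eq_mul, h1, mul_zero, sub_zero] at h2
    show f (p * q) = f p * _ + _ * f q
    linear_combination h2
  have hey : e.ofConv ((1 : K) ⊗ₜ[k] y) = 0 := by
    suffices key : ∀ z ∈ U, e.ofConv ((1 : K) ⊗ₜ[k] z) = 0 from key y hyU
    intro z hzU
    induction hzU using Submodule.span_induction with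
    | zero => simp
    | add p q _ _ hp hq => rw [tmul_add, map_add, hp, hq, add_zero]
    | smul c p _ hp => rw [TensorProduct.tmul_smul, LinearMap.map_smul_of_tower, hp, smul_zero]
    | mem z hz =>
      rcases hz with rfl | ⟨p, q, hp, hq, rfl⟩
      · exact pointDer_one (mem_derSpace.1 he)
      · have h := mem_derSpace.1 he ((1 : K) ⊗ₜ[k] p) ((1 : K) ⊗ₜ[k] q)
        rw [Algebra.TensorProduct.tmul_mul_tmul, one_mul] at h
        rw [h, counit_tmul_eq, counit_tmul_eq, hp, hq]
        simp
  have hsplit : x = y + ∑ i, (b i).1.ofConv x • a i := by simp [y]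
  conv_lhs => rw [hsplit, tmul_add, map_add, hey, zero_add, tmul_sum, map_sum]
  refine Finset.sum_congr rfl fun i _ => ?_
  rw [TensorProduct.tmul_smul, LinearMap.map_smul_of_tower, Algebra.smul_def, mul_comm]

end BaseChange

end Groth.Agent.LeadTorus
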