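import Groth.Agent.LeadTorus.ImageField
import Groth.Agent.H21Mono.ImageDescent
import Groth.Agent.H19Grp.SchemImage
import Groth.Agent.S16615

/-!
# The image of a maximal torus
-/

set_option autoImplicit false
set_option linter.style.haveILetI false
set_option linter.unusedSectionVars false
set_option backward.isDefEq.respectTransparency false
set_option maxHeartbeats 4000000
set_option synthInstance.maxHeartbeats 400000

universe u

open CategoryTheory CategoryTheory.Limits MonoidalCategory CartesianMonoidalCategory MonObj AlgebraicGeometry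

noncomputable section

namespace Groth.Agent.LeadTorus

variable {S : Scheme.{u}}

/-- The schematic image of a torus in a separated group is a torus. -/
theorem isTorus_image {T G Q : Over S} [GrpObj T] [GrpObj G] [GrpObj Q] [IsSeparated G.hom] [QuasiCompact G.hom]
    [LocallyOfFinitePresentation G.hom] (hT : Red.IsTorus T) (f : T ⟶ G) [IsMonHom f] (f' : T ⟶ Q)
    [IsSchemeTheoreticallyDominant f'.left] [QuasiCompact f'.left] (i : Q ⟶ G) [IsClosedImmersion i.left]
    [IsMonHom i] (hfi : f' ≫ i = f) : Red.IsTorus Q := by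
  obtain ⟨S', g, hg, hs, hqc, hloc⟩ := hT
  haveI := hg
  refine ⟨S', g, hg, hs, hqc, fun s' => ?_⟩
  obtain ⟨U, hsU, r, ⟨e⟩⟩ := hloc s'
  obtain ⟨V, Λ, hsV, -, -, -, ψ, hψ⟩ := H21Mono.exists_image_chart f f' i hfi (U.ι ≫ g) e ⟨s', hsU⟩
  let t := U.ι ≫ g
  let i₂ : Red.bc V.ι (Red.bc t Q) ⟶ Red.bc V.ι (Red.bc t G) := (Over.pullback V.ι).map ((Over.pullback t).map i)
  haveI : IsMonHom ((Over.pullback t).map i : Red.bc t Q ⟶ Red.bc t G) := H21Diag.isMonHom_bcMap t i
  haveI : IsMonHom i₂ := H21Diag.isMonHom_bcMap V.ι _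
  haveI : IsClosedImmersion ((Over.pullback t).map i).left :=
    MorphismProperty.overPullbackMap (P := @IsClosedImmersion) _ _ ‹_›
  haveI : IsClosedImmersion i₂.left := MorphismProperty.overPullbackMap (P := @IsClosedImmersion) _ _ inferInstance
  haveI : Mono i₂ := Over.mono_of_mono_left _
  haveI := hψ
  haveI : IsMonHom ψ.hom := H21Diag.isMonHom_of_comp_mono ψ.hom i₂
  let Ψ : Grp.mk (Red.bc V.ι (Red.DS (U : Scheme.{u}) Λ)) ≅ Grp.mk (Red.bc V.ι (Red.bc t Q)) := Grp.mkIso' ψ
  obtain ⟨n, ⟨b⟩⟩ := H21Diag.exists_basis r Λ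
  obtain ⟨χ⟩ := H21Diag.nonempty_DS_iso (V : Scheme.{u}) b
  refine ⟨U.ι ''ᵁ V, ⟨⟨s', hsU⟩, hsV, rfl⟩, n, ?_⟩
  exact Groth.Agent.H21Diag.isSplit_comp _ (U.ι.isoImage V).inv (by simp [t])
    ⟨H21Diag.bcCompIso V.ι t Q ≪≫ Ψ.symm ≪≫ H21Diag.bcDSIso V.ι Λ ≪≫ χ⟩

/-- The image of a maximal torus under a fibrewise surjective homomorphism is a maximal torus. -/
theorem exists_image_maximalTorus {G G' T : Over S} [GrpObj G] [GrpObj G'] [GrpObj T]
    [Smooth G.hom] [IsSeparated G.hom] [QuasiCompact G.hom] [Smooth G'.hom] [IsSeparated G'.hom]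
    [QuasiCompact G'.hom] (u : G ⟶ G') [IsMonHom u]
    (hu : ∀ s : S, Surjective ((Over.pullback (Red.geomPt s)).map u).left) (i : T ⟶ G) (hT : Red.IsMaximalTorus i) :
    ∃ (T' : Over S) (_ : GrpObj T') (i' : T' ⟶ G') (v : T ⟶ T'), Red.IsMaximalTorus i' ∧ IsMonHom v ∧
      v ≫ i' = i ≫ u ∧ Surjective v.left ∧ Flat v.left := by
  obtain ⟨hi, him, hTt, hmax⟩ := id hT
  haveI := hi; haveI := him
  haveI : LocallyOfFinitePresentation G'.hom := inferInstance
  have hTm := H21Diag.isMultTypeFT_of_isTorus hTt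
  have hLoc : H21Mono.LocDS T := H21Diag.isDiagLoc_of_isMultTypeFT hTm
  haveI : Smooth T.hom := S8398.smooth_of_isTorus hTt
  let f : T ⟶ G' := i ≫ u
  haveI : QuasiCompact f.left := H21Mono.quasiCompact_of_locDS hLoc f
  let Q₀ : Over S := Over.mk (f.left.imageι ≫ G'.hom)
  let ι₀ : Q₀ ⟶ G' := Over.homMk f.left.imageι rfl
  let π₀ : T ⟶ Q₀ := Over.homMk f.left.toImage (by
    change f.left.toImage ≫ f.left.imageι ≫ G'.hom = T.hom
    rw [Scheme.Hom.toImage_imageι_assoc, Over.w f])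
  haveI : IsClosedImmersion ι₀.left := inferInstanceAs (IsClosedImmersion f.left.imageι)
  haveI : IsSchemeTheoreticallyDominant π₀.left := ⟨H17.ker_toImage f.left⟩
  haveI : QuasiCompact π₀.left := inferInstanceAs (QuasiCompact f.left.toImage)
  haveI : Flat (f.left.imageι ≫ G'.hom) :=
    H21Mono.flat_image hLoc f π₀ ι₀ (Over.OverMorphism.ext f.left.toImage_imageι)
  obtain ⟨T', gT', i', v, hi', hv, hvi, hi'c, hdom, hqc⟩ := H19Grp.exists_schemImage f
  letI := gT'; haveI := hi'; haveI := hv; haveI := hi'c; haveI := hdom; haveI := hqc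
  haveI : Mono i' := Over.mono_of_mono_left _
  obtain ⟨-, hvf, hvs⟩ := H21Mono.image_props hLoc f v i' hvi
  have hT' := isTorus_image hTt f v i' hvi
  refine ⟨T', gT', i', v, ⟨inferInstance, inferInstance, hT', fun s W _ b _ _ φ hW hφ => ?_⟩, hv, hvi, hvs, hvf⟩
  let p := Red.geomPt s
  haveI := (Over.mapPullbackAdj p).isRightAdjoint
  haveI := H21Diag.isMonHom_map p u
  haveI := H21Diag.isMonHom_map p i'
  haveI := hu s
  haveI : Smooth (Red.bc p G).hom := MorphismProperty.pullback_snd (P := @Smooth) _ _ ‹_›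
  haveI : QuasiCompact (Red.bc p G).hom := MorphismProperty.pullback_snd (P := @QuasiCompact) _ _ ‹_›
  haveI : QuasiCompact (Red.bc p G').hom := MorphismProperty.pullback_snd (P := @QuasiCompact) _ _ ‹_›
  haveI : LocallyOfFiniteType (Red.bc p G').hom :=
    MorphismProperty.pullback_snd (P := @LocallyOfFiniteType) _ _ inferInstance
  exact (isMaxTorus_image ((Over.pullback p).map u) ((Over.pullback p).map i)
    ⟨H21Diag.isMonHom_map p i, inferInstance, H21Diag.isTorus_bc hTt p, hmax s⟩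
    ((Over.pullback p).map i') (H21Diag.isTorus_bc hT' p) ((Over.pullback p).map v)
    (by rw [← Functor.map_comp, ← Functor.map_comp, hvi])).2.2.2 W b φ hW hφ

end Groth.Agent.LeadTorus
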