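import Groth.Agent.LeadTorus.Artinian
import Groth.Agent.LeadTorus.Conjugacy
import Groth.Agent.LeadTorus.Assemble
import Groth.Agent.H19Chev.Structure
import Groth.Agent.H19Chev.AntiAffineImage
import Groth.Agent.H19Quot.LargestNormal
import Groth.Agent.H19Grp.GroupCI
import Groth.Agent.H19Grp.SmoothLocus
import Groth.Agent.H21Diag.TorusPart
import Groth.Agent.H20Borel.CartanBorel
import Groth.Agent.H20Conj.Factor

/-!
# The image of a maximal torus under a surjection is a maximal torus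
-/

set_option autoImplicit false
set_option linter.style.haveILetI false
set_option linter.unusedSectionVars false
set_option backward.isDefEq.respectTransparency false
set_option maxHeartbeats 4000000
set_option synthInstance.maxHeartbeats 400000

universe u

open CategoryTheory CategoryTheory.Limits MonoidalCategory CartesianMonoidalCategory MonObj AlgebraicGeometry
open Groth.Agent.H27Witt H20Mu H20Conj

noncomputable section

namespace Groth.Agent.LeadTorus

variable {K : Type u} [Field K] [IsAlgClosed K]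

/-- Rational points of a torus are divisible. -/
theorem exists_pow_eq_of_torus {T : Over (Sk K)} [GrpObj T] (hT : Red.IsTorus T) (N : ℕ) (hN : N ≠ 0)
    (t : 𝟙_ (Over (Sk K)) ⟶ T) : ∃ t₀ : 𝟙_ (Over (Sk K)) ⟶ T, t₀ ^ N = t := by
  obtain ⟨r, ⟨e⟩⟩ := H21Diag.exists_DS_iso_algClosed T hT
  have : AddGroup.FG (Fin r → ℤ) := Module.Finite.iff_addGroup_fg.mp inferInstance
  let c : T ⟶ Red.DS (Sk K) (Fin r → ℤ) := e.hom.hom.hom
  let c' : Red.DS (Sk K) (Fin r → ℤ) ⟶ T := e.inv.hom.hom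
  haveI : IsMonHom c' := e.inv.hom.isMonHom_hom
  have hcc' : c ≫ c' = 𝟙 _ := congrArg (fun k => k.hom.hom) e.hom_inv_id
  let φ : (Fin r → ℤ) →+ (Fin r → ℤ) := nsmulAddMonoidHom (α := Fin r → ℤ) N
  have hφ : Function.Injective φ := fun a b h => smul_right_injective (Fin r → ℤ) hN h
  obtain ⟨_, hs⟩ := H21Diag.flat_surjective_DSmap (Sk K) φ hφ
  haveI := hs
  haveI := H21Diag.lfp_of_multTypeFT (H21Diag.isMultTypeFT_of_isTorus
    (H21Diag.isTorus_of_lSplit (H21Diag.lSplit_of_split (H21Diag.split_DS (Sk K) r))))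
  obtain ⟨w, hw⟩ := H19Chev.exists_pt_lift (Red.DSmap (Sk K) φ) (t ≫ c)
  refine ⟨w ≫ c', ?_⟩
  have h1 : (w ≫ Red.DSmap (Sk K) φ) = w ^ N := by
    rw [← H21Diag.id_pow_eq_DSmap, MonObj.comp_pow, Category.comp_id]
  rw [← MonObj.pow_comp, ← h1, hw, Category.assoc, hcc', Category.comp_id]

/-- A surjection onto a torus stays surjective on the reduced identity component. -/
theorem exists_connected_surjection {Y T : Over (Sk K)} [GrpObj Y] [GrpObj T] [LocallyOfFiniteType Y.hom]
    [QuasiCompact Y.hom] (hT : Red.IsTorus T) (p : Y ⟶ T) [IsMonHom p] [Surjective p.left] :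
    ∃ (L : Over (Sk K)) (_ : GrpObj L) (l : L ⟶ Y), IsMonHom l ∧ IsClosedImmersion l.left ∧ Smooth L.hom ∧
      QuasiCompact L.hom ∧ ConnectedSpace L.left ∧ Surjective (l ≫ p).left := by
  obtain ⟨gR, hR⟩ := H19Grp.GroupCI.exists_grpObj_reduced Y
  letI := gR
  let R : Over (Sk K) := Over.mk (Y.left.nilradical.subschemeι ≫ Y.hom)
  let iR : R ⟶ Y := Over.homMk Y.left.nilradical.subschemeι rfl
  haveI : IsMonHom iR := hR
  haveI : IsClosedImmersion iR.left := inferInstanceAs (IsClosedImmersion Y.left.nilradical.subschemeι)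
  haveI : IsReduced R.left := inferInstanceAs (IsReduced Y.left.nilradical.subscheme)
  haveI : Surjective iR.left := ⟨Set.range_eq_univ.mp (by
    show Set.range Y.left.nilradical.subschemeι = Set.univ
    rw [Scheme.IdealSheafData.range_subschemeι]; rfl)⟩
  haveI : LocallyOfFiniteType R.hom := by rw [← Over.w iR]; infer_instance
  haveI : QuasiCompact R.hom := by rw [← Over.w iR]; infer_instance
  haveI : Smooth R.hom := H19Grp.smooth_of_isReduced_perfect R
  obtain ⟨L, gL, j, hj, hjc, hjo, hLc, hLs, hLq, h1⟩ := H19Chev.exists_smooth_idComp R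
  letI := gL; haveI := hj; haveI := hjc; haveI := hjo; haveI := hLc; haveI := hLs; haveI := hLq
  haveI : LocallyOfFiniteType L.hom := inferInstance
  haveI : CompactSpace R.left := QuasiCompact.compactSpace_of_compactSpace R.hom
  obtain ⟨s, hs⟩ := H19Chev.finite_classes j h1
  obtain ⟨hTa, hTs, hTc⟩ := H20Borel.torus_props T hT
  haveI := hTa; haveI := hTs; haveI := hTc
  haveI : LocallyOfFiniteType T.hom := inferInstance
  haveI : QuasiCompact T.hom := inferInstance
  haveI : IsClosedImmersion (j ≫ iR).left := by rw [Over.comp_left]; infer_instance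
  refine ⟨L, gL, j ≫ iR, inferInstance, inferInstance, hLs, hLq, hLc, ?_⟩
  let f : L ⟶ T := (j ≫ iR) ≫ p
  haveI : IsSeparated T.hom := inferInstance
  haveI : LocallyOfFiniteType f.left := by
    haveI : LocallyOfFiniteType (f.left ≫ T.hom) := by rw [Over.w f]; infer_instance
    exact locallyOfFiniteType_of_comp f.left T.hom
  haveI : QuasiCompact f.left := by
    haveI : QuasiCompact (f.left ≫ T.hom) := by rw [Over.w f]; infer_instance
    exact QuasiCompact.of_comp f.left T.hom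
  haveI : IsNoetherianRing (CommRingCat.of K) := inferInstanceAs (IsNoetherianRing K)
  haveI : IsLocallyNoetherian T.left := LocallyOfFiniteType.isLocallyNoetherian T.hom
  haveI : LocallyOfFinitePresentation f.left := inferInstance
  refine H19Chev.surjective_of_pts f fun t => ?_
  obtain ⟨t₀, ht₀⟩ := exists_pow_eq_of_torus hT s.card.factorial (Nat.factorial_ne_zero _) t
  haveI : Surjective (iR ≫ p).left := by rw [Over.comp_left]; infer_instance
  obtain ⟨y, hy⟩ := H19Chev.exists_pt_lift (iR ≫ p) t₀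
  choose c hc a ha using hs
  obtain ⟨m, n, hmn, hcmn⟩ : ∃ m n : Fin (s.card + 1), m < n ∧ c (y ^ (m : ℕ)) = c (y ^ (n : ℕ)) := by
    by_contra hne
    push Not at hne
    have hinj : Function.Injective fun m : Fin (s.card + 1) => (⟨c (y ^ (m : ℕ)), hc _⟩ : s) := fun m n h => by
      rcases lt_trichotomy m n with hl | hl | hl
      · exact absurd (congrArg Subtype.val h) (hne m n hl)
      · exact hl
      · exact absurd (congrArg Subtype.val h).symm (hne n m hl)
    have := Fintype.card_le_of_injective _ hinj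
    simp at this
  have hd : ∃ b : 𝟙_ (Over (Sk K)) ⟶ L, b ≫ j = y ^ ((n : ℕ) - m) := by
    refine ⟨a (y ^ (n : ℕ)) * (a (y ^ (m : ℕ)))⁻¹, ?_⟩
    rw [MonObj.mul_comp, GrpObj.inv_comp, ha, ha, hcmn, mul_inv_rev, inv_inv, pow_sub y (Fin.le_def.mp hmn.le),
      _root_.mul_assoc, inv_mul_cancel_left]
  obtain ⟨b, hb⟩ := hd
  have hpos : 0 < (n : ℕ) - m := Nat.sub_pos_of_lt hmn
  obtain ⟨q, hq⟩ := Nat.dvd_factorial hpos ((Nat.sub_le _ _).trans (Nat.lt_succ_iff.mp n.2))
  refine ⟨b ^ q, ?_⟩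
  show (b ^ q) ≫ (j ≫ iR) ≫ p = t
  rw [Category.assoc, ← Category.assoc (b ^ q) j, MonObj.pow_comp, hb, ← pow_mul, ← hq, MonObj.pow_comp, hy, ht₀]

/-- A morphism from a reduced scheme factors through a closed subscheme if it does so on rational points. -/
theorem exists_factor_pts_any {H G Y : Over (Sk K)} (i : H ⟶ G) [IsClosedImmersion i.left]
    [LocallyOfFiniteType Y.hom] [IsReduced Y.left] (f : Y ⟶ G)
    (h : ∀ y : 𝟙_ (Over (Sk K)) ⟶ Y, ∃ z : 𝟙_ (Over (Sk K)) ⟶ H, z ≫ i = y ≫ f) : ∃ f' : Y ⟶ H, f' ≫ i = f := by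
  haveI : JacobsonSpace Y.left := LocallyOfFiniteType.jacobsonSpace Y.hom
  let P := pullback.snd i.left f.left
  have hc : IsClosedImmersion P := MorphismProperty.pullback_snd (P := @IsClosedImmersion) _ _ inferInstance
  haveI := hc
  have hsub : closedPoints Y.left ⊆ Set.range P := fun z hz => by
    obtain ⟨y, rfl⟩ := H25AbCube.Stab.exists_pnt hz
    obtain ⟨w, hw⟩ := h y
    let l : (𝟙_ (Over (Sk K))).left ⟶ pullback i.left f.left :=
      pullback.lift w.left y.left (congrArg (fun m => m.left) hw)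
    refine ⟨l (IsLocalRing.closedPoint K), ?_⟩
    rw [← Scheme.Hom.comp_apply, pullback.lift_snd]
  haveI : Surjective P := ⟨fun z => by
    have h2 := closure_minimal hsub P.isClosedEmbedding.isClosed_range
    rw [closure_closedPoints] at h2
    exact h2 trivial⟩
  haveI : IsIso P := isIso_of_isClosedImmersion_of_surjective P
  refine ⟨Over.homMk (inv P ≫ pullback.fst i.left f.left) ?_, Over.OverMorphism.ext ?_⟩
  · rw [← Over.w i, Category.assoc, pullback.condition_assoc, IsIso.inv_hom_id_assoc]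
    exact Over.w f
  · show (inv P ≫ pullback.fst i.left f.left) ≫ i.left = f.left
    rw [Category.assoc, pullback.condition, IsIso.inv_hom_id_assoc]

/-- The image of a maximal torus under a surjection is a maximal torus. -/
theorem isMaxTorus_image {G G' T Q : Over (Sk K)} [GrpObj G] [GrpObj G'] [GrpObj T] [GrpObj Q]
    [Smooth G.hom] [QuasiCompact G.hom] [LocallyOfFiniteType G'.hom] [QuasiCompact G'.hom]
    (u : G ⟶ G') [IsMonHom u] [Surjective u.left] (i : T ⟶ G) (hT : AGF.IsMaxTorus i)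
    (iQ : Q ⟶ G') [IsMonHom iQ] [Mono iQ] (hQ : Red.IsTorus Q) (v : T ⟶ Q) (hv : v ≫ iQ = i ≫ u) :
    AGF.IsMaxTorus iQ := by
  haveI := hT.1; haveI := hT.2.1
  refine ⟨inferInstance, inferInstance, hQ, fun T'' _ b _ _ f hT'' hf => ?_⟩
  haveI : IsSeparated G'.hom := H19Grp.AffineQuotient.isSeparated_of_grp G'
  haveI : IsMonHom (f ≫ b) := by rw [hf]; infer_instance
  haveI : IsMonHom f := H21Diag.isMonHom_of_comp_mono f b
  haveI : Mono f := mono_of_mono_fac hf
  haveI : IsClosedImmersion b.left := isClosedImmersion_mono_sep (H21Diag.isMultTypeFT_of_isTorus hT'') b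
  obtain ⟨Y, gY, jY, p, hjY, hp, hjYc, hsq⟩ := H19Quot.exists_preimageGroup u b
  letI := gY; haveI := hjY; haveI := hp; haveI := hjYc
  haveI : Surjective p.left :=
    MorphismProperty.of_isPullback (P := @Surjective) (hsq.map (Over.forget _)).flip ‹Surjective u.left›
  haveI : LocallyOfFiniteType G.hom := inferInstance
  haveI : LocallyOfFiniteType Y.hom := by rw [← Over.w jY]; infer_instance
  haveI : QuasiCompact Y.hom := by rw [← Over.w jY]; infer_instance
  obtain ⟨L, gL, l, hl, hlc, hLs, hLq, hLc, hlp⟩ := exists_connected_surjection hT'' p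
  letI := gL; haveI := hl; haveI := hlc; haveI := hLs; haveI := hLq; haveI := hLc; haveI := hlp
  obtain ⟨hTa, hTs, hTc⟩ := H20Borel.torus_props T'' hT''
  haveI := hTa; haveI := hTs; haveI := hTc
  haveI : LocallyOfFiniteType T''.hom := inferInstance
  have hid : AGF.IsMaxTorus (𝟙 T'') := ⟨inferInstance, inferInstance, hT'', fun W _ w _ _ g _ hg =>
    ⟨w, hg, by rw [← cancel_mono w, Category.assoc, hg, Category.comp_id, Category.id_comp]⟩⟩
  obtain ⟨R, gR, r, π, hr, hR, hπ, hrπ⟩ := exists_torus_lift L T'' (l ≫ p) (𝟙 T'') hid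
  letI := gR; haveI := hr; haveI := hπ
  rw [Category.comp_id] at hrπ
  -- the image of the lifted torus in a maximal torus
  obtain ⟨nR, ⟨eR⟩⟩ := H21Diag.exists_DS_iso_algClosed R hR
  haveI : IsSeparated G.hom := H19Grp.AffineQuotient.isSeparated_of_grp G
  let f₀ : Red.DS (Sk K) (Fin nR → ℤ) ⟶ G := eR.inv.hom.hom ≫ r ≫ l ≫ jY
  haveI : IsMonHom eR.inv.hom.hom := inferInstance
  haveI : IsMonHom f₀ := inferInstanceAs (IsMonHom (eR.inv.hom.hom ≫ r ≫ l ≫ jY))
  obtain ⟨Q₃, gQ₃, j₃, hj₃, hj₃m, hQ₃, q₃, hq₃⟩ := H20Conj.exists_image_torus f₀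
  letI := gQ₃; haveI := hj₃; haveI := hj₃m
  obtain ⟨T₃, gT₃, i₃, w₃, hT₃, hw₃⟩ := exists_maximalTorus_containing (A := K) G Q₃ j₃ hQ₃
  letI := gT₃
  haveI := hT₃.1; haveI := hT₃.2.1
  obtain ⟨g, φ, hφ⟩ := exists_conjBy_algClosed G i i₃ hT (H20Conj.isMaxTorus_of_isMaximalTorus hT₃)
  let wR : R ⟶ T₃ := eR.hom.hom.hom ≫ q₃ ≫ w₃
  have hwR : wR ≫ i₃ = r ≫ l ≫ jY := by
    simp only [wR, Category.assoc, hw₃, hq₃, f₀]
    rw [← Category.assoc, show eR.hom.hom.hom ≫ eR.inv.hom.hom = 𝟙 _ from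
      congrArg (fun k => k.hom.hom) eR.hom_inv_id, Category.id_comp]
  have hi₃ : i₃ = φ.inv ≫ i ≫ H20Mu.conj g⁻¹ := by
    rw [← cancel_epi φ.hom, Iso.hom_inv_id_assoc, ← hφ, H20Mu.comp_conj, GrpObj.comp_inv, inv_inv]
  let g' := g ≫ u
  have hconj : H20Mu.conj g⁻¹ ≫ u = u ≫ H20Mu.conj g'⁻¹ := by
    rw [H20Mu.comp_conj, H20Mu.conj, MonObj.mul_comp, MonObj.mul_comp, GrpObj.inv_comp, Category.id_comp,
      Category.assoc, GrpObj.inv_comp]
  have key : π ≫ b = ((wR ≫ φ.inv) ≫ v) ≫ iQ ≫ H20Mu.conj g'⁻¹ := by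
    have h1 : π ≫ b = (r ≫ l ≫ jY) ≫ u := by
      rw [← hrπ, Category.assoc r (l ≫ p) b, Category.assoc l p b, hsq.w]
      simp only [Category.assoc]
    rw [h1, ← hwR, hi₃, Category.assoc (wR ≫ φ.inv) v, ← Category.assoc v iQ, hv]
    simp only [Category.assoc, hconj]
  haveI : IsMonHom (iQ ≫ H20Mu.conj g'⁻¹) := inferInstance
  haveI : Mono (iQ ≫ H20Mu.conj g'⁻¹) := ⟨fun a c h => (cancel_mono iQ).mp (by
    have h' := congrArg (· ≫ H20Mu.conj g'⁻¹⁻¹) h
    simpa only [← Category.assoc, H20Mu.comp_conj_conj] using h')⟩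
  haveI : IsClosedImmersion (iQ ≫ H20Mu.conj g'⁻¹).left :=
    isClosedImmersion_mono_sep (H21Diag.isMultTypeFT_of_isTorus hQ) _
  obtain ⟨hRa, hRs, -⟩ := H20Borel.torus_props R hR
  haveI := hRa; haveI := hRs
  haveI : LocallyOfFiniteType R.hom := inferInstance
  haveI : IsReduced T''.left := Groth.Agent.H13AlgSp.isReduced_of_smooth_mor T''.hom
  obtain ⟨h, hh⟩ := exists_factor_pts_any (iQ ≫ H20Mu.conj g'⁻¹) b fun y => by
    obtain ⟨a, rfl⟩ := H19Chev.exists_pt_lift π y
    exact ⟨a ≫ (wR ≫ φ.inv) ≫ v, by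
      have h2 := congrArg (a ≫ ·) key
      simpa only [Category.assoc] using h2.symm⟩
  haveI : IsMonHom (h ≫ iQ ≫ H20Mu.conj g'⁻¹) := by rw [hh]; infer_instance
  haveI : IsMonHom h := H21Diag.isMonHom_of_comp_mono h (iQ ≫ H20Mu.conj g'⁻¹)
  haveI : Mono h := mono_of_mono_fac hh
  obtain ⟨nQ, ⟨eQ⟩⟩ := H21Diag.exists_DS_iso_algClosed Q hQ
  haveI : IsMonHom (f ≫ h) := inferInstance
  haveI : Mono (f ≫ h) := inferInstance
  haveI : IsIso (f ≫ h) := H21Diag.isIso_of_split_le (f ≫ h) (r := nQ) (r' := nQ) ⟨eQ⟩ ⟨eQ⟩ le_rfl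
  haveI : IsIso h := by
    refine ⟨inv (f ≫ h) ≫ f, ?_, by rw [Category.assoc, IsIso.inv_hom_id]⟩
    rw [← cancel_mono h]
    simp only [Category.assoc, IsIso.inv_hom_id, Category.comp_id, Category.id_comp]
  exact IsIso.of_isIso_comp_right f h

end Groth.Agent.LeadTorus
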