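import Groth.Agent.LeadTorus.Main

/-!
# Existence of maximal tori over an infinite field of positive characteristic
-/

set_option autoImplicit false
set_option linter.style.haveILetI false
set_option backward.isDefEq.respectTransparency false
set_option maxHeartbeats 2000000
set_option synthInstance.maxHeartbeats 400000

universe u

open CategoryTheory CategoryTheory.Limits MonoidalCategory CartesianMonoidalCategory MonObj AlgebraicGeometry
open Groth.Agent.H27Witt H20Mu H20Conj

noncomputable section

namespace Groth.Agent.LeadTorus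

variable {k : Type u} [Field k]

theorem exists_nat_dim_le (G : Over (Spec (CommRingCat.of k))) [IsAffine G.left] [LocallyOfFiniteType G.hom] :
    ∃ n : ℕ, topologicalKrullDim ↥G.left ≤ (n : WithBot ℕ∞) := by
  haveI := Fn.finiteType G
  obtain ⟨s, f, hf⟩ := (Algebra.FiniteType.iff_quotient_mvPolynomial'' (R := k) (S := Fn G)).1 inferInstance
  have hle := ringKrullDim_le_of_surjective f.toRingHom hf
  rw [MvPolynomial.ringKrullDim_of_isNoetherianRing, ringKrullDim_eq_zero_of_field, zero_add,
    Nat.card_eq_fintype_card, Fintype.card_fin] at hle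
  refine ⟨s, ?_⟩
  rw [IsHomeomorph.topologicalKrullDim_eq _ (G.left.isoSpec.hom.homeomorph.isHomeomorph)]
  exact (PrimeSpectrum.topologicalKrullDim_eq_ringKrullDim _).le.trans hle

/-- A cocharacter of a torus which is not central is not central on some group of roots of unity. -/
theorem exists_noncentral_mu {K : Type u} [Field K] [IsAlgClosed K] {G : Over (Sk K)} [GrpObj G] [IsAffine G.left]
    (p : ℕ) (hp : 1 < p) (d : Red.Gm (Sk K) ⟶ G) (h : ∀ n, IsCentralHom (muι K (p ^ n) ≫ d)) : IsCentralHom d := by
  have key : (fst (Red.Gm (Sk K)) G ≫ d) * snd _ G = snd (Red.Gm (Sk K)) G * (fst _ G ≫ d) := by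
    refine eq_of_agree_mu p hp _ _ fun n => ?_
    rw [MonObj.comp_mul, MonObj.comp_mul, ← Category.assoc, whiskerRight_fst, whiskerRight_snd, Category.assoc]
    exact h n _ _ _
  intro X x g
  have h1 := congrArg (lift x g ≫ ·) key
  simp only [MonObj.comp_mul, ← Category.assoc, lift_fst, lift_snd] at h1
  exact h1

/-- If all cocharacters of a torus are central, so is the torus. -/
theorem central_of_cochars {K : Type u} [Field K] [IsAlgClosed K] {G T : Over (Sk K)} [GrpObj G] [GrpObj T]
    (iT : T ⟶ G) [IsMonHom iT] (hT : Red.IsTorus T)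
    (h : ∀ e : Red.Gm (Sk K) ⟶ T, IsMonHom e → IsCentralHom (e ≫ iT)) : IsCentralHom iT := by
  obtain ⟨r, e, co, he, -, hprod, -⟩ := exists_cochars T hT
  intro X x g
  let φ : (T ⟶ T) →* (X ⟶ G) :=
    { toFun := fun m => (x ≫ m) ≫ iT
      map_one' := by rw [MonObj.comp_one, MonObj.one_comp]
      map_mul' := fun a b => by rw [MonObj.comp_mul, MonObj.mul_comp] }
  have hx : x ≫ iT = φ (List.ofFn fun i => co i ≫ e i).prod := by
    rw [hprod]; show _ = (x ≫ 𝟙 T) ≫ iT; rw [Category.comp_id]
  rw [hx, map_list_prod]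
  refine Commute.list_prod_left _ _ fun m hm => ?_
  simp only [List.mem_map, List.mem_ofFn] at hm
  obtain ⟨_, ⟨i, rfl⟩, rfl⟩ := hm
  show Commute ((x ≫ co i ≫ e i) ≫ iT) g
  rw [← Category.assoc x, Category.assoc (x ≫ co i)]
  exact h (e i) (he i) X (x ≫ co i) g

/-- **A smooth connected affine group over an infinite field of positive characteristic has a maximal torus.** -/
theorem exists_maximalTorus_infinite_charP (k : Type u) [Field k] [Infinite k] (p : ℕ) [Fact p.Prime] [CharP k p]
    (G : Over (Spec (CommRingCat.of k))) [GrpObj G] [IsAffine G.left] [Smooth G.hom] [ConnectedSpace G.left] :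
    HasMax G := by
  obtain ⟨d, hd⟩ := exists_nat_dim_le G
  induction d using Nat.strong_induction_on generalizing G with
  | _ d IH =>
    have IHd : ∀ (Y : Over (Spec (CommRingCat.of k))) [GrpObj Y] [IsAffine Y.left] [Smooth Y.hom]
        [ConnectedSpace Y.left], topologicalKrullDim ↥Y.left + 1 ≤ (d : WithBot ℕ∞) → HasMax Y := by
      intro Y _ _ _ _ hY
      have h0 : (0 : WithBot ℕ∞) ≤ topologicalKrullDim ↥Y.left := by
        haveI : Nonempty (TopologicalSpace.IrreducibleCloseds ↥Y.left) :=
          ⟨⟨closure {Classical.arbitrary _}, isIrreducible_singleton.closure, isClosed_closure⟩⟩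
        exact Order.krullDim_nonneg
      obtain ⟨m, hm⟩ : ∃ m : ℕ∞, topologicalKrullDim ↥Y.left = (m : WithBot ℕ∞) :=
        ⟨_, (WithBot.coe_unbot _ (fun hbot => by rw [hbot] at h0; simp at h0)).symm⟩
      rw [hm] at hY
      have hmd : m + 1 ≤ (d : ℕ∞) := by exact_mod_cast hY
      obtain ⟨j, rfl⟩ := ENat.ne_top_iff_exists.1 (show m ≠ ⊤ by rintro rfl; simp at hmd)
      have hjd : j + 1 ≤ d := by exact_mod_cast hmd
      exact IH j (by omega) Y hm.le
    have inner : ∀ (n : ℕ) (Y : Over (Spec (CommRingCat.of k))) [GrpObj Y] [IsAffine Y.left] [Smooth Y.hom]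
        [ConnectedSpace Y.left], topologicalKrullDim ↥Y.left ≤ (d : WithBot ℕ∞) → Lvl p n Y → HasMax Y := by
      intro n
      induction n with
      | zero => exact fun Y _ _ _ _ _ h => absurd h (not_lvl_zero p Y)
      | succ n ih =>
        intro Y _ _ _ _ hY h
        exact hasMax_of_lvl p Y n (fun Z _ _ _ _ hZ => IHd Z (hZ.trans hY))
          (fun Z _ _ _ _ hZ hl => ih Z (hZ.trans hY) hl) h
    let K := AlgebraicClosure k
    let z := zMap k K
    haveI : IsAffine (Red.bc z G).left := H20Borel.isAffine_bc z G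
    haveI : Smooth (Red.bc z G).hom := H20Borel.smooth_bc z G
    obtain ⟨T, gT, iT, hT⟩ := exists_isMaxTorus_algClosed (Red.bc z G)
    letI := gT
    haveI := hT.1; haveI := hT.2.1
    by_cases hall : ∀ (n : ℕ) (e : Red.Gm (Sk K) ⟶ T), IsMonHom e → IsCentralHom (muι K (p ^ n) ≫ e ≫ iT)
    · exact exists_of_central G iT (isMaximalTorus_of_isMaxTorus hT) (central_of_cochars iT hT.2.2.1 fun e he =>
        exists_noncentral_mu p (Fact.out : p.Prime).one_lt (e ≫ iT) fun n => hall n e he)
    · push Not at hall
      obtain ⟨n, e, he, hne⟩ := hall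
      exact inner n G hd ⟨T, gT, iT, hT.1, hT.2.1, hT.2.2.1, e, he, hne⟩

end Groth.Agent.LeadTorus
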