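import Groth.Agent.LeadTorus.Conj
import Groth.Agent.H20Conj.Split
import Groth.Agent.H21Hom.Bridge
import Groth.Agent.H20Mu.TorusFn

/-!
# The subgroups of roots of unity of the multiplicative group
-/

set_option autoImplicit false
set_option linter.style.haveILetI false
set_option backward.isDefEq.respectTransparency false
set_option maxHeartbeats 1000000
set_option synthInstance.maxHeartbeats 100000

universe u

open CategoryTheory CategoryTheory.Limits MonoidalCategory CartesianMonoidalCategory MonObj AlgebraicGeometry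
open Groth.Agent.H27Witt H20Mu H20Conj TensorProduct

noncomputable section

namespace Groth.Agent.LeadTorus

variable (K : Type u) [Field K] (q : ℕ)

/-- The coordinate ring of the roots of unity. -/
abbrev RootAlg : Type u := MonoidAlgebra K (Multiplicative (ZMod q))

/-- The group of `q`-th roots of unity. -/
abbrev muGrp : Over (Sk K) := H21Hom.specGrp K (RootAlg K q)

/-- The coordinate ring of the roots of unity as functions on the group. -/
def muAlg : RootAlg K q ≃ₐ[K] Fn (muGrp K q) := Fn.specAlg (k := K) (RootAlg K q)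

/-- The characters of the roots of unity. -/
def muHom : Multiplicative (ZMod q) →* Fn (muGrp K q) where
  toFun a := muAlg K q (MonoidAlgebra.of K (Multiplicative (ZMod q)) a)
  map_one' := by rw [map_one, map_one]
  map_mul' a b := by rw [map_mul, map_mul]

/-- The tautological root of unity. -/
def muUnit : (Γ((muGrp K q).left, ⊤))ˣ :=
  ((muHom K q).toHomUnits (Multiplicative.ofAdd 1) : (Fn (muGrp K q))ˣ)

theorem muUnit_val : ((muUnit K q : (Γ((muGrp K q).left, ⊤))ˣ) : Γ((muGrp K q).left, ⊤)) =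
    muAlg K q (MonoidAlgebra.of K (Multiplicative (ZMod q)) (Multiplicative.ofAdd 1)) :=
  MonoidHom.coe_toHomUnits (muHom K q) (Multiplicative.ofAdd 1)

/-- The inclusion in the multiplicative group. -/
def muι : muGrp K q ⟶ Red.Gm (Sk K) := GmPts.ptOfUnit (muUnit K q)

instance isMonHom_muι : IsMonHom (muι K q) := isMonHom_ptOfUnit (muUnit K q) fun {P} a b => by
  rw [muUnit_val]
  exact groupLike_mul (MonoidAlgebra.isGroupLikeElem_of (R := K) (A := K) (Multiplicative.ofAdd (1 : ZMod q))) a b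

variable {K q}

theorem muUnit_zpow (n : ℤ) :
    ((muUnit K q ^ n : (Γ((muGrp K q).left, ⊤))ˣ) : Γ((muGrp K q).left, ⊤)) =
      muAlg K q (MonoidAlgebra.single (Multiplicative.ofAdd (n : ZMod q)) 1) := by
  show (((muHom K q).toHomUnits (Multiplicative.ofAdd 1) ^ n : (Fn (muGrp K q))ˣ) : Fn (muGrp K q)) = _
  rw [← map_zpow, ← ofAdd_zsmul, zsmul_one]
  exact MonoidHom.coe_toHomUnits (muHom K q) _

theorem pull_zFn_zpow {T : Over (Sk K)} (g : T ⟶ Red.Gm (Sk K)) (n : ℤ) :
    Fn.pull g ((zFn ^ n : (Fn (Red.Gm (Sk K)))ˣ) : Fn (Red.Gm (Sk K))) =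
      Units.val (α := Fn T) (GmPts.unitOfPt g ^ n) := by
  rw [show (GmPts.unitOfPt g : (Fn T)ˣ) = _ from (pull_zFn g).symm]
  exact congrArg (Units.val (α := Fn T)) (map_zpow (Units.map (Fn.pull g : Fn (Red.Gm (Sk K)) →* Fn T)) zFn n)

theorem unitOfPt_pow {T : Over (Sk K)} (g : T ⟶ Red.Gm (Sk K)) (n : ℕ) :
    GmPts.unitOfPt (g ^ n) = GmPts.unitOfPt g ^ n := by
  induction n with
  | zero => rw [pow_zero, pow_zero, GmPts.unitOfPt_one]
  | succ n ih => rw [pow_succ, pow_succ, GmPts.unitOfPt_mul, ih]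

/-- The roots of unity are killed by `q`. -/
theorem muι_pow : muι K q ^ q = 1 := by
  refine gm_pt_ext (congrArg Units.val ?_)
  rw [unitOfPt_pow, GmPts.unitOfPt_one, muι, GmPts.unitOfPt_ptOfUnit]
  refine Units.ext ?_
  rw [← zpow_natCast, muUnit_zpow, Int.cast_natCast, ZMod.natCast_self, ofAdd_zero, Units.val_one,
    ← MonoidAlgebra.one_def, map_one]

/-- Points killed by `q` are roots of unity. -/
theorem exists_muι_lift [NeZero q] {X : Over (Sk K)} (x : X ⟶ Red.Gm (Sk K)) (hx : x ^ q = 1) :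
    ∃ y : X ⟶ muGrp K q, y ≫ muι K q = x := by
  haveI : IsAffine (muGrp K q).left := inferInstanceAs (IsAffine (Spec _))
  let v : (Fn X)ˣ := GmPts.unitOfPt x
  have hv : v ^ (q : ℤ) = 1 := by
    rw [zpow_natCast]
    show GmPts.unitOfPt x ^ q = 1
    rw [← unitOfPt_pow, hx, GmPts.unitOfPt_one]
  let f : ZMod q →+ Additive (Fn X)ˣ := ZMod.lift q ⟨(zmultiplesHom (Additive (Fn X)ˣ)) (Additive.ofMul v), by
    show (q : ℤ) • Additive.ofMul v = 0
    rw [← ofMul_zpow, hv]
    rfl⟩
  let g : Multiplicative (ZMod q) →* Fn X := (Units.coeHom _).comp (AddMonoidHom.toMultiplicativeLeft f)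
  obtain ⟨y, hy⟩ := Fn.exists_hom (X := X) (Y := muGrp K q)
    ((MonoidAlgebra.lift K (Fn X) (Multiplicative (ZMod q)) g).comp (muAlg K q).symm.toAlgHom)
  refine ⟨y, gm_pt_ext ?_⟩
  rw [GmPts.unitOfPt_comp, muι, GmPts.unitOfPt_ptOfUnit]
  show Fn.pull y (Units.val (α := Fn (muGrp K q)) (muUnit K q)) = _
  rw [muUnit_val]
  rw [hy]
  simp only [AlgHom.comp_apply, AlgEquiv.coe_toAlgHom, AlgEquiv.symm_apply_apply, MonoidAlgebra.lift_of]
  show ((Additive.toMul (f 1) : (Fn X)ˣ) : Fn X) = _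
  have h1 : f 1 = Additive.ofMul v := by
    have := ZMod.lift_coe q ⟨(zmultiplesHom (Additive (Fn X)ˣ)) (Additive.ofMul v), by
      show (q : ℤ) • Additive.ofMul v = 0
      rw [← ofMul_zpow, hv]
      rfl⟩ 1
    rw [Int.cast_one] at this
    exact this.trans (one_zsmul _)
  rw [h1]
  rfl

/-- Functions on a product of affine schemes form the tensor product. -/
theorem fnTensor_injective {X Y : Over (Sk K)} [IsAffine X.left] [IsAffine Y.left] :
    Function.Injective (Algebra.TensorProduct.lift (Fn.pull (fst X Y)) (Fn.pull (snd X Y))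
      fun _ _ => Commute.all _ _ : Fn X ⊗[K] Fn Y →ₐ[K] Fn (X ⊗ Y)) := by
  let e := Fn.specAlg (k := K) (Fn X ⊗[K] Fn Y)
  let Z : Over (Sk K) := Over.mk (Spec.map (CommRingCat.ofHom (algebraMap K (Fn X ⊗[K] Fn Y))))
  haveI : IsAffine Z.left := inferInstanceAs (IsAffine (Spec _))
  obtain ⟨p, hp⟩ := Fn.exists_hom (X := Z) (e.toAlgHom.comp Algebra.TensorProduct.includeLeft)
  obtain ⟨r, hr⟩ := Fn.exists_hom (X := Z) (e.toAlgHom.comp Algebra.TensorProduct.includeRight)
  intro a b hab
  have hc : (Fn.pull (lift p r)).comp (Algebra.TensorProduct.lift (Fn.pull (fst X Y)) (Fn.pull (snd X Y))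
      fun _ _ => Commute.all _ _) = e.toAlgHom := by
    refine Algebra.TensorProduct.ext ?_ ?_
    · refine AlgHom.ext fun x => ?_
      simp only [AlgHom.comp_apply, Algebra.TensorProduct.includeLeft_apply, Algebra.TensorProduct.lift_tmul, map_one,
        _root_.mul_one, Fn.pull_pull, lift_fst, hp]
      rfl
    · refine AlgHom.ext fun x => ?_
      simp only [AlgHom.comp_apply, AlgHom.restrictScalars_apply, Algebra.TensorProduct.includeRight_apply,
        Algebra.TensorProduct.lift_tmul, map_one, _root_.one_mul, Fn.pull_pull, lift_snd, hr]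
      rfl
  refine e.injective ?_
  have := congrArg (Fn.pull (lift p r)) hab
  rwa [← AlgHom.comp_apply, ← AlgHom.comp_apply, hc] at this

/-- A morphism out of `G_m ⊗ Y` is determined by its restrictions to the roots of unity of all orders `p ^ n`. -/
theorem eq_of_agree_mu {Y X : Over (Sk K)} [IsAffine Y.left] [IsAffine X.left] (p : ℕ) (hp : 1 < p)
    (θ θ' : Red.Gm (Sk K) ⊗ Y ⟶ X)
    (h : ∀ n : ℕ, (muι K (p ^ n) ▷ Y) ≫ θ = (muι K (p ^ n) ▷ Y) ≫ θ') : θ = θ' := by
  classical
  refine Fn.hom_ext (AlgHom.ext fun r => ?_)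
  rw [← sub_eq_zero]
  haveI : IsAffine (Red.Gm (Sk K)).left := by
    haveI : IsAffine (Red.diag (ULift.{u} ℤ) ℤ).left := inferInstanceAs (IsAffine (Spec _))
    dsimp [Red.Gm, Red.DS, Red.bc]; infer_instance
  let z : ℤ → Fn (Red.Gm (Sk K)) := fun i => ((zFn ^ i : (Fn (Red.Gm (Sk K)))ˣ) : Fn (Red.Gm (Sk K)))
  obtain ⟨n, a, b, hab⟩ := Fn.exists_decomp (Fn.pull θ r - Fn.pull θ' r)
  choose s c hc using fun i => exists_laurent (a i)
  let S : Finset ℤ := Finset.univ.biUnion s
  let B : ℤ → Fn Y := fun m => ∑ i, (if m ∈ s i then c i m else 0) • b i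
  have hf : Fn.pull θ r - Fn.pull θ' r =
      ∑ m ∈ S, Fn.pull (fst _ Y) (z m) * Fn.pull (snd _ Y) (B m) := by
    rw [hab]
    simp only [B, map_sum, map_smul, Finset.mul_sum]
    rw [Finset.sum_comm]
    refine Finset.sum_congr rfl fun i _ => ?_
    rw [hc i, map_sum, Finset.sum_mul]
    rw [← Finset.sum_subset (Finset.subset_biUnion_of_mem s (Finset.mem_univ i))
      fun m _ hm => by rw [if_neg hm, zero_smul, mul_zero]]
    exact Finset.sum_congr rfl fun m hm => by rw [if_pos hm, map_smul, smul_mul_assoc, mul_smul_comm]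
  suffices hB : ∀ m ∈ S, B m = 0 by
    rw [hf]
    exact Finset.sum_eq_zero fun m hm => by rw [hB m hm, map_zero, mul_zero]
  obtain ⟨N, hN⟩ : ∃ N, ∀ m ∈ S, m.natAbs ≤ N := ⟨S.sup Int.natAbs, fun m hm => Finset.le_sup hm⟩
  let q := p ^ (2 * N + 1)
  have hq : 2 * N + 1 < q := Nat.lt_pow_self hp
  have hinj : ∀ m ∈ S, ∀ m' ∈ S, (m : ZMod q) = (m' : ZMod q) → m = m' := fun m hm m' hm' e => by
    rw [ZMod.intCast_eq_intCast_iff_dvd_sub] at e
    have h1 := hN m hm
    have h2 := hN m' hm'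
    have h3 : (m' - m).natAbs < q := by
      have := Int.natAbs_sub_le m' m
      omega
    have := Int.eq_zero_of_dvd_of_natAbs_lt_natAbs e (by simpa using h3)
    omega
  have h0 : Fn.pull (muι K q ▷ Y) (Fn.pull θ r - Fn.pull θ' r) = 0 := by
    rw [map_sub, Fn.pull_pull, Fn.pull_pull, h (2 * N + 1), sub_self]
  rw [hf, map_sum] at h0
  simp only [map_mul, Fn.pull_pull, whiskerRight_fst, whiskerRight_snd] at h0
  haveI : IsAffine (muGrp K q).left := inferInstanceAs (IsAffine (Spec _))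
  let e := muAlg K q
  let v : Fn (muGrp K q) ⊗[K] Fn Y := ∑ m ∈ S, e (MonoidAlgebra.single (Multiplicative.ofAdd (m : ZMod q)) 1) ⊗ₜ B m
  have hv : v = 0 := by
    refine fnTensor_injective ?_
    rw [map_zero, map_sum]
    refine Eq.trans (Finset.sum_congr rfl fun m _ => ?_) h0
    rw [Algebra.TensorProduct.lift_tmul, ← Fn.pull_pull (fst (muGrp K q) Y) (muι K q)]
    congr 2
    show _ = Fn.pull (muι K q) (z m)
    rw [pull_zFn_zpow, muι, GmPts.unitOfPt_ptOfUnit]
    exact (muUnit_zpow m).symm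
  intro m hm
  let coef : Fn (muGrp K q) →ₗ[K] K := (Finsupp.lapply (Multiplicative.ofAdd (m : ZMod q))).comp
    ((MonoidAlgebra.coeffLinearEquiv K).toLinearMap.comp e.symm.toLinearMap)
  have := congrArg (fun w => TensorProduct.lid K (Fn Y) (TensorProduct.map coef LinearMap.id w)) hv
  simp only [v, map_sum, TensorProduct.map_tmul, LinearMap.id_coe, id_eq, TensorProduct.lid_tmul, map_zero] at this
  refine Eq.trans ?_ this
  rw [Finset.sum_eq_single m]
  · simp [coef, e]
  · intro m' hm' hne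
    have : (Multiplicative.ofAdd (m' : ZMod q)) ≠ Multiplicative.ofAdd (m : ZMod q) := fun h =>
      hne (hinj m' hm' m hm (Multiplicative.ofAdd.injective h))
    simp [coef, e, Finsupp.single_apply, this]
  · intro h; exact absurd hm h

end Groth.Agent.LeadTorus
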