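import Groth.Agent.H20Borel.CartanChar
import Groth.Agent.H21Diag.MaxTorus
import Groth.Agent.H21Quot.Third
import Groth.Agent.LeadTorus.Mu

/-!
# The torus of the preimage of a maximal torus is maximal
-/

set_option autoImplicit false
set_option linter.style.haveILetI false
set_option backward.isDefEq.respectTransparency false
set_option maxHeartbeats 1000000
set_option synthInstance.maxHeartbeats 200000

universe u

open CategoryTheory CategoryTheory.Limits MonoidalCategory CartesianMonoidalCategory MonObj AlgebraicGeometry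
open Groth.Agent.H27Witt H20Mu H20Conj H20Borel

noncomputable section

namespace Groth.Agent.LeadTorus

variable {S : Scheme.{u}}

theorem comp_idPow {X A : Over S} [GrpObj A] (x : X ⟶ A) (n : ℕ) : x ≫ (𝟙 A : A ⟶ A) ^ n = x ^ n := by
  rw [Groth.Agent.H21Diag.comp_pow, Category.comp_id]

/-- The power map of a torus is faithfully flat. -/
theorem flat_surjective_pow {R : Over S} [GrpObj R] (hR : Red.IsTorus R) (k : ℕ) (hk : 0 < k) :
    Flat ((𝟙 R : R ⟶ R) ^ k).left ∧ Surjective ((𝟙 R : R ⟶ R) ^ k).left := by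
  obtain ⟨p, hp⟩ := H21Diag.exists_lcPow (G := R) (fun _ : S => k) (IsLocallyConstant.const k)
  have he : p = (𝟙 R : R ⟶ R) ^ k := by
    have h := hp k (𝟙 R) fun _ => rfl
    rwa [Category.id_comp] at h
  rw [← he]
  exact H21Diag.lcPow_torus hR (IsLocallyConstant.const k) (fun _ => hk) hp

/-- Morphisms equal after a faithfully flat cover of finite presentation are equal. -/
theorem eq_of_cover {T T' B : Over S} (p : T' ⟶ T) [Flat p.left] [Surjective p.left]
    [LocallyOfFinitePresentation p.left] {u v : T ⟶ B} (h : p ≫ u = p ≫ v) : u = v := by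
  obtain ⟨z, -, hz⟩ := H21Quot.desc_unique p (p ≫ v) fun U c d hcd => by rw [← Category.assoc, hcd, Category.assoc]
  rw [hz u h, hz v rfl]

variable {K : Type u} [Field K] [IsAlgClosed K]

local notation "Pt" X => 𝟙_ (Over (Sk K)) ⟶ X

/-- A torus commuting with a maximal torus lies in it. -/
theorem exists_factor_of_comm_maxTorus {G T R : Over (Sk K)} [GrpObj G] [GrpObj T] [GrpObj R] [IsAffine G.left]
    [LocallyOfFiniteType G.hom] {iT : T ⟶ G} (hT : AGF.IsMaxTorus iT) (hR : Red.IsTorus R) (u : R ⟶ G) [IsMonHom u]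
    (h : ∀ {X : Over (Sk K)} (r : X ⟶ R) (t : X ⟶ T), (r ≫ u) * (t ≫ iT) = (t ≫ iT) * (r ≫ u)) :
    ∃ w : R ⟶ T, w ≫ iT = u := by
  haveI := hT.1; haveI := hT.2.1
  haveI := isClosedImmersion_torus iT hT.2.2.1
  obtain ⟨hRa, hRs, -⟩ := torus_props R hR
  haveI := hRa; haveI := hRs
  haveI : AlgebraicGeometry.IsReduced R.left := Groth.Agent.H13AlgSp.isReduced_of_smooth_mor R.hom
  haveI : LocallyOfFiniteType R.hom := inferInstance
  obtain ⟨r, e, co, he, -, hprod, -⟩ := exists_cochars R hR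
  refine exists_factor_pts iT u fun y => ?_
  obtain ⟨z, hz⟩ := comp_mem_of_cochars u e co hprod (postHom iT).range (fun i s => by
    haveI := he i
    obtain ⟨t, ht⟩ := hmax_of_isMaxTorus hT (e i ≫ u) (fun a t => by
      show _ * _ = _ * _
      rw [← Category.assoc]
      exact h _ _) s
    exact ⟨t, ht.trans (Category.assoc _ _ _).symm⟩) y
  exact ⟨z, hz⟩

/-- If the preimage of a maximal torus is commutative and a power map lands in a subtorus, that subtorus is a
maximal torus. -/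
theorem isMaxTorus_of_preimage {G Q T Y TQ : Over (Sk K)} [GrpObj G] [GrpObj Q] [GrpObj T] [GrpObj Y] [GrpObj TQ]
    [IsAffine Q.left] [LocallyOfFiniteType Q.hom] (q : G ⟶ Q) [IsMonHom q] {tQ : TQ ⟶ Q} (htQ : AGF.IsMaxTorus tQ)
    (iY : Y ⟶ G) [IsMonHom iY] [Mono iY] (q' : Y ⟶ TQ) [IsMonHom q'] [Flat q'.left] [Surjective q'.left]
    [LocallyOfFiniteType Y.hom]
    (hsq : IsPullback q' iY tQ q) (t : T ⟶ Y) [IsMonHom t] [Mono t] (hT : Red.IsTorus T)
    (k : ℕ) (hk : 0 < k) (f' : Y ⟶ T) (hf' : f' ≫ t = (𝟙 Y : Y ⟶ Y) ^ k) :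
    AGF.IsMaxTorus (t ≫ iY) := by
  haveI := htQ.1; haveI := htQ.2.1
  refine ⟨inferInstance, inferInstance, hT, fun T' _ j _ _ f hT' hf => ?_⟩
  obtain ⟨hTQa, hTQs, -⟩ := torus_props TQ htQ.2.2.1
  haveI := hTQs
  haveI : LocallyOfFiniteType TQ.hom := inferInstance
  obtain ⟨hpf, hps⟩ := flat_surjective_pow htQ.2.2.1 k hk
  haveI := hpf; haveI := hps
  let ρ : Y ⟶ TQ := q' ≫ (𝟙 TQ : TQ ⟶ TQ) ^ k
  haveI : Flat ρ.left := by rw [show ρ.left = q'.left ≫ ((𝟙 TQ : TQ ⟶ TQ) ^ k).left from rfl]; infer_instance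
  haveI : Surjective ρ.left := by rw [show ρ.left = q'.left ≫ ((𝟙 TQ : TQ ⟶ TQ) ^ k).left from rfl]; infer_instance
  haveI : LocallyOfFiniteType ρ.left := by
    haveI : LocallyOfFiniteType (ρ.left ≫ TQ.hom) := by rw [Over.w ρ]; infer_instance
    exact locallyOfFiniteType_of_comp ρ.left TQ.hom
  haveI : IsLocallyNoetherian TQ.left := LocallyOfFiniteType.isLocallyNoetherian TQ.hom
  haveI : LocallyOfFinitePresentation ρ.left := inferInstance
  have hcomm : ∀ {X : Over (Sk K)} (r : X ⟶ T') (s : X ⟶ TQ),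
      (r ≫ j ≫ q) * (s ≫ tQ) = (s ≫ tQ) * (r ≫ j ≫ q) := by
    intro X r s
    obtain ⟨X', p, a, hpf', hps', hpl', hap⟩ := H21Quot.exists_lift_cover ρ s
    haveI := hpf'; haveI := hps'; haveI := hpl'
    refine eq_of_cover p ?_
    rw [MonObj.comp_mul, MonObj.comp_mul]
    have h1 : p ≫ s ≫ tQ = (((a ≫ f') ≫ f) ≫ j) ≫ q := by
      have e1 : ρ ≫ tQ = (iY ≫ q) ^ k := by
        rw [show ρ ≫ tQ = q' ≫ ((𝟙 TQ : TQ ⟶ TQ) ^ k) ≫ tQ from Category.assoc _ _ _, MonObj.pow_comp,
          Category.id_comp, Groth.Agent.H21Diag.comp_pow, hsq.w]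
      have e2 : ((f' ≫ f) ≫ j) ≫ q = (iY ≫ q) ^ k := by
        rw [Category.assoc f' f j, hf, ← Category.assoc f' t iY, hf', MonObj.pow_comp, Category.id_comp,
          MonObj.pow_comp]
      rw [← Category.assoc p, ← hap, Category.assoc, e1, ← e2]
      simp only [Category.assoc]
    rw [h1, ← Category.assoc p r, ← Category.assoc (p ≫ r) j, ← MonObj.mul_comp, ← MonObj.mul_comp,
      ← MonObj.mul_comp, ← MonObj.mul_comp, H21Diag.mult_comm (H21Diag.isMultTypeFT_of_isTorus hT') (p ≫ r)]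
  obtain ⟨w₀, hw₀⟩ := exists_factor_of_comm_maxTorus htQ hT' (j ≫ q) hcomm
  obtain ⟨y₀, -, hy₀⟩ := hsq.exists_lift w₀ j hw₀
  haveI : IsMonHom y₀ := H21Diag.isMonHom_of_mul _ fun {X} a b => by
    rw [← cancel_mono iY, MonObj.mul_comp (a ≫ y₀) (b ≫ y₀) iY]
    simp only [Category.assoc, hy₀]
    exact MonObj.mul_comp a b j
  obtain ⟨hpf', hps'⟩ := flat_surjective_pow hT' k hk
  haveI := hpf'; haveI := hps'
  obtain ⟨hT'a, hT's, -⟩ := torus_props T' hT'
  haveI := hT's
  haveI : IsLocallyNoetherian T'.left := LocallyOfFiniteType.isLocallyNoetherian T'.hom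
  haveI : LocallyOfFiniteType ((𝟙 T' : T' ⟶ T') ^ k).left := by
    haveI : LocallyOfFiniteType (((𝟙 T' : T' ⟶ T') ^ k).left ≫ T'.hom) := by rw [Over.w]; infer_instance
    exact locallyOfFiniteType_of_comp _ T'.hom
  haveI : LocallyOfFinitePresentation ((𝟙 T' : T' ⟶ T') ^ k).left := inferInstance
  obtain ⟨w, hw⟩ := H21Quot.exists_factor_of_cover t ((𝟙 T' : T' ⟶ T') ^ k) (y₀ ≫ f') y₀ (by
    rw [Category.assoc, hf', comp_idPow, MonObj.pow_comp, Category.id_comp])
  refine ⟨w, ?_, ?_⟩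
  · rw [← cancel_mono (t ≫ iY), Category.assoc, Category.id_comp, ← Category.assoc w t iY, hw, hy₀, hf]
  · rw [← cancel_mono j, Category.assoc, Category.id_comp, hf, ← Category.assoc w t iY, hw, hy₀]

end Groth.Agent.LeadTorus
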