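import Groth.Agent.LeadTorus.SmallGrp
import Groth.Agent.LeadTorus.CentralLift
import Groth.Agent.LeadTorus.NonCentral
import Groth.Agent.LeadTorus.MaxPreimage
import Groth.Agent.H19Mult.TorsionTranslates
import Groth.Agent.H19Quot.LargestNormal
import Groth.Agent.H19Chev.SmoothQuotient
import Groth.Agent.H19Grp.AffineQuotient
import Groth.Agent.H22Alg.FibreCount
import Groth.Agent.H20Borel.CartanBorel
import Groth.Agent.S5431
import Groth.Agent.H3CAlg.ConeProd

/-!
# Maximal tori over an infinite field of positive characteristic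
-/

set_option autoImplicit false
set_option linter.style.haveILetI false
set_option backward.isDefEq.respectTransparency false
set_option maxHeartbeats 2000000
set_option synthInstance.maxHeartbeats 400000

universe u

open CategoryTheory CategoryTheory.Limits MonoidalCategory CartesianMonoidalCategory MonObj AlgebraicGeometry
open Groth.Agent.H27Witt H20Mu H20Conj

noncomputable section

namespace Groth.Agent.LeadTorus

/-- Central homomorphisms from groups of multiplicative type lie in all maximal tori. -/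
theorem centralInMaxTorus (K : Type u) [Field K] [IsAlgClosed K] : CentralInMaxTorus K := by
  intro G _ _ _ _ T _ iT hT H _ hH u _ hu
  haveI : IsAffineHom H.hom := H21Diag.isAffineHom_of_multTypeFT hH
  haveI : IsAffine H.left := isAffine_of_isAffineHom H.hom
  obtain ⟨A, _, _, ⟨e⟩⟩ := H21Hom.exists_hopf_model H
  have hA := H21Hom.isMultTypeFT_of_iso hH e
  have hlft : LocallyOfFiniteType (Spec.map (CommRingCat.ofHom (algebraMap K A))) := H21Diag.lft_of_multTypeFT hA
  rw [HasRingHomProperty.Spec_iff (P := @LocallyOfFiniteType)] at hlft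
  have hft := RingHom.finiteType_algebraMap.mp hlft
  obtain ⟨M, _, -, ⟨ε⟩⟩ := H19Mult.TorsionTranslates.exists_chart_of_isAlgClosed hft (H21Hom.isMultType_of_specGrp hA)
  let e' : H ≅ CoactBr.sp K A := (Grp.forget _).mapIso e
  exact H20Borel.exists_factor_maxTorus_of_central hT
    ⟨A, inferInstance, inferInstance, e', e.hom.hom.isMonHom_hom, H20Borel.isDiagonalizable_of_equiv ε⟩ u hu

/-- There is a maximal torus over an algebraically closed field. -/
theorem exists_isMaxTorus_algClosed {K : Type u} [Field K] [IsAlgClosed K] (G : Over (Sk K)) [GrpObj G]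
    [IsAffine G.left] [Smooth G.hom] :
    ∃ (T : Over (Sk K)) (_ : GrpObj T) (iT : T ⟶ G), AGF.IsMaxTorus iT := by
  obtain ⟨T, gT, iT, hiT, hci, hT, hmax⟩ := H20Borel.exists_maxTorus (G := G)
  letI := gT; haveI := hiT; haveI := hci
  exact ⟨T, gT, iT, H20Borel.isMaxTorus_of_hmax iT hT hmax⟩

section Bc

variable {S S' : Scheme.{u}} (z : S' ⟶ S)

theorem map_idPow (A : Over S) [GrpObj A] (n : ℕ) :
    (Over.pullback z).map ((𝟙 A : A ⟶ A) ^ n) = (𝟙 (Red.bc z A) : Red.bc z A ⟶ Red.bc z A) ^ n := by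
  induction n with
  | zero => rw [pow_zero, pow_zero]; exact Functor.map_one _
  | succ n ih =>
    rw [pow_succ, pow_succ]
    refine (Functor.map_mul (Over.pullback z) _ _).trans ?_
    rw [ih, CategoryTheory.Functor.map_id]

theorem bc_central {H G : Over S} [GrpObj G] (v : H ⟶ G)
    (hv : ∀ (X : Over S) (x : X ⟶ H) (g : X ⟶ G), (x ≫ v) * g = g * (x ≫ v))
    (X : Over S') (x : X ⟶ Red.bc z H) (g : X ⟶ Red.bc z G) :
    (x ≫ (Over.pullback z).map v) * g = g * (x ≫ (Over.pullback z).map v) := by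
  apply (H21Diag.bcEquiv z G X).symm.injective
  rw [H21Diag.bcEquiv_symm_mul, H21Diag.bcEquiv_symm_mul,
    show (H21Diag.bcEquiv z G X).symm (x ≫ (Over.pullback z).map v) = (H21Diag.bcEquiv z H X).symm x ≫ v from
      (Over.mapPullbackAdj z).homEquiv_naturality_right_symm x v]
  exact hv _ _ _

theorem bc_kernel_lift {M G Q : Over S} [GrpObj Q] (v : M ⟶ G) (q : G ⟶ Q)
    (hlift : ∀ (T : Over S) (x : T ⟶ G), x ≫ q = 1 → ∃ w : T ⟶ M, w ≫ v = x)
    (X : Over S') (x : X ⟶ Red.bc z G) (hx : x ≫ (Over.pullback z).map q = 1) :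
    ∃ w : X ⟶ Red.bc z M, w ≫ (Over.pullback z).map v = x := by
  obtain ⟨w, hw⟩ := hlift _ _ ((H21Diag.comp_bcMap_eq_one_iff z q x).1 hx)
  refine ⟨H21Diag.bcEquiv z M X w, ?_⟩
  rw [show H21Diag.bcEquiv z M X w ≫ (Over.pullback z).map v = H21Diag.bcEquiv z G X (w ≫ v) from
    ((Over.mapPullbackAdj z).homEquiv_naturality_right w v).symm, hw]
  exact (H21Diag.bcEquiv z G X).apply_symm_apply x

end Bc

/-- The groups of the induction. -/
def HasMax {k : Type u} [Field k] (G : Over (Spec (CommRingCat.of k))) [GrpObj G] : Prop :=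
  ∃ (T : Over (Spec (CommRingCat.of k))) (_ : GrpObj T) (iT : T ⟶ G), Red.IsMaximalTorus iT

/-- A torus of the geometric fibre has a cocharacter which is not central on the roots of unity of order `p ^ n`. -/
def Lvl (p : ℕ) (n : ℕ) {k : Type u} [Field k] (G : Over (Spec (CommRingCat.of k))) [GrpObj G] : Prop :=
  ∃ (T : Over (Sk (AlgebraicClosure k))) (_ : GrpObj T) (iT : T ⟶ Red.bc (zMap k (AlgebraicClosure k)) G)
    (_ : IsMonHom iT) (_ : Mono iT) (_ : Red.IsTorus T) (e : Red.Gm (Sk (AlgebraicClosure k)) ⟶ T) (_ : IsMonHom e),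
      ¬ IsCentralHom (muι (AlgebraicClosure k) (p ^ n) ≫ e ≫ iT)

theorem not_lvl_zero (p : ℕ) {k : Type u} [Field k] (G : Over (Spec (CommRingCat.of k))) [GrpObj G] : ¬ Lvl p 0 G := by
  rintro ⟨T, _, iT, _, _, -, e, _, h⟩
  refine h fun X x g => ?_
  have h1 : muι (AlgebraicClosure k) (p ^ 0) = 1 := by
    have := muι_pow (K := AlgebraicClosure k) (q := p ^ 0)
    generalize p ^ 0 = m, pow_zero p = hm at this
    subst hm
    rwa [pow_one] at this
  rw [h1, MonObj.one_comp, MonObj.comp_one, _root_.one_mul, _root_.mul_one]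

/-- The dimension of a group is not increased by a faithfully flat quotient. -/
theorem dim_quotient_le {k : Type u} [Field k] {G Q : Over (Spec (CommRingCat.of k))} [LocallyOfFiniteType G.hom]
    [LocallyOfFiniteType Q.hom] [QuasiCompact Q.hom] (q : G ⟶ Q) [Surjective q.left] :
    topologicalKrullDim ↥Q.left ≤ topologicalKrullDim ↥G.left := by
  haveI : LocallyOfFiniteType q.left := by
    haveI : LocallyOfFiniteType (q.left ≫ Q.hom) := by rw [Over.w q]; infer_instance
    exact locallyOfFiniteType_of_comp q.left Q.hom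
  have h := Groth.Agent.H22Alg.FibreCount.add_dim_le G.hom Q.hom q.left (Over.w q) 0 fun ξ _ => by
    obtain ⟨x, hx⟩ := q.left.surjective ξ
    let x' : (q.left ⁻¹' {ξ} : Set G.left) := ⟨x, hx⟩
    haveI : Nonempty (TopologicalSpace.IrreducibleCloseds (q.left ⁻¹' {ξ} : Set G.left)) :=
      ⟨⟨closure {x'}, isIrreducible_singleton.closure, isClosed_closure⟩⟩
    exact Order.krullDim_nonneg
  simpa using h

theorem connectedSpace_of_torus {k : Type u} [Field k] {T : Over (Spec (CommRingCat.of k))} [GrpObj T]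
    (hT : Red.IsTorus T) : ConnectedSpace T.left := by
  let z := zMap k (AlgebraicClosure k)
  obtain ⟨-, -, hc⟩ := H20Borel.torus_props (Red.bc z T) (H21Diag.isTorus_bc hT z)
  haveI : ConnectedSpace (pullback T.hom z : Scheme.{u}) := hc
  haveI : Surjective z := ⟨fun x => ⟨IsLocalRing.closedPoint _, Subsingleton.elim (α := PrimeSpectrum k) _ _⟩⟩
  haveI : Surjective (pullback.fst T.hom z) := MorphismProperty.pullback_fst (P := @Surjective) _ _ inferInstance
  exact (pullback.fst T.hom z).surjective.connectedSpace (pullback.fst T.hom z).continuous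

variable {k : Type u} [Field k] [Infinite k] (p : ℕ) [Fact p.Prime] [CharP k p]

theorem hasMax_of_lvl (G : Over (Spec (CommRingCat.of k))) [GrpObj G] [IsAffine G.left] [Smooth G.hom]
    [ConnectedSpace G.left] (n : ℕ)
    (IHd : ∀ (Z : Over (Spec (CommRingCat.of k))) [GrpObj Z] [IsAffine Z.left] [Smooth Z.hom] [ConnectedSpace Z.left],
      topologicalKrullDim ↥Z.left + 1 ≤ topologicalKrullDim ↥G.left → HasMax Z)
    (IHn : ∀ (Z : Over (Spec (CommRingCat.of k))) [GrpObj Z] [IsAffine Z.left] [Smooth Z.hom] [ConnectedSpace Z.left],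
      topologicalKrullDim ↥Z.left ≤ topologicalKrullDim ↥G.left → Lvl p n Z → HasMax Z)
    (h : Lvl p (n + 1) G) : HasMax G := by
  let K := AlgebraicClosure k
  let z := zMap k K
  let F := Over.pullback z
  haveI := (Over.mapPullbackAdj z).isRightAdjoint
  haveI : Surjective z := ⟨fun x => ⟨IsLocalRing.closedPoint K, Subsingleton.elim (α := PrimeSpectrum k) _ _⟩⟩
  haveI : CharP K p := charP_of_injective_algebraMap (algebraMap k K).injective p
  haveI : NeZero p := ⟨(Fact.out : p.Prime).ne_zero⟩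
  haveI : LocallyOfFiniteType G.hom := inferInstance
  haveI : QuasiCompact G.hom := inferInstance
  obtain ⟨H, gH, v, hv, hvc, hH, hHc, hcase⟩ := exists_small_subgroup k p G
  letI := gH; haveI := hv; haveI := hvc; haveI := hHc
  by_cases hcen : ∀ (X : Over (Spec (CommRingCat.of k))) (x : X ⟶ H) (g : X ⟶ G), (x ≫ v) * g = g * (x ≫ v)
  swap
  · exact exists_of_noncentral k (centralInMaxTorus K) G (fun Z _ _ _ _ hZ => IHd Z hZ) H hH v hcen
  have hfac := hcase.resolve_left fun h => h hcen
  haveI : Mono v := Over.mono_of_mono_left _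
  obtain ⟨Q, gQ, q, hqm, hQlft, hQqc, hqf, hqs, hql, hker⟩ := H19Quot.exists_quotientGroup v fun T g x =>
    ⟨x, by rw [← hcen T x g, mul_inv_cancel_right]⟩
  letI := gQ; haveI := hqm; haveI := hQlft; haveI := hQqc; haveI := hqf; haveI := hqs; haveI := hql
  haveI : IsAffine Q.left := H19Grp.AffineQuotient.isAffine_of_flat_surjective G Q q
  obtain ⟨hQs, hQc⟩ := H19Chev.smooth_connected_quotient q
  haveI := hQs; haveI := hQc
  -- the geometric fibre
  haveI : IsAffine (Red.bc z G).left := H20Borel.isAffine_bc z G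
  haveI : Smooth (Red.bc z G).hom := H20Borel.smooth_bc z G
  haveI : ConnectedSpace (Red.bc z G).left := H20Borel.connected_bc z G
  haveI : IsAffine (Red.bc z Q).left := H20Borel.isAffine_bc z Q
  haveI : Smooth (Red.bc z Q).hom := H20Borel.smooth_bc z Q
  haveI := H21Diag.isMonHom_map z q
  haveI := H21Diag.isMonHom_map z v
  obtain ⟨T, gT, iT, hiT, hiTm, hT, e, he, hnc⟩ := h
  letI := gT; haveI := hiT; haveI := hiTm; haveI := he
  haveI : IsMonHom (e ≫ iT) := inferInstance
  obtain ⟨w, hw⟩ := hfac K (muι K p ≫ e ≫ iT)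
  have hkill : muι K p ≫ (e ≫ iT) ≫ F.map q = 1 := by
    have h1 : (F.map v) ≫ F.map q = 1 :=
      (H21Diag.comp_bcMap_eq_one_iff z q (F.map v)).2 (by
        have e1 : (H21Diag.bcEquiv z G (Red.bc z H)).symm (F.map v) =
            (H21Diag.bcEquiv z H (Red.bc z H)).symm (𝟙 _) ≫ v := by
          have := (Over.mapPullbackAdj z).homEquiv_naturality_right_symm (𝟙 (Red.bc z H)) v
          rwa [Category.id_comp] at this
        rw [e1, Category.assoc, H19Grp.kernel_comp_eq_one hker, MonObj.comp_one])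
    rw [← Category.assoc, ← hw, Category.assoc, h1, MonObj.comp_one]
  haveI : IsMonHom ((e ≫ iT) ≫ F.map q) := inferInstance
  obtain ⟨d', hd'm, hd'⟩ := exists_cochar_desc p ((e ≫ iT) ≫ F.map q) hkill
  haveI := hd'm
  obtain ⟨TQ', gTQ', j, hj, hjm, hTQ', hjd⟩ := exists_torus (fun _ : Fin 1 => d') fun _ _ s t => by
    show _ * _ = _ * _
    rw [← MonObj.mul_comp, ← MonObj.mul_comp, mul_comm_gm]
  letI := gTQ'; haveI := hj; haveI := hjm
  obtain ⟨d'', hd''⟩ := hjd 0
  haveI : IsMonHom d'' := H20Borel.isMonHom_of_comp_mono d'' j (hd''.symm ▸ hd'm)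
  have hlvl : Lvl p n Q := by
    refine ⟨TQ', gTQ', j, hj, hjm, hTQ', d'', inferInstance, fun hc => hnc ?_⟩
    rw [hd''] at hc
    exact central_lift (F.map v) (bc_central z v hcen) (F.map q)
      (bc_kernel_lift z v q fun T x hx => H19Grp.kernel_lift hker x hx) iT hT e p d' hd' n hc
  obtain ⟨TQ, gTQ, t₀, ht₀⟩ := IHn Q (dim_quotient_le q) hlvl
  letI := gTQ
  obtain ⟨ht₀h, ht₀m, hTQ, -⟩ := id ht₀
  haveI := ht₀h; haveI := ht₀m
  haveI : IsAffineHom Q.hom := inferInstance
  haveI : IsClosedImmersion t₀.left := H21Diag.isClosedImmersion_of_mono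
    (H21Diag.isDiagLoc_of_isMultTypeFT (H21Diag.isMultTypeFT_of_isTorus hTQ)) inferInstance t₀
  obtain ⟨Y, gY, iY, q', hiY, hq', hiYc, hsq⟩ := H19Quot.exists_preimageGroup q t₀
  letI := gY; haveI := hiY; haveI := hq'; haveI := hiYc
  haveI : Mono iY := Over.mono_of_mono_left _
  obtain ⟨iH, hiH, -, hkerY⟩ := H19Quot.exists_kernel_preimage hsq hker
  haveI := hiH
  haveI : IsPullback q'.left iY.left t₀.left q.left := hsq.map (Over.forget _)
  haveI : Flat q'.left := MorphismProperty.of_isPullback ‹IsPullback q'.left iY.left t₀.left q.left›.flip ‹Flat q.left›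
  haveI : Surjective q'.left :=
    MorphismProperty.of_isPullback ‹IsPullback q'.left iY.left t₀.left q.left›.flip ‹Surjective q.left›
  haveI : QuasiCompact q.left := by
    haveI : QuasiCompact (q.left ≫ Q.hom) := by rw [Over.w q]; infer_instance
    exact QuasiCompact.of_comp q.left Q.hom
  haveI : QuasiCompact q'.left :=
    MorphismProperty.of_isPullback ‹IsPullback q'.left iY.left t₀.left q.left›.flip ‹QuasiCompact q.left›
  haveI := connectedSpace_of_torus hTQ
  have hY : SGA3x.IsMultTypeFT Y := S5431.result _ Y H TQ q' iH hkerY hH (H21Diag.isMultTypeFT_of_isTorus hTQ)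
    (Or.inr fun s => by
      have : TQ.hom.base ⁻¹' {s} = Set.univ :=
        Set.eq_univ_of_forall fun x => Subsingleton.elim (α := PrimeSpectrum k) _ _
      rw [this]; exact isConnected_univ)
  obtain ⟨TY, gTY, t, m, f, f', ht, htc, hTY, hmc, hmpos, hf, hf'⟩ := H21Diag.exists_maxTorus hY
  letI := gTY; haveI := ht; haveI := htc
  haveI : Mono t := Over.mono_of_mono_left _
  let s₀ : Spec (CommRingCat.of k) := IsLocalRing.closedPoint k
  have hfp : f = (𝟙 Y : Y ⟶ Y) ^ m s₀ := by
    have h := hf (m s₀) (𝟙 Y) fun _ => congrArg m (Subsingleton.elim (α := PrimeSpectrum k) _ _)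
    rwa [Category.id_comp] at h
  haveI : Mono (t ≫ iY) := mono_comp _ _
  refine ⟨TY, gTY, t ≫ iY, H21Diag.isMaximalTorus_of_bc (t ≫ iY) hTY z inferInstance (isMaximalTorus_of_isMaxTorus ?_)⟩
  haveI := H21Diag.isMonHom_map z t
  haveI := H21Diag.isMonHom_map z iY
  haveI := H21Diag.isMonHom_map z q'
  haveI : Flat (F.map q').left := H21Diag.flat_bcMap z q'
  haveI : Surjective (F.map q').left := H21Diag.surjective_bcMap z q'
  haveI : LocallyOfFiniteType (Red.bc z Y).hom :=
    H21Diag.lft_of_multTypeFT (H21Diag.isMultTypeFT_bc hY z)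
  rw [Functor.map_comp]
  refine isMaxTorus_of_preimage (F.map q)
    (H20Conj.isMaxTorus_of_isMaximalTorus (H21Diag.isMaximalTorus_bc hQs inferInstance t₀ z ht₀))
    (F.map iY) (F.map q') (hsq.map F) (F.map t) (H21Diag.isTorus_bc hTY z) (m s₀) (hmpos _) (F.map f') ?_
  rw [← Functor.map_comp, hf', hfp, map_idPow]

end Groth.Agent.LeadTorus
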