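import Groth.Agent.H21RCentre.Main
import Groth.Agent.H21Diag.CentralFactor
import Groth.Agent.H21Diag.Locus
import Groth.Agent.H19Grp.PointsSeries
import Groth.Agent.H19Grp.ClopenTrivial

/-!
# Subgroups of multiplicative type of a connected nilpotent group are central
-/

set_option autoImplicit false
set_option linter.style.haveILetI false
set_option linter.unusedSectionVars false
set_option backward.isDefEq.respectTransparency false
set_option maxHeartbeats 1000000
set_option synthInstance.maxHeartbeats 400000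

universe u

open CategoryTheory CategoryTheory.Limits MonoidalCategory CartesianMonoidalCategory MonObj AlgebraicGeometry
open scoped commutatorElement

noncomputable section

namespace Groth.Agent.LeadTorus

open Groth.Agent.H21Diag

variable {k : Type u} [Field k]

local notation "Sch" => Over (Spec (CommRingCat.of k))

/-- A family of points whose commutators with a group of multiplicative type form homomorphisms, and
which is trivial along a section with connected fibres, commutes with that group. -/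
theorem commute_of_family {G M : Sch} [GrpObj G] [GrpObj M] [LocallyOfFiniteType G.hom] [IsSeparated G.hom]
    [GeometricallyConnected G.hom] (hM : SGA3x.IsMultTypeFT M) (m : M ⟶ G) [IsMonHom m] {X : Sch} (w : X ⊗ G ⟶ G)
    (hw : lift (𝟙 X) (1 : X ⟶ G) ≫ w = 1)
    (hc : ∀ (Y : Sch) (y : Y ⟶ X ⊗ G) (a b : Y ⟶ M), (a ≫ m) * ⁅b ≫ m, y ≫ w⁆ = ⁅b ≫ m, y ≫ w⁆ * (a ≫ m))
    (Y : Sch) (y : Y ⟶ X ⊗ G) (a : Y ⟶ M) : (a ≫ m) * (y ≫ w) = (y ≫ w) * (a ≫ m) := by
  let π : (X ⊗ G).left ⟶ Spec (CommRingCat.of k) := (X ⊗ G).hom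
  let ψ : M ⊗ Over.mk π ⟶ G := ⁅fst M (Over.mk π) ≫ m, snd M (Over.mk π) ≫ w⁆
  have hψev : ∀ {Z : Sch} (c : Z ⟶ M) (t : Z ⟶ Over.mk π), lift c t ≫ ψ = ⁅c ≫ m, t ≫ w⁆ := fun c t => by
    simp only [ψ, commutatorElement_def, MonObj.comp_mul, GrpObj.comp_inv, lift_fst_assoc, lift_snd_assoc]
  have hψ : AutFam.IsHomFamily M G ψ := fun Z a b t => by
    rw [hψev, hψev, hψev]
    have hexp : ∀ c d : Z ⟶ M, ⁅(c * d) ≫ m, t ≫ w⁆ = ⁅d ≫ m, t ≫ w⁆ * ⁅c ≫ m, t ≫ w⁆ := fun c d => by
      have h := hc Z t c d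
      rw [MonObj.mul_comp, show ⁅(c ≫ m) * (d ≫ m), t ≫ w⁆ = (c ≫ m) * ⁅d ≫ m, t ≫ w⁆ * (c ≫ m)⁻¹ * ⁅c ≫ m, t ≫ w⁆ by
        simp only [commutatorElement_def]; group, h]
      group
    rw [mult_comm hM a b, hexp]
  let u := ofFam π ψ
  haveI : IsMonHom u := isMonHom_ofFam π ψ hψ
  haveI : IsSeparated (Red.bc π G).hom := MorphismProperty.pullback_snd (P := @IsSeparated) _ _ ‹_›
  haveI : IsNoetherianRing (CommRingCat.of k) := inferInstanceAs (IsNoetherianRing k)
  haveI : LocallyOfFinitePresentation G.hom := inferInstance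
  haveI : LocallyOfFinitePresentation (Red.bc π G).hom :=
    MorphismProperty.pullback_snd (P := @LocallyOfFinitePresentation) _ _ ‹_›
  haveI : LocallyOfFinitePresentation (Limits.pullback.diagonal (Red.bc π G).hom) := S4599.result (Red.bc π G).hom
  obtain ⟨U, hUc, hU, hU1⟩ := exists_trivial_locus u (isMultTypeFT_bc hM π) inferInstance
  let e : X ⟶ X ⊗ G := lift (𝟙 X) 1
  have hsec : ∀ x : X.left, e.left x ∈ U := fun x => by
    let z : Spec (X.left.residueField x) ⟶ (X ⊗ G).left := X.left.fromSpecResidueField x ≫ e.left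
    have hz : z.base (IsLocalRing.closedPoint _) = e.left x := by
      show e.left ((X.left.fromSpecResidueField x).base _) = _
      rw [Scheme.fromSpecResidueField_apply]
    rw [← hz]
    refine (hU _).2 (trivAt_of_field u z fun Z p g => ?_)
    apply (bcEquiv π G (Over.mk (p ≫ z))).symm.injective
    change bcHom π G (Over.mk (p ≫ z)) _ = bcHom π G (Over.mk (p ≫ z)) 1
    rw [map_one, bcHom_ofFam, hψev]
    have hs : (strTo π (Over.mk (p ≫ z)) : (Over.map π).obj (Over.mk (p ≫ z)) ⟶ Over.mk π) =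
        (Over.homMk (p ≫ X.left.fromSpecResidueField x) (by
          show (p ≫ X.left.fromSpecResidueField x) ≫ X.hom = (p ≫ z) ≫ π
          rw [← Over.w e]
          simp only [z, π, Category.assoc]) : (Over.map π).obj (Over.mk (p ≫ z)) ⟶ X) ≫ e := by
      ext : 1
      exact (Category.assoc p (X.left.fromSpecResidueField x) e.left).symm
    have hw1 : (strTo π (Over.mk (p ≫ z)) : (Over.map π).obj (Over.mk (p ≫ z)) ⟶ Over.mk π) ≫ w = 1 := by
      rw [hs]
      exact (Category.assoc _ e w).trans ((congrArg _ hw).trans (MonObj.comp_one _))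
    refine (congrArg (⁅_, ·⁆) hw1).trans ?_
    exact commutatorElement_one_right _
  have hall : ∀ p : (X ⊗ G).left, p ∈ U := fun p => by
    let q : (X ⊗ G).left ⟶ X.left := pullback.fst X.hom G.hom
    haveI : GeometricallyConnected q := MorphismProperty.pullback_fst (P := @GeometricallyConnected) _ _ ‹_›
    have hq : q (e.left (q p)) = q p := by
      rw [← Scheme.Hom.comp_apply, show e.left ≫ q = 𝟙 _ from
        congrArg (fun m => m.left) (lift_fst (𝟙 X) (1 : X ⟶ G))]
      rfl
    exact (q.isConnected_preimage_singleton (q p)).isPreconnected.subset_isClopen ⟨hUc, U.isOpen⟩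
      ⟨e.left (q p), hq, hsec _⟩ rfl
  have hu : u = 1 := by
    have hr : Set.range (Red.bc π M).hom.base ⊆ Set.range U.ι.base := fun p _ => by
      rw [Scheme.Opens.range_ι]; exact hall p
    have h := comp_eq_one_of_pullback U.ι u hU1 (IsOpenImmersion.lift U.ι (Red.bc π M).hom hr)
      (IsOpenImmersion.lift_fac _ _ _) (Over.homMk (𝟙 _) : Over.mk (Red.bc π M).hom ⟶ Red.bc π M)
    ext : 1
    have h' := congrArg (fun m => m.left) h
    simpa using h'
  let t : Y ⟶ Over.mk π := y
  obtain ⟨d, hd⟩ := exists_pack π t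
  let P : Over (X ⊗ G).left := Over.mk t.left
  have h2 := congrArg (bcHom π G P) (show (bcEquiv π M P (d.inv ≫ a)) ≫ u = 1 by rw [hu, MonObj.comp_one])
  rw [bcHom_ofFam, map_one, show bcHom π M P (bcEquiv π M P (d.inv ≫ a)) = d.inv ≫ a from
    (bcEquiv π M P).symm_apply_apply _] at h2
  have h3 := congrArg (d.hom ≫ ·) h2
  simp only [MonObj.comp_one] at h3
  rw [← Category.assoc, comp_lift, Iso.hom_inv_id_assoc] at h3
  have h4 : d.hom ≫ strTo π P = t := by
    ext : 1
    rw [Over.comp_left, hd]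
    exact Category.id_comp _
  rw [h4, hψev, commutatorElement_eq_one_iff_mul_comm] at h3
  exact h3

/-- Subgroups of multiplicative type of a connected nilpotent algebraic group are central. -/
theorem central_of_nilpotent {G M : Sch} [GrpObj G] [GrpObj M] [LocallyOfFiniteType G.hom] [IsSeparated G.hom]
    [ConnectedSpace G.left] {n : ℕ} (hn : ∀ X : Sch, (⊤ : Subgroup (X ⟶ G)).lowerCentralSeries n = ⊥)
    (hM : SGA3x.IsMultTypeFT M) (m : M ⟶ G) [IsMonHom m] (X : Sch) (x : X ⟶ M) (g : X ⟶ G) :
    (x ≫ m) * g = g * (x ≫ m) := by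
  haveI : GeometricallyConnected G.hom := H28NT.geometricallyConnected_of_section G.hom η[G].left (Over.w η[G])
  let L : ∀ j (X : Sch), Subgroup (X ⟶ G) := fun j X => (⊤ : Subgroup (X ⟶ G)).lowerCentralSeries j
  suffices h : ∀ i j, j + i = n → ∀ (X : Sch) (x : X ⟶ M) (g : X ⟶ G), g ∈ L j X →
      (x ≫ m) * g = g * (x ≫ m) from h n 0 (Nat.zero_add n) X x g (Subgroup.mem_top g)
  intro i
  induction i with
  | zero =>
    intro j hj X x g hg
    rw [show j = n from hj] at hg
    rw [show g = 1 from Subgroup.mem_bot.mp (hn X ▸ hg), _root_.mul_one, _root_.one_mul]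
  | succ i ih =>
    intro j hj
    have hstep : ∀ {X : Sch} (w : X ⊗ G ⟶ G), lift (𝟙 X) (1 : X ⟶ G) ≫ w = 1 → w ∈ L j (X ⊗ G) →
        ∀ (Y : Sch) (y : Y ⟶ X ⊗ G) (a : Y ⟶ M), (a ≫ m) * (y ≫ w) = (y ≫ w) * (a ≫ m) := fun {X} w hw hwL =>
      commute_of_family hM m w hw fun Y y a b => ih (j + 1) (by omega) Y a _ (by
        have h1 : y ≫ w ∈ L j Y := H19Grp.PointsSeries.natural_lowerCentralSeries j y ⟨w, hwL, rfl⟩
        have h2 : ⁅y ≫ w, b ≫ m⁆ ∈ L (j + 1) Y := Subgroup.commutator_mem_commutator h1 (Subgroup.mem_top _)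
        rw [← commutatorElement_inv]
        exact inv_mem h2)
    rcases j with _ | j
    · intro X x g _
      have h := hstep (snd (𝟙_ Sch) G) (lift_snd _ _) (Subgroup.mem_top _) X (lift (toUnit X) g) x
      rwa [lift_snd] at h
    · intro X x g hg
      have hle : L (j + 1) X ≤ Subgroup.centralizer {x ≫ m} := by
        refine Subgroup.commutator_le.mpr fun a ha b _ => ?_
        rw [Subgroup.mem_centralizer_singleton_iff]
        have h := hstep ⁅fst X G ≫ a, snd X G⁆ (by
            simp only [commutatorElement_def, MonObj.comp_mul, GrpObj.comp_inv, lift_fst_assoc, lift_snd,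
              Category.id_comp]
            group)
          (Subgroup.commutator_mem_commutator (H19Grp.PointsSeries.natural_lowerCentralSeries j (fst X G) ⟨a, ha, rfl⟩)
            (Subgroup.mem_top _)) X (lift (𝟙 X) b) x
        have hev : lift (𝟙 X) b ≫ ⁅fst X G ≫ a, snd X G⁆ = ⁅a, b⁆ := by
          simp only [commutatorElement_def, MonObj.comp_mul, GrpObj.comp_inv, lift_fst_assoc, lift_snd, Category.id_comp]
        rw [hev] at h
        exact h.symm
      exact (Subgroup.mem_centralizer_singleton_iff.mp (hle hg)).symm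

end Groth.Agent.LeadTorus
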