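import Groth.Agent.LeadTorus.DualSub
import Groth.Agent.H19Mult.FiniteDual
import Groth.Agent.H21Hom.Bridge
import Groth.Agent.H20Comod.Reynolds
import Mathlib.RingTheory.Etale.Field
import Mathlib.RingTheory.Kaehler.Basic
import Mathlib.FieldTheory.Separable

/-!
# Commuting point derivations satisfying separable equations generate a group of multiplicative type
-/

set_option autoImplicit false
set_option linter.style.haveILetI false
set_option backward.isDefEq.respectTransparency false
set_option maxHeartbeats 1000000

universe u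

open TensorProduct WithConv Coalgebra
open Groth.Agent.H20OT

noncomputable section

namespace Groth.Agent.LeadTorus

variable (k : Type u) [Field k] (A : Type u) [CommRing A] [HopfAlgebra k A]

/-- The point derivations at the identity. -/
def derSpace : Submodule k (WithConv (A →ₗ[k] k)) where
  carrier := {e | IsPointDer e.ofConv}
  zero_mem' := fun a b => by simp
  add_mem' := fun {f g} hf hg a b => by
    simp only [WithConv.ofConv_add, LinearMap.add_apply, hf a b, hg a b]; ring
  smul_mem' := fun c f hf a b => by
    simp only [WithConv.ofConv_smul, LinearMap.smul_apply, smul_eq_mul, hf a b]; ring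

variable {k A}

theorem mem_derSpace {e : WithConv (A →ₗ[k] k)} : e ∈ derSpace k A ↔ IsPointDer e.ofConv := Iff.rfl

theorem pointDer_eq_of_adjoin {e e' : A →ₗ[k] k} (he : IsPointDer e) (he' : IsPointDer e') {s : Set A}
    (hs : Algebra.adjoin k s = ⊤) (h : Set.EqOn e e' s) : e = e' := by
  refine LinearMap.ext fun a => ?_
  induction (show a ∈ Algebra.adjoin k s from hs ▸ Algebra.mem_top) using Algebra.adjoin_induction with
  | mem x hx => exact h hx
  | algebraMap c => rw [pointDer_algebraMap he, pointDer_algebraMap he']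
  | add x y _ _ hx hy => rw [map_add, map_add, hx, hy]
  | mul x y _ _ hx hy => rw [he, he', hx, hy]

instance derSpace_finite [Algebra.FiniteType k A] : FiniteDimensional k (derSpace k A) := by
  obtain ⟨s, hs⟩ := (inferInstance : Algebra.FiniteType k A).out
  let L : derSpace k A →ₗ[k] (s → k) :=
    { toFun := fun e a => e.1.ofConv a.1
      map_add' := fun e e' => rfl
      map_smul' := fun c e => rfl }
  refine FiniteDimensional.of_injective L fun e e' h => Subtype.ext (WithConv.ofConv_injective ?_)
  exact pointDer_eq_of_adjoin e.2 e'.2 hs fun a ha => congrFun h ⟨a, ha⟩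

theorem pow_char_pow_mem_derSpace (p : ℕ) [Fact p.Prime] [CharP k p] {e : WithConv (A →ₗ[k] k)}
    (he : e ∈ derSpace k A) : ∀ n : ℕ, e ^ p ^ n ∈ derSpace k A
  | 0 => by rwa [pow_zero, pow_one]
  | n + 1 => by
    rw [pow_succ, pow_mul]
    exact isPointDer_pow_char p (pow_char_pow_mem_derSpace p he n)

theorem exists_relation_of_finite {R : Type u} [Ring R] [Algebra k R] (D : Submodule k R) [FiniteDimensional k D]
    (v : ℕ → R) (hv : ∀ i, v i ∈ D) :
    ∃ a : Fin (Module.finrank k D + 1) → k, (∑ i, a i • v i) = 0 ∧ ∃ i, a i ≠ 0 := by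
  have hdep : ¬ LinearIndependent k (fun i : Fin (Module.finrank k D + 1) => (⟨v i, hv i⟩ : D)) := fun hv' => by
    have h := hv'.fintype_card_le_finrank
    rw [Fintype.card_fin] at h
    omega
  obtain ⟨a, ha, hi⟩ := Fintype.not_linearIndependent_iff.1 hdep
  refine ⟨a, ?_, hi⟩
  have h := congrArg D.subtype ha
  rw [map_sum, map_zero] at h
  simpa using h

open Polynomial in
theorem exists_separable_of_relation (p : ℕ) [Fact p.Prime] [CharP k p] {R : Type u} [Ring R] [Algebra k R]
    (e : R) {N : ℕ} (a : Fin (N + 1) → k) (hsum : (∑ i, a i • e ^ p ^ (i : ℕ)) = 0) (hne : ∃ i, a i ≠ 0) :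
    ∃ Q : k[X], Q.Separable ∧ aeval (e ^ p ^ N) Q = 0 := by
  classical
  -- the least index with a nonzero coefficient
  obtain ⟨r, hr, hmin⟩ := Finset.exists_min_image (Finset.univ.filter fun i => a i ≠ 0) id
    (hne.elim fun i hi => ⟨i, by simpa using hi⟩)
  simp only [Finset.mem_filter, Finset.mem_univ, true_and, id_eq] at hr hmin
  have hrN : (r : ℕ) ≤ N := Nat.lt_succ_iff.1 r.2
  let b : Fin (N + 1) → k := fun i => a i ^ p ^ (N - r)
  let Q : k[X] := ∑ i, C (b i) * X ^ p ^ ((i : ℕ) - r)
  refine ⟨Q, ?_, ?_⟩
  · have hd : derivative Q = C (b r) := by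
      simp only [Q, derivative_sum, derivative_C_mul_X_pow]
      rw [Finset.sum_eq_single r]
      · simp
      · intro i _ hir
        by_cases hai : a i = 0
        · simp [b, hai, zero_pow (pow_pos (Fact.out : p.Prime).pos _).ne']
        · have : (r : ℕ) < i := lt_of_le_of_ne (hmin i hai) fun h => hir (Fin.ext h.symm)
          have hp0 : ((p ^ ((i : ℕ) - r) : ℕ) : k) = 0 := by
            rw [Nat.cast_pow, CharP.cast_eq_zero, zero_pow (by omega)]
          rw [hp0, mul_zero, map_zero, zero_mul]
      · simp
    rw [separable_def, hd]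
    exact ⟨0, C (b r)⁻¹, by rw [zero_mul, zero_add, ← C_mul, inv_mul_cancel₀ (pow_ne_zero _ hr), C_1]⟩
  · have hR : aeval e (∑ i, C (a i) * X ^ p ^ (i : ℕ)) = 0 := by
      simpa [map_sum, map_mul, aeval_C, aeval_X, map_pow, ← Algebra.smul_def] using hsum
    have hRp : (∑ i, C (a i) * X ^ p ^ (i : ℕ)) ^ p ^ (N - r) = Q.comp (X ^ p ^ N) := by
      rw [sum_pow_char_pow, sum_comp]
      refine Finset.sum_congr rfl fun i _ => ?_
      rw [mul_comp, C_comp, pow_comp, X_comp, mul_pow, ← C_pow, ← pow_mul, ← pow_mul, ← pow_add, ← pow_add]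
      by_cases hai : a i = 0
      · simp [b, hai, zero_pow (pow_pos (Fact.out : p.Prime).pos _).ne']
      · have := hmin i hai
        rw [show N + ((i : ℕ) - r) = (i : ℕ) + (N - r) by omega]
    have h := congrArg (aeval e) hRp
    rw [map_pow, hR, zero_pow (pow_pos (Fact.out : p.Prime).pos _).ne', aeval_comp, map_pow, aeval_X] at h
    exact h.symm

/-- A high enough `p`-power of a point derivation satisfies a separable equation. -/
theorem exists_separable_aeval_pow (p : ℕ) [Fact p.Prime] [CharP k p] [Algebra.FiniteType k A]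
    {e : WithConv (A →ₗ[k] k)} (he : e ∈ derSpace k A) :
    ∃ Q : Polynomial k, Q.Separable ∧ Polynomial.aeval (e ^ p ^ Module.finrank k (derSpace k A)) Q = 0 := by
  obtain ⟨a, hsum, hne⟩ := exists_relation_of_finite (derSpace k A) (fun i => e ^ p ^ i) (pow_char_pow_mem_derSpace p he)
  exact exists_separable_of_relation p e a hsum hne

/-- The antipode reverses products of functionals. -/
theorem mul_comp_antipode (f g : WithConv (A →ₗ[k] k)) :
    toConv ((f * g).ofConv ∘ₗ HopfAlgebra.antipode k) =
      toConv (g.ofConv ∘ₗ HopfAlgebra.antipode k) * toConv (f.ofConv ∘ₗ HopfAlgebra.antipode k) := by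
  refine WithConv.ofConv_injective (LinearMap.ext fun a => ?_)
  simp only [ofConv_toConv, LinearMap.comp_apply, LinearMap.convMul_apply]
  rw [H20Comod.comul_antipode]
  induction comul (R := k) a using TensorProduct.induction_on with
  | zero => simp
  | tmul x y => simp [mul_comm]
  | add x y hx hy => simp only [map_add, hx, hy]

/-- The antipode negates point derivations. -/
theorem comp_antipode_eq_neg {e : WithConv (A →ₗ[k] k)} (he : e ∈ derSpace k A) :
    toConv (e.ofConv ∘ₗ HopfAlgebra.antipode k) = -e := by
  refine WithConv.ofConv_injective (LinearMap.ext fun a => ?_)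
  have h := congrArg e.ofConv (HopfAlgebra.sum_antipode_mul_eq_algebraMap_counit (ℛ k a))
  rw [map_sum, pointDer_algebraMap he] at h
  have he' : ∀ x y, e.ofConv (x * y) = e.ofConv x * counit (R := k) y + counit (R := k) x * e.ofConv y := he
  simp only [he', Finset.sum_add_distrib, HopfAlgebra.counit_antipode] at h
  have h1 : ∑ i ∈ (ℛ k a).index, e.ofConv (HopfAlgebra.antipode k ((ℛ k a).left i)) * counit (R := k) ((ℛ k a).right i) =
      e.ofConv (HopfAlgebra.antipode k a) := by
    have := congrArg (TensorProduct.rid k A) (Coalgebra.sum_tmul_counit_eq (ℛ k a))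
    simp only [map_sum, TensorProduct.rid_tmul, one_smul] at this
    conv_rhs => rw [← this]
    simp [map_sum, mul_comm]
  have h2 : ∑ i ∈ (ℛ k a).index, counit (R := k) ((ℛ k a).left i) * e.ofConv ((ℛ k a).right i) = e.ofConv a := by
    conv_rhs => rw [← Coalgebra.sum_counit_smul (ℛ k a)]
    simp [map_sum]
  rw [h1, h2] at h
  show e.ofConv (HopfAlgebra.antipode k a) = -(e.ofConv a)
  exact eq_neg_of_add_eq_zero_left h

theorem map_mem_adjoin_of_eq_add {R T : Type u} [Ring R] [Algebra k R] [Ring T] [Algebra k T] (P f g : R →ₐ[k] T)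
    (S : Set R) (h : ∀ e ∈ S, P e = f e + g e) :
    ∀ x ∈ Algebra.adjoin k S,
      P x ∈ Algebra.adjoin k (f '' (Algebra.adjoin k S : Set R) ∪ g '' (Algebra.adjoin k S : Set R)) := by
  intro x hx
  refine (Algebra.adjoin_le (S := (Algebra.adjoin k (f '' (Algebra.adjoin k S : Set R) ∪
    g '' (Algebra.adjoin k S : Set R))).comap P) ?_) hx
  intro e he
  rw [SetLike.mem_coe, Subalgebra.mem_comap]
  rw [h e he]
  exact add_mem (Algebra.subset_adjoin (Or.inl ⟨e, Algebra.subset_adjoin he, rfl⟩))
    (Algebra.subset_adjoin (Or.inr ⟨e, Algebra.subset_adjoin he, rfl⟩))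

/-- An algebra of functionals generated by point derivations splits products. -/
theorem splits_adjoin {S : Set (WithConv (A →ₗ[k] k))} (hS : S ⊆ derSpace k A) :
    Splits (Algebra.adjoin k S) := by
  exact map_mem_adjoin_of_eq_add (preMul k A) (iFst k A) (iSnd k A) S fun e he => preMul_eq (mem_derSpace.1 (hS he))

theorem antipode_mem_adjoin {S : Set (WithConv (A →ₗ[k] k))} (hS : S ⊆ derSpace k A) {f : WithConv (A →ₗ[k] k)}
    (hf : f ∈ Algebra.adjoin k S) : toConv (f.ofConv ∘ₗ HopfAlgebra.antipode k) ∈ Algebra.adjoin k S := by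
  induction hf using Algebra.adjoin_induction with
  | mem x hx => rw [comp_antipode_eq_neg (hS hx)]; exact neg_mem (Algebra.subset_adjoin hx)
  | algebraMap c =>
    convert Subalgebra.algebraMap_mem (Algebra.adjoin k S) c using 1
    refine WithConv.ofConv_injective (LinearMap.ext fun a => ?_)
    simp [Algebra.algebraMap_eq_smul_one, LinearMap.convOne_apply]
  | add x y _ _ hx hy =>
    convert add_mem hx hy using 1
    exact WithConv.ofConv_injective (LinearMap.ext fun a => rfl)
  | mul x y _ _ hx hy => rw [mul_comp_antipode]; exact mul_mem hy hx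

open Polynomial in
/-- A commutative algebra generated by roots of separable polynomials is finite étale. -/
theorem etale_of_separable_gens {B : Type u} [CommRing B] [Algebra k B] {s : Set B} (hfin : s.Finite)
    (hs : Algebra.adjoin k s = ⊤) (hsep : ∀ x ∈ s, ∃ Q : k[X], Q.Separable ∧ aeval x Q = 0) :
    Module.Finite k B ∧ Algebra.Etale k B := by
  classical
  haveI hft : Algebra.FiniteType k B := ⟨⟨hfin.toFinset, by rw [hfin.coe_toFinset, hs]⟩⟩
  have hint : ∀ x ∈ s, IsIntegral k x := fun x hx => by
    obtain ⟨Q, hQ, hQx⟩ := hsep x hx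
    exact IsAlgebraic.isIntegral ⟨Q, hQ.ne_zero, hQx⟩
  haveI : Module.Finite k B := by
    haveI := Algebra.IsIntegral.adjoin (R := k) hint
    haveI : Algebra.IsIntegral k B := by
      constructor
      intro b
      have hb : b ∈ Algebra.adjoin k s := hs ▸ Algebra.mem_top
      exact (Algebra.IsIntegral.isIntegral (R := k) (⟨b, hb⟩ : Algebra.adjoin k s)).map (Subalgebra.val _)
    exact Algebra.IsIntegral.finite
  haveI : Algebra.FormallyUnramified k B := by
    refine ⟨?_⟩
    have h0 : ∀ x : B, KaehlerDifferential.D k B x = 0 := by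
      intro x
      induction (show x ∈ Algebra.adjoin k s from hs ▸ Algebra.mem_top) using Algebra.adjoin_induction with
      | mem x hx =>
        obtain ⟨Q, hQ, hQx⟩ := hsep x hx
        have h := Derivation.map_aeval (KaehlerDifferential.D k B) Q x
        rw [hQx, map_zero] at h
        obtain ⟨u, v, huv⟩ := hQ
        have huv' := congrArg (aeval x) huv
        rw [map_add, map_mul, map_mul, hQx, mul_zero, zero_add, map_one] at huv'
        have := congrArg (fun t => aeval x v • t) h
        simp only [smul_zero, smul_smul, huv', one_smul] at this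
        exact this.symm
      | algebraMap c => exact Derivation.map_algebraMap _ _
      | add x y _ _ hx hy => rw [map_add, hx, hy, add_zero]
      | mul x y _ _ hx hy => rw [Derivation.leibniz, hx, hy, smul_zero, smul_zero, add_zero]
    refine subsingleton_of_forall_eq 0 fun ω => ?_
    have hω : ω ∈ Submodule.span B (Set.range (KaehlerDifferential.D k B)) := by
      rw [KaehlerDifferential.span_range_derivation]; exact Submodule.mem_top
    induction hω using Submodule.span_induction with
    | mem ω hω => obtain ⟨x, rfl⟩ := hω; exact h0 x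
    | zero => rfl
    | add x y _ _ hx hy => rw [hx, hy, add_zero]
    | smul c x _ hx => rw [hx, smul_zero]
  haveI : Algebra.FormallyEtale k B := Algebra.FormallyEtale.of_formallyUnramified_of_field k B
  haveI : Algebra.FinitePresentation k B := (Algebra.FinitePresentation.of_finiteType).1 hft
  exact ⟨inferInstance, ⟨inferInstance, inferInstance⟩⟩

open Polynomial in
/-- Commuting point derivations satisfying separable equations generate a finite isotrivial quotient Hopf algebra
of multiplicative type. -/
theorem exists_multType_quotient [Algebra.FiniteType k A] {S : Set (WithConv (A →ₗ[k] k))} (hS : S ⊆ derSpace k A)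
    (hcomm : ∀ a ∈ S, ∀ b ∈ S, a * b = b * a) (hsep : ∀ x ∈ S, ∃ Q : k[X], Q.Separable ∧ aeval x Q = 0) :
    ∃ (C : Type u) (_ : CommRing C) (_ : HopfAlgebra k C) (φ : A →ₐc[k] C),
      Function.Surjective φ ∧ FiniteDimensional k C ∧ Coalgebra.IsCocomm k C ∧ SGA3b.IsIsotrivial k C ∧
      ∃ e : CartDual.D k C ≃ₐ[k] Algebra.adjoin k S, ∀ d a, (e d).1.ofConv a = d.ofConv (φ a) := by
  classical
  obtain ⟨b, hbS, hspan, hli⟩ := exists_linearIndependent k S
  have hbfin : b.Finite := by
    have h1 : Submodule.span k b ≤ derSpace k A := Submodule.span_le.2 (hbS.trans hS)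
    haveI : FiniteDimensional k (Submodule.span k b) := Submodule.finiteDimensional_of_le h1
    have hr : Submodule.span k (Set.range (Subtype.val : b → WithConv (A →ₗ[k] k))) ≤ derSpace k A := by
      rw [Subtype.range_coe]; exact h1
    haveI := Submodule.finiteDimensional_of_le hr
    exact Set.finite_coe_iff.1 (Module.Finite.finite_basis (Module.Basis.span hli))
  have hadj : Algebra.adjoin k S = Algebra.adjoin k b := by
    refine le_antisymm (Algebra.adjoin_le fun x hx => ?_) (Algebra.adjoin_mono hbS)
    have : x ∈ Submodule.span k b := hspan ▸ Submodule.subset_span hx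
    exact Algebra.span_le_adjoin k b this
  letI : CommRing (Algebra.adjoin k S) := Algebra.adjoinCommRingOfComm k hcomm
  let g : Set (Algebra.adjoin k S) := {x | x.1 ∈ b}
  obtain ⟨hfin, het⟩ : Module.Finite k (Algebra.adjoin k S) ∧ Algebra.Etale k (Algebra.adjoin k S) := by
    refine etale_of_separable_gens (s := g) (hbfin.preimage Subtype.val_injective.injOn) ?_ fun x hx => ?_
    · refine Subalgebra.map_injective (f := (Algebra.adjoin k S).val) Subtype.val_injective ?_
      rw [AlgHom.map_adjoin, Algebra.map_top, Subalgebra.range_val]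
      have himg : (Algebra.adjoin k S).val '' g = b := by
        refine Set.eq_of_subset_of_subset (by rintro _ ⟨x, hx, rfl⟩; exact hx) fun x hx => ?_
        exact ⟨⟨x, Algebra.subset_adjoin (hbS hx)⟩, hx, rfl⟩
      rw [himg, hadj]
    · obtain ⟨Q, hQ, hQx⟩ := hsep x.1 (hbS hx)
      exact ⟨Q, hQ, Subtype.val_injective ((aeval_algHom_apply (Algebra.adjoin k S).val x Q).symm.trans hQx)⟩
  haveI := hfin
  haveI := het
  obtain ⟨C, _, _, φ, hφ, _, hco, e, he⟩ := exists_quotient (Algebra.adjoin k S) (splits_adjoin hS)
    (fun f hf => antipode_mem_adjoin hS hf) fun f hf g hg =>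
      congrArg Subtype.val (mul_comm (⟨f, hf⟩ : Algebra.adjoin k S) ⟨g, hg⟩)
  haveI := hco
  haveI : Algebra.Etale k (CartDual.D k C) := Algebra.Etale.of_equiv e.symm
  exact ⟨C, _, _, φ, hφ, inferInstance, hco, H19Mult.isIsotrivial_of_etale_dual, e, he⟩

end Groth.Agent.LeadTorus
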