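import Groth.Agent.LeadTorus.SmallSub
import Groth.Agent.LeadTorus.Assemble

/-!
# A small subgroup of multiplicative type containing all subgroups `μ_p`
-/

set_option autoImplicit false
set_option linter.style.haveILetI false
set_option backward.isDefEq.respectTransparency false
set_option maxHeartbeats 1000000
set_option synthInstance.maxHeartbeats 200000

universe u

open TensorProduct WithConv Coalgebra
open CategoryTheory MonoidalCategory CartesianMonoidalCategory MonObj GrpObj AlgebraicGeometry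
open Groth.Agent.H20OT

noncomputable section

namespace Groth.Agent.LeadTorus

section BcSpec

variable {k : Type u} [Field k] (K : Type u) [Field K] [Algebra k K]

/-- The structure map of a field extension. -/
abbrev zMap (k : Type u) [Field k] (K : Type u) [Field K] [Algebra k K] :
    Spec (CommRingCat.of K) ⟶ Spec (CommRingCat.of k) :=
  Spec.map (CommRingCat.ofHom (algebraMap k K))

/-- The base change of the spectrum of a Hopf algebra. -/
def bcSpec (A : Type u) [CommRing A] [HopfAlgebra k A] :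
    Red.bc (zMap k K) (H21Hom.specGrp k A) ⟶ H21Hom.specGrp K (K ⊗[k] A) :=
  (Limits.pullbackSymmetry _ _ ≪≫ pullbackSpecIso' k K A).hom.asOver (Spec (CommRingCat.of K))

instance isMonHom_bcSpec (A : Type u) [CommRing A] [HopfAlgebra k A] : IsMonHom (bcSpec (k := k) K A) :=
  inferInstanceAs (IsMonHom
    ((Limits.pullbackSymmetry _ _ ≪≫ pullbackSpecIso' k K A).hom.asOver (Spec (CommRingCat.of K))))

instance isIso_bcSpec (A : Type u) [CommRing A] [HopfAlgebra k A] : IsIso (bcSpec (k := k) K A) := by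
  haveI : IsIso (bcSpec (k := k) K A).left :=
    inferInstanceAs (IsIso (Limits.pullbackSymmetry _ _ ≪≫ pullbackSpecIso' k K A).hom)
  exact H21Diag.isIso_of_left _

theorem bcIso_inv_fst (A : Type u) [CommRing A] [HopfAlgebra k A] :
    (Limits.pullbackSymmetry _ _ ≪≫ pullbackSpecIso' k K A).inv ≫
        Limits.pullback.fst (Spec (CommRingCat.of A) ↘ Spec (CommRingCat.of k)) (Spec (CommRingCat.of K) ↘ Spec (CommRingCat.of k)) =
      Spec.map (CommRingCat.ofHom (Algebra.TensorProduct.includeRight : A →ₐ[k] K ⊗[k] A).toRingHom) := by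
  rw [Iso.trans_inv, Category.assoc, Limits.pullbackSymmetry_inv_comp_fst]
  exact pullbackSpecIso_inv_snd k K A

theorem bcIso_inv_snd (A : Type u) [CommRing A] [HopfAlgebra k A] :
    (Limits.pullbackSymmetry _ _ ≪≫ pullbackSpecIso' k K A).inv ≫
        Limits.pullback.snd (Spec (CommRingCat.of A) ↘ Spec (CommRingCat.of k)) (Spec (CommRingCat.of K) ↘ Spec (CommRingCat.of k)) =
      Spec.map (CommRingCat.ofHom (Algebra.TensorProduct.includeLeftRingHom : K →+* K ⊗[k] A)) := by
  rw [Iso.trans_inv, Category.assoc, Limits.pullbackSymmetry_inv_comp_snd]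
  exact pullbackSpecIso_inv_fst k K A

theorem bcSpec_natural {A C : Type u} [CommRing A] [HopfAlgebra k A] [CommRing C] [HopfAlgebra k C] (φ : A →ₐc[k] C) :
    bcSpec K C ≫ H19Chev.LargestMult.specHom (Bialgebra.TensorProduct.map (BialgHom.id K K) φ) =
      (Over.pullback (zMap k K)).map (H19Chev.LargestMult.specHom φ) ≫ bcSpec K A := by
  refine Over.OverMorphism.ext ?_
  let iA := Limits.pullbackSymmetry (Spec (CommRingCat.of A) ↘ Spec (CommRingCat.of k)) _ ≪≫ pullbackSpecIso' k K A
  let iC := Limits.pullbackSymmetry (Spec (CommRingCat.of C) ↘ Spec (CommRingCat.of k)) _ ≪≫ pullbackSpecIso' k K C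
  let ψ := Spec.map (CommRingCat.ofHom (Bialgebra.TensorProduct.map (BialgHom.id K K) φ : K ⊗[k] A →ₐ[K] K ⊗[k] C).toRingHom)
  let P := ((Over.pullback (zMap k K)).map (H19Chev.LargestMult.specHom φ)).left
  show iC.hom ≫ ψ = P ≫ iA.hom
  rw [← Iso.eq_inv_comp, ← Category.assoc, ← Iso.comp_inv_eq]
  refine Limits.pullback.hom_ext ?_ ?_
  · have hP : P ≫ Limits.pullback.fst _ _ = Limits.pullback.fst _ _ ≫ (H19Chev.LargestMult.specHom φ).left :=
      Limits.pullback.lift_fst _ _ _
    rw [Category.assoc, Category.assoc]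
    refine (congrArg (ψ ≫ ·) (bcIso_inv_fst K A)).trans ?_
    refine Eq.trans ?_ (congrArg (iC.inv ≫ ·) hP).symm
    refine Eq.trans ?_ (congrArg (· ≫ (H19Chev.LargestMult.specHom φ).left) (bcIso_inv_fst K C)).symm |>.trans
      (Category.assoc _ _ _)
    rw [H19Chev.LargestMult.specHom_left, ← Spec.map_comp]
    refine Eq.trans ?_ (Spec.map_comp _ _)
    congr 1
  · have hP : P ≫ Limits.pullback.snd _ _ = Limits.pullback.snd _ _ := Limits.pullback.lift_snd _ _ _
    rw [Category.assoc, Category.assoc]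
    refine (congrArg (ψ ≫ ·) (bcIso_inv_snd K A)).trans ?_
    refine Eq.trans ?_ ((congrArg (iC.inv ≫ ·) hP).trans (bcIso_inv_snd K C)).symm
    rw [← Spec.map_comp]
    congr 1
    exact CommRingCat.hom_ext (RingHom.ext fun a => congrArg (a ⊗ₜ[k] ·) (map_one φ))

end BcSpec

/-- A closed subgroup of multiplicative type, connected, which is either not central or contains every subgroup
`μ_p` of the base changes. -/
theorem exists_small_subgroup (k : Type u) [Field k] [Infinite k] (p : ℕ) [Fact p.Prime] [CharP k p]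
    (G : Over (Spec (CommRingCat.of k))) [GrpObj G] [IsAffine G.left] [LocallyOfFiniteType G.hom] :
    ∃ (H : Over (Spec (CommRingCat.of k))) (_ : GrpObj H) (v : H ⟶ G), IsMonHom v ∧ IsClosedImmersion v.left ∧
      SGA3x.IsMultTypeFT H ∧ ConnectedSpace H.left ∧
      ((¬ ∀ (X : Over (Spec (CommRingCat.of k))) (x : X ⟶ H) (g : X ⟶ G), (x ≫ v) * g = g * (x ≫ v)) ∨
        ∀ (K : Type u) [Field K] [Algebra k K] (u : muGrp K p ⟶ Red.bc (zMap k K) G) [IsMonHom u],
          ∃ w : muGrp K p ⟶ Red.bc (zMap k K) H, w ≫ (Over.pullback (zMap k K)).map v = u) := by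
  classical
  obtain ⟨A, _, _, ⟨e⟩⟩ := H21Hom.exists_hopf_model G
  let eG : G ≅ H21Hom.specGrp k A := (Grp.forget _).mapIso e
  haveI : IsMonHom eG.hom := e.hom.hom.isMonHom_hom
  haveI : IsMonHom eG.inv := e.inv.hom.isMonHom_hom
  haveI : IsIso eG.inv.left := inferInstanceAs (IsIso ((Over.forget _).map eG.inv))
  haveI : LocallyOfFiniteType (H21Hom.specGrp k A).hom := by rw [← Over.w eG.inv]; infer_instance
  haveI : Algebra.FiniteType k A := by
    have h : LocallyOfFiniteType (Spec.map (CommRingCat.ofHom (algebraMap k A))) :=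
      (inferInstance : LocallyOfFiniteType (H21Hom.specGrp k A).hom)
    rw [HasRingHomProperty.Spec_iff (P := @LocallyOfFiniteType)] at h
    exact RingHom.finiteType_algebraMap.mp h
  let N := Module.finrank k (derSpace k A)
  let E : Set (WithConv (A →ₗ[k] k)) := (fun e => e ^ p ^ N) '' (derSpace k A : Set (WithConv (A →ₗ[k] k)))
  have hE : E ⊆ derSpace k A := by rintro _ ⟨e, he, rfl⟩; exact pow_char_pow_mem_derSpace p he N
  have hsepE : ∀ x ∈ E, ∃ Q : Polynomial k, Q.Separable ∧ Polynomial.aeval x Q = 0 := by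
    rintro _ ⟨e, he, rfl⟩; exact exists_separable_aeval_pow p he
  -- the group of a commuting family
  have build : ∀ S : Set (WithConv (A →ₗ[k] k)), S ⊆ E → (∀ a ∈ S, ∀ b ∈ S, a * b = b * a) →
      ∃ (C : Type u) (_ : CommRing C) (_ : HopfAlgebra k C) (φ : A →ₐc[k] C), Function.Surjective φ ∧
        SGA3x.IsMultTypeFT (H21Hom.specGrp k C) ∧ ConnectedSpace (H21Hom.specGrp k C).left ∧
        ∀ a ∈ S, a ∈ Set.range (pullFun φ) := by
    intro S hS hcomm
    obtain ⟨C, _, _, φ, hφ, hfd, -, ⟨R', _, _, -, -, hff, M, _, hd⟩, e', he'⟩ :=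
      exists_multType_quotient (hS.trans hE) hcomm fun x hx => hsepE x (hS hx)
    haveI := hfd
    have hC : SGA3b.IsMultType k C :=
      H19Chev.LargestMult.isMultType_of_isMultTypeConst ⟨R', inferInstance, inferInstance, hff, M, inferInstance, hd⟩
    have hpull : ∀ d, pullFun φ d = (e' d).1 := fun d =>
      WithConv.ofConv_injective (LinearMap.ext fun a => ((he' d a).trans rfl).symm)
    refine ⟨C, _, _, φ, hφ, H21Hom.isMultTypeFT_specGrp inferInstance hC,
      connectedSpace_spec p (hS.trans hE) φ hφ fun d => hpull d ▸ (e' d).2, fun a ha => ?_⟩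
    exact ⟨e'.symm ⟨a, Algebra.subset_adjoin ha⟩, by rw [hpull, AlgEquiv.apply_symm_apply]⟩
  have mk : ∀ (C : Type u) [CommRing C] [HopfAlgebra k C] (φ : A →ₐc[k] C), Function.Surjective φ →
      IsMonHom (H19Chev.LargestMult.specHom φ ≫ eG.inv) ∧
        IsClosedImmersion (H19Chev.LargestMult.specHom φ ≫ eG.inv).left := by
    intro C _ _ φ hφ
    haveI := H19Chev.LargestMult.isClosedImmersion_specHom φ hφ
    refine ⟨inferInstance, ?_⟩
    rw [Over.comp_left]; infer_instance
  by_cases hall : ∀ a ∈ E, ∀ b ∈ E, a * b = b * a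
  · obtain ⟨C, _, _, φ, hφ, hMT, hconn, hS⟩ := build E subset_rfl hall
    refine ⟨H21Hom.specGrp k C, inferInstance, _, (mk C φ hφ).1, (mk C φ hφ).2, hMT, hconn, Or.inr ?_⟩
    intro K _ _ u _
    haveI : CharP K p := charP_of_injective_algebraMap (algebraMap k K).injective p
    let F := Over.pullback (zMap k K)
    haveI := H21Diag.isMonHom_map (zMap k K) eG.hom
    haveI : IsMonHom (u ≫ F.map eG.hom) := inferInstance
    let f : muGrp K p ⟶ H21Hom.specGrp K (K ⊗[k] A) := (u ≫ F.map eG.hom) ≫ bcSpec K A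
    obtain ⟨ψ, hψ⟩ := H21Hom.exists_bialgHom_of_hom f
    have hf : f = H19Chev.LargestMult.specHom ψ :=
      Over.OverMorphism.ext (hψ.trans (H19Chev.LargestMult.specHom_left ψ).symm)
    obtain ⟨χ, hχ⟩ := exists_factor_muP p φ hφ (fun e he => hS _ ⟨e, he, rfl⟩) ψ
    refine ⟨H19Chev.LargestMult.specHom χ ≫ inv (bcSpec K C), ?_⟩
    have hcomp : H19Chev.LargestMult.specHom χ ≫
        H19Chev.LargestMult.specHom (Bialgebra.TensorProduct.map (BialgHom.id K K) φ) = f := by
      rw [hf]
      refine Over.OverMorphism.ext ?_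
      rw [Over.comp_left, H19Chev.LargestMult.specHom_left, H19Chev.LargestMult.specHom_left,
        H19Chev.LargestMult.specHom_left, ← Spec.map_comp]
      congr 1
      exact CommRingCat.hom_ext (RingHom.ext fun a => hχ a)
    rw [← cancel_mono (F.map eG.hom ≫ bcSpec K A)]
    have h1 : F.map (H19Chev.LargestMult.specHom φ ≫ eG.inv) ≫ F.map eG.hom =
        F.map (H19Chev.LargestMult.specHom φ) := by
      rw [← Functor.map_comp, Category.assoc, Iso.inv_hom_id, Category.comp_id]
    calc ((H19Chev.LargestMult.specHom χ ≫ inv (bcSpec K C)) ≫ F.map _) ≫ F.map eG.hom ≫ bcSpec K A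
        = H19Chev.LargestMult.specHom χ ≫ inv (bcSpec K C) ≫
            (F.map (H19Chev.LargestMult.specHom φ) ≫ bcSpec K A) := by
          simp only [Category.assoc]; rw [← Category.assoc (F.map _) (F.map eG.hom), h1]
      _ = f := by rw [← bcSpec_natural, IsIso.inv_hom_id_assoc, hcomp]
      _ = u ≫ F.map eG.hom ≫ bcSpec K A := Category.assoc _ _ _
  · push Not at hall
    obtain ⟨a, ha, b, hb, hab⟩ := hall
    obtain ⟨C, _, _, φ, hφ, hMT, hconn, hS⟩ := build {a} (Set.singleton_subset_iff.2 ha)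
      (by rintro x rfl y rfl; rfl)
    refine ⟨H21Hom.specGrp k C, inferInstance, _, (mk C φ hφ).1, (mk C φ hφ).2, hMT, hconn, Or.inl fun hcen => hab ?_⟩
    obtain ⟨d, rfl⟩ := hS a rfl
    refine (commute_of_central φ (fun X x g => ?_) d b).eq
    rw [← cancel_mono eG.inv, MonObj.mul_comp, MonObj.mul_comp]
    simp only [Category.assoc]
    exact hcen X x _

end Groth.Agent.LeadTorus
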