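import Groth.Agent.LeadTorus.MuPFactor
import Groth.Agent.LeadTorus.Mu
import Groth.Agent.H21Hom.ExtensionLocal

/-!
# The subgroup of multiplicative type cut out by the high powers of derivations
-/

set_option autoImplicit false
set_option linter.style.haveILetI false
set_option backward.isDefEq.respectTransparency false
set_option maxHeartbeats 1000000
set_option synthInstance.maxHeartbeats 100000

universe u

open TensorProduct WithConv Coalgebra
open CategoryTheory MonoidalCategory CartesianMonoidalCategory MonObj GrpObj AlgebraicGeometry
open Groth.Agent.H20OT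

noncomputable section

namespace Groth.Agent.LeadTorus

variable {k : Type u} [Field k] {A : Type u} [CommRing A] [HopfAlgebra k A]
  {C : Type u} [CommRing C] [HopfAlgebra k C]

/-- Functionals generated by point derivations see only the augmentation of a `p`-th power. -/
theorem apply_pow_char (p : ℕ) [Fact p.Prime] [CharP k p] {S : Set (WithConv (A →ₗ[k] k))} (hS : S ⊆ derSpace k A)
    {F : WithConv (A →ₗ[k] k)} (hF : F ∈ Algebra.adjoin k S) (x : A) :
    F.ofConv (x ^ p) = F.ofConv 1 * counit (R := k) x ^ p := by
  induction hF using Algebra.adjoin_induction generalizing x with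
  | mem e he =>
    have he' := mem_derSpace.1 (hS he)
    have h1 : ∀ (n : ℕ) (y : A), e.ofConv (y ^ n) = (n : k) * (counit (R := k) y ^ (n - 1) * e.ofConv y) := by
      intro n y
      induction n with
      | zero => simp [pointDer_one he']
      | succ n ih =>
        rw [pow_succ, he', ih, Bialgebra.counit_pow]
        cases n with
        | zero => simp
        | succ n => simp [pow_succ]; ring
    rw [h1, CharP.cast_eq_zero, zero_mul, pointDer_one he', zero_mul]
  | algebraMap c =>
    simp only [Algebra.algebraMap_eq_smul_one, WithConv.ofConv_smul, LinearMap.smul_apply, LinearMap.convOne_apply,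
      Algebra.algebraMap_self, RingHom.id_apply, smul_eq_mul, Bialgebra.counit_pow, Bialgebra.counit_one]
    ring
  | add F G _ _ hF hG =>
    simp only [WithConv.ofConv_add, LinearMap.add_apply, hF, hG]
    ring
  | mul F G _ _ hF hG =>
    haveI : Nontrivial (A ⊗[k] A) := by
      refine ⟨⟨1, 0, fun h => one_ne_zero (α := k) ?_⟩⟩
      have := congrArg (Algebra.TensorProduct.lift (Bialgebra.counitAlgHom k A) (Bialgebra.counitAlgHom k A)
        fun _ _ => Commute.all _ _) h
      simpa using this
    haveI : CharP (A ⊗[k] A) p := charP_of_injective_algebraMap (algebraMap k (A ⊗[k] A)).injective p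
    haveI : ExpChar (A ⊗[k] A) p := ExpChar.prime (Fact.out : p.Prime)
    have key : ∀ z : A ⊗[k] A, LinearMap.mul' k k (TensorProduct.map F.ofConv G.ofConv (z ^ p)) =
        F.ofConv 1 * G.ofConv 1 *
          (LinearMap.mul' k k (TensorProduct.map (counit (R := k)) (counit (R := k)) z)) ^ p := by
      intro z
      haveI : ExpChar k p := ExpChar.prime (Fact.out : p.Prime)
      induction z using TensorProduct.induction_on with
      | zero => simp [zero_pow (Fact.out : p.Prime).ne_zero]
      | tmul a b =>
        rw [Algebra.TensorProduct.tmul_pow, TensorProduct.map_tmul, LinearMap.mul'_apply, hF, hG,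
          TensorProduct.map_tmul, LinearMap.mul'_apply]
        ring
      | add a b ha hb => rw [add_pow_expChar, map_add, map_add, ha, hb, map_add, map_add, add_pow_expChar]; ring
    rw [LinearMap.convMul_apply, LinearMap.convMul_apply, Bialgebra.comul_pow, key, Bialgebra.comul_one,
      Algebra.TensorProduct.one_def]
    have h2 : LinearMap.mul' k k (TensorProduct.map (counit (R := k)) (counit (R := k)) (comul (R := k) x)) =
        counit (R := k) x := by
      have h3 := congrArg (counit (R := k)) (Coalgebra.sum_counit_smul (ℛ k x))
      simp only [map_sum, map_smul, smul_eq_mul] at h3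
      rw [← (ℛ k x).eq]
      simp [map_sum, h3]
    rw [h2]
    simp

/-- A quotient whose functionals are generated by point derivations has one point. -/
theorem connectedSpace_spec (p : ℕ) [Fact p.Prime] [CharP k p] {S : Set (WithConv (A →ₗ[k] k))} (hS : S ⊆ derSpace k A)
    (φ : A →ₐc[k] C) (hφ : Function.Surjective φ) (hd : ∀ d, pullFun φ d ∈ Algebra.adjoin k S) :
    ConnectedSpace (H21Hom.specGrp k C).left := by
  have hnil : ∀ c : C, counit (R := k) c = 0 → c ^ p = 0 := by
    intro c hc
    obtain ⟨a, rfl⟩ := hφ c
    refine (Module.forall_dual_apply_eq_zero_iff k _).mp fun d => ?_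
    rw [CoalgHomClass.counit_comp_apply] at hc
    rw [← map_pow, show d (φ (a ^ p)) = (pullFun φ (toConv d)).ofConv (a ^ p) from rfl,
      apply_pow_char p hS (hd _), hc, zero_pow (Fact.out : p.Prime).ne_zero, mul_zero]
  haveI : Nontrivial C := (Bialgebra.counitAlgHom k C).toRingHom.domain_nontrivial
  have hsub : ∀ q : PrimeSpectrum C, q.asIdeal = RingHom.ker (Bialgebra.counitAlgHom k C) := fun q => by
    haveI : (RingHom.ker (Bialgebra.counitAlgHom k C)).IsMaximal :=
      RingHom.ker_isMaximal_of_surjective _ fun r => ⟨algebraMap k C r, AlgHom.commutes _ r⟩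
    refine (Ideal.IsMaximal.eq_of_le inferInstance q.isPrime.ne_top fun c hc => ?_).symm
    exact q.isPrime.mem_of_pow_mem p (by rw [hnil c hc]; exact zero_mem _)
  haveI : Subsingleton (PrimeSpectrum C) := ⟨fun q q' => PrimeSpectrum.ext ((hsub q).trans (hsub q').symm)⟩
  haveI : Nonempty (PrimeSpectrum C) := inferInstance
  exact { toPreconnectedSpace := inferInstanceAs (PreconnectedSpace (PrimeSpectrum C)),
          toNonempty := inferInstanceAs (Nonempty (PrimeSpectrum C)) }

end Groth.Agent.LeadTorus
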